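import Groth.Agent.H25AbCube.Basic
import Groth.Agent.H11GenFibre.Main
import Groth.Agent.H29Curve.UFDPic
import Groth.Agent.H25Weilp.Divisor
import Groth.Agent.H8Props.Reduced
import Groth.Agent.H22Alg.FlatSurj
import Mathlib.RingTheory.TensorProduct.MvPolynomial
import Mathlib.RingTheory.Polynomial.UniqueFactorization
import Mathlib.AlgebraicGeometry.Geometrically.Integral

/-!
# Invertible classes on the product of an open of affine space with a variety
-/

set_option autoImplicit false
set_option linter.style.haveILetI false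
set_option backward.isDefEq.respectTransparency false
set_option maxHeartbeats 1000000
set_option synthInstance.maxHeartbeats 100000
universe u

open CategoryTheory CategoryTheory.Limits MonoidalCategory CartesianMonoidalCategory AlgebraicGeometry
open scoped TensorProduct
open Groth.Agent Groth.Agent.H25AbCube

noncomputable section

namespace Groth.Agent.H19Chev

variable (k : Type u) [Field k] (m : ℕ)

/-- Affine space in coordinates. -/
abbrev aff : Over (Spec (CommRingCat.of k)) :=
  Over.mk (Spec.map (CommRingCat.ofHom (algebraMap k (MvPolynomial (Fin m) k))))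

variable {k m}

/-- An open of affine space over the field. -/
abbrev cell (V : (aff k m).left.Opens) : Over (Spec (CommRingCat.of k)) := Over.mk (V.ι ≫ (aff k m).hom)

instance isClosedUnderIsomorphisms_isIntegral :
    ObjectProperty.IsClosedUnderIsomorphisms (IsIntegral : ObjectProperty Scheme.{u}) :=
  ⟨fun {A B} e h => by
    haveI : IsIntegral A := h
    haveI : Nonempty ↥B := ⟨e.hom (Classical.arbitrary A)⟩
    exact isIntegral_of_isOpenImmersion e.inv⟩

instance geometricallyIntegral_aff : GeometricallyIntegral (aff k m).hom := by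
  refine ⟨geometrically_iff_of_isClosedUnderIsomorphisms.2 fun K _ y => ?_⟩
  obtain ⟨ψ, rfl⟩ := Spec.map_surjective y
  letI : Algebra k K := ψ.hom.toAlgebra
  haveI : IsDomain (MvPolynomial (Fin m) k ⊗[k] K) :=
    (((Algebra.TensorProduct.comm k (MvPolynomial (Fin m) k) K).toRingEquiv.trans
      (MvPolynomial.algebraTensorAlgEquiv k K).toRingEquiv).toMulEquiv).isDomain
      (MvPolynomial (Fin m) K)
  haveI : Nonempty ↥(pullback (aff k m).hom (Spec.map ψ)) :=
    ⟨(pullbackSpecIso k (MvPolynomial (Fin m) k) K).inv (Classical.arbitrary _)⟩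
  exact isIntegral_of_isOpenImmersion (pullbackSpecIso k (MvPolynomial (Fin m) k) K).hom

instance (V : (aff k m).left.Opens) : LocallyOfFiniteType (cell V).hom :=
  haveI : LocallyOfFiniteType (aff k m).hom :=
    (HasRingHomProperty.Spec_iff (P := @LocallyOfFiniteType)).mpr
      (RingHom.finiteType_algebraMap.mpr inferInstance)
  inferInstanceAs (LocallyOfFiniteType (V.ι ≫ (aff k m).hom))

instance quasiCompact_cell (V : (aff k m).left.Opens) : QuasiCompact (cell V).hom := by
  haveI : IsNoetherian (aff k m).left := inferInstanceAs (IsNoetherian (Spec (CommRingCat.of (MvPolynomial (Fin m) k))))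
  haveI : CompactSpace ↥(V : Scheme.{u}) := isCompact_iff_compactSpace.mp (TopologicalSpace.NoetherianSpace.isCompact _)
  exact inferInstanceAs (QuasiCompact (V.ι ≫ (aff k m).hom))

theorem geometricallyIntegral_cell (V : (aff k m).left.Opens) [Nonempty V] : GeometricallyIntegral (cell V).hom := by
  refine ⟨geometrically_iff_of_isClosedUnderIsomorphisms.2 fun K _ y => ?_⟩
  haveI : IsIntegral (pullback (aff k m).hom y) :=
    GeometricallyIntegral.geometrically_isIntegral _ _ _ (IsPullback.of_hasPullback _ _)
  let j : pullback (cell V).hom y ⟶ pullback (aff k m).hom y :=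
    pullback.map _ _ _ _ V.ι (𝟙 _) (𝟙 _) (by simp) (by simp)
  haveI : IsOpenImmersion j := MorphismProperty.pullbackMap (P := @IsOpenImmersion)
    (inferInstanceAs (IsOpenImmersion V.ι)) (inferInstanceAs (IsOpenImmersion (𝟙 _))) rfl (Category.id_comp y).symm
  haveI : Surjective y := ⟨fun z => ⟨IsLocalRing.closedPoint K, Subsingleton.elim (α := PrimeSpectrum k) _ _⟩⟩
  haveI : Surjective (pullback.fst (cell V).hom y) := MorphismProperty.pullback_fst (P := @Surjective) _ _ inferInstance
  haveI : Nonempty ↥(pullback (cell V).hom y) :=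
    ⟨((pullback.fst (cell V).hom y).surjective (Classical.arbitrary (α := (V : Scheme.{u})) )).choose⟩
  exact isIntegral_of_isOpenImmersion j

/-- A class on the generic fibre vanishes. -/
theorem subsingleton_fibre (V : (aff k m).left.Opens) [Nonempty V] (K : Type u) [Field K] [Algebra k K]
    (u : PC (pullback (cell V).hom (Spec.map (CommRingCat.ofHom (algebraMap k K))))) : u = 0 := by
  haveI := geometricallyIntegral_cell V
  let y := Spec.map (CommRingCat.ofHom (algebraMap k K))
  haveI : IsIntegral (pullback (cell V).hom y) :=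
    GeometricallyIntegral.geometrically_isIntegral _ _ _ (IsPullback.of_hasPullback _ _)
  let R := K ⊗[k] MvPolynomial (Fin m) k
  haveI : IsDomain R :=
    ((MvPolynomial.algebraTensorAlgEquiv k K).toRingEquiv.toMulEquiv).isDomain (MvPolynomial (Fin m) K)
  haveI : UniqueFactorizationMonoid R :=
    ((MvPolynomial.algebraTensorAlgEquiv k K (σ := Fin m)).toRingEquiv.toMulEquiv).symm.uniqueFactorizationMonoid
      inferInstance
  let j : pullback (cell V).hom y ⟶ Spec (CommRingCat.of R) :=
    pullback.map _ _ _ _ V.ι (𝟙 _) (𝟙 _) (by simp) (by simp [y]) ≫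
      (pullbackSymmetry _ _).hom ≫ (pullbackSpecIso k K (MvPolynomial (Fin m) k)).hom
  haveI : IsOpenImmersion (pullback.map (cell V).hom y (aff k m).hom y V.ι (𝟙 _) (𝟙 _) (by simp) (by simp)) :=
    MorphismProperty.pullbackMap (P := @IsOpenImmersion)
      (inferInstanceAs (IsOpenImmersion V.ι)) (inferInstanceAs (IsOpenImmersion (𝟙 _))) rfl (Category.id_comp y).symm
  haveI : IsOpenImmersion j := inferInstance
  haveI : Nonempty j.opensRange := ⟨⟨j (genericPoint _), _, rfl⟩⟩
  obtain ⟨L, hL, hLu⟩ := exists_rep (pullP j.isoOpensRange.inv u)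
  have h0 : pullP j.isoOpensRange.inv u = 0 := by
    rw [← hLu, ← pc_one]
    exact (pc_eq_iff hL H11Ample.isInvertible_structureModule).2 (H29Curve.UFDPic.nonempty_iso L hL)
  have := congrArg (pullP j.isoOpensRange.hom) h0
  rwa [pullP_pullP, Iso.hom_inv_id, pullP_id, map_zero] at this

/-- A class on the product of a cell and a normal variety which is trivial on a slice is trivial. -/
theorem cell_eq_zero (V : (aff k m).left.Opens) [Nonempty V] (Y : Over (Spec (CommRingCat.of k)))
    [LocallyOfFiniteType Y.hom] [QuasiCompact Y.hom] [GeometricallyIntegral Y.hom]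
    (hY : Pi1.IsNormalScheme Y.left) (v₀ : 𝟙_ (Over (Spec (CommRingCat.of k))) ⟶ cell V)
    (θ : PC (cell V ⊗ Y).left) (h0 : ev θ (lift (toUnit Y ≫ v₀) (𝟙 Y)) = 0) : θ = 0 := by
  haveI := geometricallyIntegral_cell V
  haveI : IsIntegral Y.left := GeometricallyIntegral.isIntegral_of_subsingleton Y.hom
  haveI : LocallyOfFiniteType (cell V ⊗ Y).hom := by
    rw [Over.tensorObj_hom]
    haveI : LocallyOfFiniteType (pullback.fst (cell V).hom Y.hom) :=
      MorphismProperty.pullback_fst (P := @LocallyOfFiniteType) _ _ inferInstance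
    infer_instance
  haveI : IsNoetherianRing (CommRingCat.of k) := inferInstanceAs (IsNoetherianRing k)
  haveI : IsLocallyNoetherian Y.left := LocallyOfFiniteType.isLocallyNoetherian Y.hom
  haveI : IsLocallyNoetherian (cell V ⊗ Y).left := LocallyOfFiniteType.isLocallyNoetherian (cell V ⊗ Y).hom
  haveI : UniversallyOpen Y.hom := inferInstance
  haveI : IsLocallyNoetherian (cell V).left := LocallyOfFiniteType.isLocallyNoetherian (cell V).hom
  haveI : IsIntegral (cell V).left := GeometricallyIntegral.isIntegral_of_subsingleton (cell V).hom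
  haveI : IsIntegral (cell V ⊗ Y).left :=
    inferInstanceAs (IsIntegral (pullback (cell V).hom Y.hom))
  let φ : (cell V ⊗ Y).left ⟶ Y.left := pullback.snd (cell V).hom Y.hom
  haveI : Flat (cell V).hom := inferInstance
  haveI : Flat φ := MorphismProperty.pullback_snd (P := @Flat) _ _ inferInstance
  haveI : LocallyOfFiniteType φ := MorphismProperty.pullback_snd (P := @LocallyOfFiniteType) _ _ inferInstance
  haveI : LocallyOfFinitePresentation φ := inferInstance
  haveI : GeometricallyIntegral φ := MorphismProperty.pullback_snd (P := @GeometricallyIntegral) _ _ inferInstance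
  have hfib : ∀ y : Y.left, IsIntegral (φ.fiber y) := fun y => inferInstance
  have hsurj := H11GenFibre.surjective_of_fibres φ hfib
  have hopen : ∀ O : Set Y.left, IsOpen (φ ⁻¹' O) → IsOpen O := fun O hO => by
    rw [← Set.image_preimage_eq O hsurj]
    exact φ.isOpenMap _ hO
  obtain ⟨M, hM, rfl⟩ := exists_rep θ
  -- the generic fibre
  let η := genericPoint Y.left
  let ι := φ.fiberι η
  haveI : Flat (Y.left.fromSpecResidueField η) := by
    have hres : IsIso (Y.left.residue η) := by
      rw [ConcreteCategory.isIso_iff_bijective]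
      exact ⟨(show Y.left.functionField →+* Y.left.residueField η from (Y.left.residue η).hom).injective,
        IsLocalRing.residue_surjective⟩
    haveI := hres
    haveI : Flat (Y.left.fromSpecStalk η) := Groth.Agent.H22Alg.flat_fromSpecStalk Y.left η
    unfold Scheme.fromSpecResidueField
    infer_instance
  haveI : Flat ι := MorphismProperty.pullback_fst (P := @Flat) _ _ inferInstance
  haveI : IsPreimmersion ι := MorphismProperty.pullback_fst (P := @IsPreimmersion) _ _ inferInstance
  have hbij : ∀ z, Function.Bijective (ι.stalkMap z).hom :=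
    fun z => H8Props.bijective_stalkMap_of_flat ι z (Flat.stalkMap ι z)
  haveI := hfib η
  -- its classes vanish
  letI : Algebra k (Y.left.residueField η) := (Spec.preimage (Y.left.fromSpecResidueField η ≫ Y.hom)).hom.toAlgebra
  let σ := Spec.map (CommRingCat.ofHom (algebraMap k (Y.left.residueField η)))
  have hσ : σ = Y.left.fromSpecResidueField η ≫ Y.hom := Spec.map_preimage _
  let e : φ.fiber η ≅ pullback (cell V).hom σ :=
    pullbackLeftPullbackSndIso (cell V).hom Y.hom (Y.left.fromSpecResidueField η) ≪≫ pullback.congrHom rfl hσ.symm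
  have hz : pullP ι (pc M hM) = 0 := by
    have h1 := subsingleton_fibre V (Y.left.residueField η) (pullP e.inv (pullP ι (pc M hM)))
    have := congrArg (pullP e.hom) h1
    rwa [map_zero, pullP_pullP, Iso.hom_inv_id, pullP_id] at this
  obtain ⟨θ'⟩ : Nonempty ((Scheme.Modules.pullback ι).obj M ≅ Coh.structureModule (φ.fiber η)) := by
    rw [← pc_eq_iff (H11Ample.isInvertible_pullback ι hM) H11Ample.isInvertible_structureModule,
      pullP_pc ι M hM, pc_one]
    exact hz
  obtain ⟨w, hw, hwmax⟩ := H11GenFibre.exists_generic_of_fibre φ hfib η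
  have hξ : ι (genericPoint (φ.fiber η)) = genericPoint (cell V ⊗ Y).left := by
    obtain ⟨z, hz'⟩ := (φ.range_fiberι η).ge (show genericPoint (cell V ⊗ Y).left ∈ φ ⁻¹' {η} from
      H11GenFibre.map_genericPoint φ hsurj)
    have h1 : ι (genericPoint (φ.fiber η)) ⤳ genericPoint (cell V ⊗ Y).left :=
      hz' ▸ ((genericPoint_spec (φ.fiber η)).specializes trivial).map ι.continuous
    exact (h1.antisymm ((genericPoint_spec (cell V ⊗ Y).left).specializes trivial)).eq
  obtain ⟨v, hv⟩ := H11GenFibre.exists_good_on_range ι θ' hbij hM (genericPoint (φ.fiber η)) hξ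
    fun z => (genericPoint_spec (φ.fiber η)).specializes trivial
  obtain ⟨N, hN, ⟨eN⟩⟩ := H11GenFibre.exists_invertible φ hsurj v hY hfib hopen hM fun z hz' => by
    obtain ⟨z', rfl⟩ := (φ.range_fiberι η).ge (show z ∈ φ ⁻¹' {η} from hz')
    exact hv z'
  have hMN : pc M hM = pullP φ (pc N hN) := by
    rw [← pullP_pc φ N hN (H11Ample.isInvertible_pullback φ hN)]
    exact (pc_eq_iff _ _).2 ⟨eN⟩
  rw [hMN, ev, pullP_pullP, show (lift (toUnit Y ≫ v₀) (𝟙 Y)).left ≫ φ = 𝟙 Y.left from
    congrArg CommaMorphism.left (lift_snd (toUnit Y ≫ v₀) (𝟙 Y)), pullP_id] at h0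
  rw [hMN, h0, map_zero]

end Groth.Agent.H19Chev
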