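import Groth.Agent.H25Weilp.Char
import Mathlib.AlgebraicGeometry.Morphisms.Finite
import Mathlib.RingTheory.Norm.Transitivity
import Mathlib.FieldTheory.IntermediateField.Adjoin.Basic

/-!
# Classes killed by a finite surjective morphism are torsion
-/

set_option autoImplicit false
set_option linter.style.haveILetI false
set_option backward.isDefEq.respectTransparency false
set_option maxHeartbeats 1000000
universe u

open CategoryTheory CategoryTheory.Limits AlgebraicGeometry TopologicalSpace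
open Groth.Agent Groth.Agent.H25AbCube Groth.Agent.H25Weilp Groth.Agent.H11Ample Groth.Agent.H11Tilde

noncomputable section

namespace Groth.Agent.H19Chev

variable {X Y : Scheme.{u}} [IsIntegral X] [IsIntegral Y]

/-- Multiples of a class have powers as local equations. -/
theorem repr_nsmul {u : PC Y} {D : Y → Y.functionField} (h : Repr u D) :
    ∀ n : ℕ, 0 < n → Repr (n • u) fun y => D y ^ n
  | 1, _ => by simpa using h
  | n + 2, _ => by
    have := (repr_nsmul h (n + 1) (by omega)).add h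
    simpa [succ_nsmul, pow_succ] using this

/-- Near each point the local equation is constant up to units. -/
theorem exists_nbhd_eqn {u : PC Y} {D : Y → Y.functionField} (h : Repr u D) (y : Y) :
    ∃ (V : Y.Opens) (a : Y.functionField), y ∈ V ∧ a ≠ 0 ∧ ∀ z ∈ V, UnitAt z (D z / a) := by
  obtain ⟨M, hM, -, V₀, h₀, e₀, r, hr, he₀, hD⟩ := h
  obtain ⟨V, e, hy, he⟩ := H11Ample.exists_gen hM y
  obtain ⟨c, hc⟩ := transition (ei := e₀) he
  refine ⟨V, r * toK (show genericPoint Y ∈ V₀ ⊓ V from ⟨h₀, eta_mem hy⟩) c, hy,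
    mul_ne_zero hr (coord_ne_zero he₀ he c _ hc), fun z hz => ?_⟩
  exact hD V e he c hc z hz

theorem genericPoint_map (q : X ⟶ Y) [Surjective q] : q (genericPoint X) = genericPoint Y := by
  obtain ⟨x, hx⟩ := q.surjective (genericPoint Y)
  have h : q (genericPoint X) ⤳ genericPoint Y :=
    hx ▸ ((genericPoint_spec X).specializes (Set.mem_univ x)).map q.continuous
  exact (h.antisymm ((genericPoint_spec Y).specializes trivial)).eq

/-- A rational function which is a unit along an open is the germ of a unit. -/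
theorem exists_unit_section (f : X.functionField) (W : X.Opens) (hne : genericPoint X ∈ W)
    (hf : ∀ x ∈ W, UnitAt x f) : ∃ s : Γ(X, W), toK hne s = f := by
  choose V hV s hs he using fun x : W => hf x.1 x.2
  obtain ⟨R, hR, -⟩ := X.sheaf.existsUnique_gluing' (fun x : W => V x ⊓ W) W (fun x => homOfLE inf_le_right)
    (fun z hz => Opens.mem_iSup.2 ⟨⟨z, hz⟩, hV ⟨z, hz⟩, hz⟩)
    (fun x => X.presheaf.map (homOfLE inf_le_left).op (s x)) fun x y => by
      refine toK_injective (V := (V x ⊓ W) ⊓ (V y ⊓ W))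
        ⟨⟨eta_mem (hV x), hne⟩, ⟨eta_mem (hV y), hne⟩⟩ ?_
      show toK _ (X.presheaf.map (homOfLE inf_le_left).op (X.presheaf.map _ (s x))) =
        toK _ (X.presheaf.map (homOfLE inf_le_right).op (X.presheaf.map _ (s y)))
      rw [toK_res, toK_res, toK_res, toK_res, he, he]
  let x₁ : W := ⟨genericPoint X, hne⟩
  refine ⟨R, ?_⟩
  rw [← he x₁, ← toK_res (inf_le_left : V x₁ ⊓ W ≤ V x₁) ⟨eta_mem (hV x₁), hne⟩ (s x₁), ← hR x₁]
  exact (toK_res inf_le_right _ R).symm

/-- A class on a normal scheme killed by a finite surjective morphism is torsion. -/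
theorem exists_nsmul_eq_zero_of_finite (q : X ⟶ Y) [IsFinite q] [Surjective q]
    (hY : ∀ y : Y, IsIntegrallyClosed (Y.presheaf.stalk y)) (u : PC Y) (hu : pullP q u = 0) :
    ∃ d : ℕ, 0 < d ∧ d • u = 0 := by
  have hq := genericPoint_map q
  obtain ⟨D, hD⟩ := exists_repr u
  obtain ⟨γ, hγ, hγu⟩ := (repr_zero_iff (hD.pullback q hq)).1 hu
  let φ := fK q hq
  letI : Algebra Y.functionField X.functionField := φ.toAlgebra
  -- sections over affine opens of the base are integral
  have hint : ∀ (W : Y.Opens) (hW : IsAffineOpen W) (hη : genericPoint Y ∈ W) (s : Γ(X, q ⁻¹ᵁ W)),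
      RingHom.IsIntegralElem (φ.comp (toK hη))
        (toK (show genericPoint X ∈ q ⁻¹ᵁ W by show q _ ∈ W; rw [hq]; exact hη) s) := by
    intro W hW hη s
    obtain ⟨p, hp, hps⟩ := (IsFinite.finite_app q W hW).to_isIntegral s
    refine ⟨p, hp, ?_⟩
    have hcomp : φ.comp (toK hη) =
        (toK (show genericPoint X ∈ q ⁻¹ᵁ W by show q _ ∈ W; rw [hq]; exact hη)).comp (q.app W).hom :=
      RingHom.ext fun t => fK_toK q hq hη t
    rw [hcomp, ← Polynomial.hom_eval₂, hps, map_zero]
  -- the trivialisation is algebraic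
  have halg : _root_.IsIntegral Y.functionField γ := by
    obtain ⟨W, hW, hηW, -⟩ := exists_isAffineOpen_mem_and_subset (Set.mem_univ (genericPoint Y)) (U := (⊤ : Y.Opens))
    have hηX : genericPoint X ∈ q ⁻¹ᵁ W := by show q _ ∈ W; rw [hq]; exact hηW
    have hqW : IsAffineOpen (q ⁻¹ᵁ W) := hW.preimage q
    haveI : Nonempty (q ⁻¹ᵁ W) := ⟨⟨_, hηX⟩⟩
    haveI := functionField_isFractionRing_of_isAffineOpen X (q ⁻¹ᵁ W) hqW
    obtain ⟨⟨b, s⟩, hbs⟩ := IsLocalization.surj (nonZeroDivisors Γ(X, q ⁻¹ᵁ W)) γ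
    have hI : ∀ t : Γ(X, q ⁻¹ᵁ W), _root_.IsIntegral Y.functionField (toK hηX t) := fun t => by
      obtain ⟨p, hp, hpt⟩ := hint W hW hηW t
      exact ⟨p.map (toK hηW), hp.map _, by rw [Polynomial.eval₂_map]; exact hpt⟩
    have hs0 : toK hηX (s : Γ(X, q ⁻¹ᵁ W)) ≠ 0 :=
      (map_ne_zero_iff _ (toK_injective hηX)).2 (nonZeroDivisors.ne_zero s.2)
    have e : γ = toK hηX b * (toK hηX (s : Γ(X, q ⁻¹ᵁ W)))⁻¹ := by
      rw [← div_eq_mul_inv, eq_div_iff hs0]
      exact hbs
    rw [e]
    exact (hI b).mul (hI _).isAlgebraic.inv.isIntegral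
  let F := IntermediateField.adjoin Y.functionField {γ}
  haveI : FiniteDimensional Y.functionField F := IntermediateField.adjoin.finiteDimensional halg
  let d := Module.finrank Y.functionField F
  let g : F := ⟨γ, IntermediateField.mem_adjoin_simple_self _ γ⟩
  refine ⟨d, Module.finrank_pos, (repr_zero_iff (repr_nsmul hD d Module.finrank_pos)).2
    ⟨Algebra.norm Y.functionField g, Algebra.norm_ne_zero_iff.2 fun h => hγ (congrArg Subtype.val h), fun y => ?_⟩⟩
  obtain ⟨V, a, hyV, ha, hVa⟩ := exists_nbhd_eqn hD y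
  obtain ⟨W, hW, hyW, hWV⟩ := exists_isAffineOpen_mem_and_subset hyV
  have hηW : genericPoint Y ∈ W := eta_mem hyW
  have hηX : genericPoint X ∈ q ⁻¹ᵁ W := by show q _ ∈ W; rw [hq]; exact hηW
  -- the trivialisation against the local equation is a unit over `W`
  have hwU : ∀ x ∈ q ⁻¹ᵁ W, UnitAt x (γ / φ a) := by
    intro x hx
    have h1 := (hγu x).inv.mul (fK_unitAt q hq (hVa (q x) (hWV hx)))
    convert h1 using 1
    rw [map_div₀, inv_div]
    have : φ (D (q x)) ≠ 0 := (map_ne_zero φ).2 (hD.ne_zero _)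
    show γ / φ a = γ / φ (D (q x)) * (φ (D (q x)) / φ a)
    field_simp
  obtain ⟨s, hs⟩ := exists_unit_section (γ / φ a) (q ⁻¹ᵁ W) hηX hwU
  obtain ⟨s', hs'⟩ := exists_unit_section (γ / φ a)⁻¹ (q ⁻¹ᵁ W) hηX fun x hx => (hwU x hx).inv
  let w : F := g / algebraMap _ F a
  have hw : (w : X.functionField) = γ / φ a := rfl
  let A := Y.presheaf.stalk y
  letI : Algebra Γ(Y, W) Y.functionField := (toK hηW).toAlgebra
  letI : Algebra Γ(Y, W) A := (Y.presheaf.germ W y hyW).hom.toAlgebra
  haveI : IsScalarTower Γ(Y, W) A Y.functionField := by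
    refine IsScalarTower.of_algebraMap_eq fun t => ?_
    haveI : Nonempty W := ⟨⟨y, hyW⟩⟩
    exact (Y.algebraMap_germ_eq_germToFunctionField hyW t).symm
  letI : Algebra Γ(Y, W) F := ((algebraMap Y.functionField F).comp (toK hηW)).toAlgebra
  haveI : IsScalarTower Γ(Y, W) Y.functionField F := IsScalarTower.of_algebraMap_eq' rfl
  have hFint : ∀ (v : F) (t : Γ(X, q ⁻¹ᵁ W)), toK hηX t = (v : X.functionField) → _root_.IsIntegral Γ(Y, W) v := by
    intro v t ht
    obtain ⟨p, hp, hpt⟩ := hint W hW hηW t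
    refine ⟨p, hp, ?_⟩
    apply (F.val).injective
    rw [map_zero]
    show F.val.toRingHom _ = _
    rw [Polynomial.hom_eval₂]
    show Polynomial.eval₂ (φ.comp (toK hηW)) (v : X.functionField) p = 0
    rw [← ht]
    exact hpt
  have hwint : _root_.IsIntegral Γ(Y, W) w := hFint w s (hs.trans hw.symm)
  have hwint' : _root_.IsIntegral Γ(Y, W) w⁻¹ := hFint w⁻¹ s' (hs'.trans (by simp [hw]))
  haveI := hY y
  obtain ⟨n₁, hn₁⟩ := IsIntegrallyClosed.isIntegral_iff.1
    ((Algebra.isIntegral_norm (K := Y.functionField) hwint).tower_top (A := A))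
  obtain ⟨n₂, hn₂⟩ := IsIntegrallyClosed.isIntegral_iff.1
    ((Algebra.isIntegral_norm (K := Y.functionField) hwint').tower_top (A := A))
  have hw0 : w ≠ 0 := by
    intro h
    exact div_ne_zero hγ ((map_ne_zero φ).2 ha) (hw.symm.trans (congrArg Subtype.val h))
  have hn : n₁ * n₂ = 1 := by
    apply IsFractionRing.injective A Y.functionField
    rw [map_mul, hn₁, hn₂, ← map_mul, mul_inv_cancel₀ hw0, map_one, map_one]
  have hN : Algebra.norm Y.functionField w = Algebra.norm Y.functionField g / a ^ d := by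
    rw [eq_div_iff (pow_ne_zero _ ha), show a ^ d = Algebra.norm Y.functionField (algebraMap _ F a) from
      (Algebra.norm_algebraMap a).symm, ← map_mul, div_mul_cancel₀]
    exact (map_ne_zero _).2 ha
  have hu1 : UnitAt y (Algebra.norm Y.functionField w) := by
    rw [← hn₁]
    exact unitAt_of_stalk (Units.mkOfMulEqOne n₁ n₂ hn)
  obtain ⟨hVy⟩ : PLift (UnitAt y (D y / a)) := ⟨hVa y hyV⟩
  have hpow : ∀ n : ℕ, UnitAt y ((D y / a) ^ n) := fun n => by
    induction n with
    | zero => simpa using UnitAt.one y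
    | succ n ih => rw [pow_succ]; exact ih.mul hVy
  have h2 := (hpow d).div hu1
  convert h2 using 1
  rw [hN, div_pow]
  field_simp

end Groth.Agent.H19Chev
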