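import Groth.Agent.H19Chev.RationalCurve
import Groth.Agent.H19Chev.NormKill
import Groth.Agent.H19Grp.SepPoints
import Groth.Agent.S11992
import Groth.Agent.H25AbCube.HomFG
import Groth.Prelude.Def_AlgGrp
import Mathlib.FieldTheory.Galois.Infinite
import Mathlib.FieldTheory.IsSepClosed
import Mathlib.AlgebraicGeometry.Morphisms.LocalFlatDescent
import Mathlib.AlgebraicGeometry.SpreadingOut

/-!
# The trace of a torsor under an abelian variety
-/

set_option autoImplicit false
set_option linter.style.haveILetI false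
set_option backward.isDefEq.respectTransparency false
set_option maxHeartbeats 1000000
set_option synthInstance.maxHeartbeats 100000
universe u

open CategoryTheory CategoryTheory.Limits MonoidalCategory CartesianMonoidalCategory MonObj AlgebraicGeometry
open Groth.Agent

noncomputable section

namespace Groth.Agent.H19Chev

variable {k : Type u} [Field k]

/-- A point with coordinates in a field passing through a point with field local ring factors through it. -/
theorem exists_algHom_generic {Y : Over (Spec (CommRingCat.of k))} (y₀ : Y.left) (K : Type u) [Field K] [Algebra k K]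
    (e : sp k K ⟶ Y) (he : ∀ (M : Type u) [Field M] (p : Spec (CommRingCat.of M) ⟶ Y.left),
      p (IsLocalRing.closedPoint M) = y₀ → ∃ φ : K →+* M, Spec.map (CommRingCat.ofHom φ) ≫ e.left = p)
    {M : Type u} [Field M] [Algebra k M] (p : sp k M ⟶ Y) (hp : p.left (IsLocalRing.closedPoint M) = y₀) :
    ∃ φ : K →ₐ[k] M, spMap φ ≫ e = p := by
  obtain ⟨φ, hφ⟩ := he M p.left hp
  have h : φ.comp (algebraMap k K) = algebraMap k M := by
    have h1 := Over.w p
    rw [← hφ, Category.assoc, Over.w e] at h1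
    change Spec.map (CommRingCat.ofHom φ) ≫ Spec.map _ = Spec.map _ at h1
    rw [← Spec.map_comp] at h1
    exact congrArg CommRingCat.Hom.hom (Spec.map_injective h1)
  exact ⟨{ φ with commutes' := fun c => congr($h c) }, Over.OverMorphism.ext hφ⟩

/-- The generic point of an integral scheme as a point of its function field. -/
theorem exists_genericPt (Y : Over (Spec (CommRingCat.of k))) [IsIntegral Y.left] :
    ∃ (K : Type u) (_ : Field K) (_ : Algebra k K) (e : sp k K ⟶ Y),
      Mono e ∧ IsDominant e.left ∧ e.left (IsLocalRing.closedPoint K) = genericPoint Y.left ∧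
      ∀ (M : Type u) [Field M] [Algebra k M] (p : sp k M ⟶ Y),
        p.left (IsLocalRing.closedPoint M) = genericPoint Y.left → ∃ φ : K →ₐ[k] M, spMap φ ≫ e = p := by
  let y₀ := genericPoint Y.left
  let K := Y.left.functionField
  obtain ⟨ψ, hψ⟩ := Spec.map_surjective (Y.left.fromSpecStalk y₀ ≫ Y.hom)
  letI : Algebra k K := ψ.hom.toAlgebra
  let e : sp k K ⟶ Y := Over.homMk (Y.left.fromSpecStalk y₀) hψ.symm
  have hgen : e.left (IsLocalRing.closedPoint K) = y₀ := Scheme.fromSpecStalk_closedPoint (X := Y.left) (x := y₀)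
  have hd : IsDominant e.left := by
    refine ⟨fun y => ?_⟩
    refine closure_mono (t := Set.range e.left) (Set.singleton_subset_iff.2 ⟨IsLocalRing.closedPoint K, hgen⟩) ?_
    rw [(genericPoint_spec Y.left).def]
    trivial
  refine ⟨K, inferInstance, inferInstance, e,
    (Over.forget _).mono_of_mono_map (inferInstanceAs (Mono (Y.left.fromSpecStalk y₀))), hd, hgen,
    fun M _ _ p hp => exists_algHom_generic y₀ K e (fun M _ q hq => ?_) p hp⟩
  obtain ⟨φ, hφ⟩ : ∃ φ : Y.left.presheaf.stalk y₀ ⟶ CommRingCat.of M,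
        Spec.map φ ≫ Y.left.fromSpecStalk y₀ = q := by
      refine ⟨Y.left.presheaf.stalkSpecializes (Inseparable.of_eq hq).specializes ≫ Scheme.stalkClosedPointTo q, ?_⟩
      rw [Spec.map_comp, Category.assoc, Scheme.SpecMap_stalkSpecializes_fromSpecStalk,
        Scheme.Spec_stalkClosedPointTo_fromSpecStalk]
  exact ⟨φ.hom, hφ⟩

variable {X Y A : Over (Spec (CommRingCat.of k))} [GrpObj A]

section Div

variable {G : Over (Spec (CommRingCat.of k))}

/-- A point fixed by the absolute Galois group is rational. -/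
theorem exists_descend_point (M Ω : Type u) [Field M] [Algebra k M] [Field Ω] [Algebra k Ω] [Algebra M Ω]
    [IsScalarTower k M Ω] [IsGalois M Ω] (e : sp k Ω ⟶ G)
    (h : ∀ σ : Ω ≃ₐ[M] Ω, spMap (σ.toAlgHom.restrictScalars k) ≫ e = e) :
    ∃ e₀ : sp k M ⟶ G, spMap (IsScalarTower.toAlgHom k M Ω) ≫ e₀ = e := by
  obtain ⟨_, ⟨U, hU, rfl⟩, hxU, -⟩ := G.left.isBasis_affineOpens.exists_subset_of_mem_open
    (Set.mem_univ (e.left (IsLocalRing.closedPoint Ω))) isOpen_univ
  obtain ⟨φ, hφ⟩ := exists_ringHom_of_range e hU (by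
    rintro _ ⟨x, rfl⟩
    rwa [Subsingleton.elim (α := PrimeSpectrum Ω) x (IsLocalRing.closedPoint Ω)])
  let ιM : M →ₐ[k] Ω := IsScalarTower.toAlgHom k M Ω
  have hfix : ∀ u, φ u ∈ ιM.range := fun u => by
    refine (InfiniteGalois.mem_range_algebraMap_iff_fixed (k := M) (K := Ω) (φ u)).2 fun σ => ?_
    have h2 : Spec.map (CommRingCat.ofHom ((σ : Ω →+* Ω).comp φ)) ≫ hU.fromSpec =
        Spec.map (CommRingCat.ofHom φ) ≫ hU.fromSpec := by
      rw [CommRingCat.ofHom_comp, Spec.map_comp, Category.assoc, hφ]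
      exact congrArg CommaMorphism.left (h σ)
    exact congr($(ringHom_unique hU h2) u)
  obtain ⟨g, hg⟩ := exists_factor e hU φ hφ ιM.range hfix
  let eq : M ≃ₐ[k] ιM.range := AlgEquiv.ofInjective ιM ιM.toRingHom.injective
  refine ⟨spMap eq.symm.toAlgHom ≫ g, ?_⟩
  rw [← hg, ← Category.assoc, spMap_comp]
  congr 2
  exact AlgHom.ext fun c => congrArg Subtype.val (eq.apply_symm_apply c)

/-- A point with values in a separably closed extension comes from a finite separable subextension. -/
theorem exists_finite_point [LocallyOfFiniteType G.hom] (K Ω : Type u) [Field K] [Algebra k K] [Field Ω]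
    [Algebra k Ω] [Algebra K Ω] [IsScalarTower k K Ω] [Algebra.IsSeparable K Ω] (e : sp k Ω ⟶ G) :
    ∃ (F : IntermediateField K Ω) (_ : FiniteDimensional K F) (e₀ : sp k F ⟶ G),
      spMap (F.val.restrictScalars k) ≫ e₀ = e := by
  classical
  obtain ⟨_, ⟨U, hU, rfl⟩, hxU, -⟩ := G.left.isBasis_affineOpens.exists_subset_of_mem_open
    (Set.mem_univ (e.left (IsLocalRing.closedPoint Ω))) isOpen_univ
  obtain ⟨φ, hφ⟩ := exists_ringHom_of_range e hU (by
    rintro _ ⟨x, rfl⟩
    rwa [Subsingleton.elim (α := PrimeSpectrum Ω) x (IsLocalRing.closedPoint Ω)])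
  obtain ⟨ψ, hψ⟩ := Spec.map_surjective (hU.fromSpec ≫ G.hom)
  have hfin : ψ.hom.FiniteType := by
    have h : LocallyOfFiniteType (Spec.map ψ) := hψ ▸ inferInstance
    exact (HasRingHomProperty.Spec_iff (P := @LocallyOfFiniteType)).1 h
  have hφψ : φ.comp ψ.hom = algebraMap k Ω := by
    have h := Over.w e
    rw [← hφ, Category.assoc, ← hψ] at h
    change Spec.map (CommRingCat.ofHom φ) ≫ Spec.map ψ = Spec.map _ at h
    rw [← Spec.map_comp] at h
    exact congrArg CommRingCat.Hom.hom (Spec.map_injective h)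
  letI := ψ.hom.toAlgebra
  haveI : Algebra.FiniteType k Γ(G.left, U) := hfin
  obtain ⟨s, hs⟩ := (Algebra.FiniteType.out : (⊤ : Subalgebra k Γ(G.left, U)).FG)
  let φa : Γ(G.left, U) →ₐ[k] Ω := { φ with commutes' := fun c => congr($hφψ c) }
  let F : IntermediateField K Ω := IntermediateField.adjoin K (φa '' (s : Set Γ(G.left, U)))
  haveI : FiniteDimensional K F := by
    haveI : Finite ↑(φa '' (s : Set Γ(G.left, U))) := (s.finite_toSet.image _).to_subtype
    exact IntermediateField.finiteDimensional_adjoin fun z _ => Algebra.IsSeparable.isIntegral K z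
  let ιF : F →ₐ[k] Ω := F.val.restrictScalars k
  have hmem : ∀ u, φ u ∈ ιF.range := by
    have hle : (Algebra.adjoin k (s : Set Γ(G.left, U))).map φa ≤ ιF.range := by
      rw [AlgHom.map_adjoin, Algebra.adjoin_le_iff]
      intro z hz
      exact ⟨⟨z, IntermediateField.subset_adjoin K _ hz⟩, rfl⟩
    rw [hs] at hle
    exact fun u => hle ⟨u, trivial, rfl⟩
  obtain ⟨g, hg⟩ := exists_factor e hU φ hφ ιF.range hmem
  let eq : F ≃ₐ[k] ιF.range := AlgEquiv.ofInjective ιF ιF.toRingHom.injective
  refine ⟨F, inferInstance, spMap eq.symm.toAlgHom ≫ g, ?_⟩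
  rw [← hg, ← Category.assoc, spMap_comp]
  congr 2
  exact AlgHom.ext fun c => congrArg Subtype.val (eq.apply_symm_apply c)

end Div

/-- A torsor under an abelian variety admits a morphism to it multiplying translations by a positive integer. -/
theorem exists_trace [IsProper A.hom] [Smooth A.hom] [GeometricallyIntegral A.hom]
    [Smooth X.hom] [IsSeparated X.hom] [QuasiCompact X.hom] [GeometricallyIntegral X.hom]
    [LocallyOfFiniteType Y.hom] [IsSeparated Y.hom] [IsIntegral Y.left]
    (a : AlgGrp.Action A X) (f : X ⟶ Y) [Flat f.left] [Surjective f.left]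
    (hinv : a.act ≫ f = snd A X ≫ f) (htors : IsIso (pullback.lift a.act (snd A X) hinv)) :
    ∃ (φ : X ⟶ A) (n : ℕ), 0 < n ∧
      ∀ (T : Over (Spec (CommRingCat.of k))) (b : T ⟶ A) (x : T ⟶ X), lift b x ≫ a.act ≫ φ = (x ≫ φ) * b ^ n := by
  classical
  haveI := htors
  haveI : IsCommMonObj A := H25AbCube.isCommMonObj_of_av
  haveI : IsIntegral X.left := GeometricallyIntegral.isIntegral_of_subsingleton X.hom
  -- division
  have hdiv : ∀ {T : Over (Spec (CommRingCat.of k))} (x₁ x₂ : T ⟶ X), x₁ ≫ f = x₂ ≫ f →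
      ∃! b : T ⟶ A, lift b x₂ ≫ a.act = x₁ := by
    intro T x₁ x₂ h12
    let s := pullback.lift a.act (snd A X) hinv
    obtain ⟨w, hw1, hw2, hw3⟩ : ∃ w : T ⟶ A ⊗ X, w ≫ a.act = x₁ ∧ w ≫ snd A X = x₂ ∧
        pullback.lift x₁ x₂ h12 ≫ inv s = w := by
      refine ⟨_, ?_, ?_, rfl⟩
      · rw [Category.assoc, show inv s ≫ a.act = pullback.fst f f by
          rw [IsIso.inv_comp_eq]; exact (pullback.lift_fst _ _ _).symm, pullback.lift_fst]
      · rw [Category.assoc, show inv s ≫ snd A X = pullback.snd f f by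
          rw [IsIso.inv_comp_eq]; exact (pullback.lift_snd _ _ _).symm, pullback.lift_snd]
    refine ⟨w ≫ fst A X, ?_, fun b hb => ?_⟩
    · show lift _ x₂ ≫ a.act = x₁
      rw [← hw2, ← comp_lift, lift_fst_snd, Category.comp_id, hw1]
    · have h1 : lift b x₂ ≫ s = pullback.lift x₁ x₂ h12 := by
        apply pullback.hom_ext
        · rw [Category.assoc, pullback.lift_fst, pullback.lift_fst]; exact hb
        · rw [Category.assoc, pullback.lift_snd, pullback.lift_snd, lift_snd]
      rw [← hw3, Category.assoc, ← h1, Category.assoc, IsIso.hom_inv_id_assoc, lift_fst]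
  choose! d hd hd' using fun (T : Over (Spec (CommRingCat.of k))) (x₁ x₂ : T ⟶ X) (h : x₁ ≫ f = x₂ ≫ f) =>
    (hdiv x₁ x₂ h)
  have hd_comp : ∀ {T T' : Over (Spec (CommRingCat.of k))} (g : T' ⟶ T) (x₁ x₂ : T ⟶ X), x₁ ≫ f = x₂ ≫ f →
      g ≫ d T x₁ x₂ = d T' (g ≫ x₁) (g ≫ x₂) := fun g x₁ x₂ h => by
    refine hd' _ _ _ (by rw [Category.assoc, Category.assoc, h]) _ ?_
    show lift _ _ ≫ a.act = _
    rw [← comp_lift, Category.assoc, hd _ _ _ h]
  have hmul : ∀ {T : Over (Spec (CommRingCat.of k))} (b b' : T ⟶ A) (x : T ⟶ X),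
      lift (b * b') x ≫ a.act = lift b (lift b' x ≫ a.act) ≫ a.act := fun b b' x => by
    have := congrArg (lift (lift b b') x ≫ ·) a.mul_act
    simpa [Hom.mul_def] using this
  have hd_mul : ∀ {T : Over (Spec (CommRingCat.of k))} (b : T ⟶ A) (x₁ x₂ : T ⟶ X), x₁ ≫ f = x₂ ≫ f →
      d T (lift b x₁ ≫ a.act) x₂ = b * d T x₁ x₂ := fun b x₁ x₂ h => by
    symm
    refine hd' _ _ _ (by rw [Category.assoc, hinv, ← Category.assoc, lift_snd, h]) _ ?_
    show lift _ _ ≫ a.act = _
    rw [hmul, hd _ _ _ h]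
  -- `f` is smooth
  haveI : Smooth f.left := by
    have hsnd : Smooth (snd A X).left := MorphismProperty.pullback_snd (P := @Smooth) _ _ inferInstance
    have hsq : IsPullback a.act.left (snd A X).left f.left f.left :=
      (IsPullback.of_iso_pullback ⟨hinv⟩ (asIso (pullback.lift a.act (snd A X) hinv))
        (pullback.lift_fst _ _ _) (pullback.lift_snd _ _ _)).map (Over.forget _)
    haveI : QuasiCompact (f.left ≫ Y.hom) := by rw [Over.w f]; infer_instance
    haveI : QuasiCompact f.left := QuasiCompact.of_comp f.left Y.hom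
    exact MorphismProperty.of_isPullback_of_descendsAlong (P := @Smooth)
      (Q := @Surjective ⊓ @Flat ⊓ @QuasiCompact) hsq.flip ⟨⟨‹_›, ‹_›⟩, ‹_›⟩ hsnd
  -- generic points
  obtain ⟨K, _, _, eY, hmonoY, hdomY, heY, hY⟩ := exists_genericPt Y
  haveI := hmonoY
  obtain ⟨M₀, _, _, eX, hmonoX, hdomX, heX, hX⟩ := exists_genericPt X
  haveI := hmonoX
  have hfξ : f.left (genericPoint X.left) = genericPoint Y.left := genericPoint_map f.left
  -- a separable point of the generic fibre
  let Ω := SeparableClosure K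
  let y := spMap (IsScalarTower.toAlgHom k K Ω) ≫ eY
  haveI : Smooth (pullback.snd f.left y.left) := MorphismProperty.pullback_snd (P := @Smooth) _ _ inferInstance
  haveI : Surjective (pullback.snd f.left y.left) := MorphismProperty.pullback_snd (P := @Surjective) _ _ inferInstance
  obtain ⟨z, -⟩ := (pullback.snd f.left y.left).surjective (IsLocalRing.closedPoint Ω)
  obtain ⟨σ, hσ, -⟩ := H19Grp.exists_section_mem (pullback.snd f.left y.left) ⊤ (x := z) trivial
  have hσw : (σ ≫ pullback.fst f.left y.left) ≫ X.hom = Spec.map (CommRingCat.ofHom (algebraMap k Ω)) := by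
    rw [← Over.w f, Category.assoc, pullback.condition_assoc, reassoc_of% hσ]
    exact Over.w y
  let x₁ : sp k Ω ⟶ X := Over.homMk (σ ≫ pullback.fst f.left y.left) hσw
  have hx₁ : x₁ ≫ f = y := Over.OverMorphism.ext (by
    show (σ ≫ pullback.fst f.left y.left) ≫ f.left = y.left
    rw [Category.assoc, pullback.condition, reassoc_of% hσ])
  obtain ⟨F, hFfin, x₀, hx₀⟩ := exists_finite_point K Ω x₁
  haveI := hFfin
  have hx₀f : x₀ ≫ f = spMap (IsScalarTower.toAlgHom k K F) ≫ eY := by
    obtain ⟨φ, hφ⟩ := hY F (x₀ ≫ f) (by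
      have h1 := congr(($(congrArg CommaMorphism.left hx₁)) (IsLocalRing.closedPoint Ω))
      rw [← hx₀] at h1
      simp only [Over.comp_left, y, Scheme.Hom.comp_apply] at h1 ⊢
      rw [Subsingleton.elim (α := PrimeSpectrum F) ((spMap (F.val.restrictScalars k)).left _)
        (IsLocalRing.closedPoint F), Subsingleton.elim (α := PrimeSpectrum K)
        ((spMap (IsScalarTower.toAlgHom k K Ω)).left _) (IsLocalRing.closedPoint K), heY] at h1
      exact h1)
    rw [← hφ]
    have h1 : spMap ((F.val.restrictScalars k).comp φ) ≫ eY =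
        spMap ((F.val.restrictScalars k).comp (IsScalarTower.toAlgHom k K F)) ≫ eY := by
      rw [← spMap_comp, Category.assoc, hφ, reassoc_of% hx₀, hx₁]
      rfl
    have h2 := (cancel_mono eY).1 h1
    have h4 : φ = IsScalarTower.toAlgHom k K F := AlgHom.ext fun c =>
      F.val.toRingHom.injective congr($(Spec.map_injective (congrArg CommaMorphism.left h2)) c)
    rw [h4]
  -- the trace
  let val : ∀ (M : Type u) [Field M] [Algebra k M] [Algebra K M] [IsScalarTower k K M], (sp k M ⟶ X) → (sp k M ⟶ A) :=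
    fun M _ _ _ _ g => ∏ τ : F →ₐ[K] M, d _ g (spMap (τ.restrictScalars k) ≫ x₀)
  have hover : ∀ (M : Type u) [Field M] [Algebra k M] [Algebra K M] [IsScalarTower k K M] (τ : F →ₐ[K] M),
      (spMap (τ.restrictScalars k) ≫ x₀) ≫ f = spMap (IsScalarTower.toAlgHom k K M) ≫ eY := fun M _ _ _ _ τ => by
    rw [Category.assoc, hx₀f, ← Category.assoc, spMap_comp]
    congr 2
    exact AlgHom.ext fun c => τ.commutes c
  have hcard : ∀ (M : Type u) [Field M] [Algebra K M] [IsSepClosed M],
      Fintype.card (F →ₐ[K] M) = Module.finrank K F := fun M _ _ _ => AlgHom.card_of_splits K F M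
    fun c => IsSepClosed.splits_codomain _ (Algebra.IsSeparable.isSeparable K c)
  let n := Module.finrank K F
  have hval_act : ∀ (M : Type u) [Field M] [Algebra k M] [Algebra K M] [IsScalarTower k K M] [IsSepClosed M]
      (g : sp k M ⟶ X) (b : sp k M ⟶ A), g ≫ f = spMap (IsScalarTower.toAlgHom k K M) ≫ eY →
      val M (lift b g ≫ a.act) = val M g * b ^ n := fun M _ _ _ _ _ g b hg => by
    show ∏ τ, _ = (∏ τ, _) * _
    rw [Finset.prod_congr rfl fun τ _ => hd_mul b g _ (hg.trans (hover M τ).symm), Finset.prod_mul_distrib,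
      Finset.prod_const, Finset.card_univ, hcard M, mul_comm]
  have hval_map : ∀ (M M' : Type u) [Field M] [Algebra k M] [Algebra K M] [IsScalarTower k K M] [Field M']
      [Algebra k M'] [Algebra K M'] [IsScalarTower k K M'] [IsSepClosed M] [IsSepClosed M'] (e : M →ₐ[K] M')
      (g : sp k M ⟶ X), g ≫ f = spMap (IsScalarTower.toAlgHom k K M) ≫ eY →
      spMap (e.restrictScalars k) ≫ val M g = val M' (spMap (e.restrictScalars k) ≫ g) := by
    intro M M' _ _ _ _ _ _ _ _ _ _ e g hg
    let pre : (sp k M ⟶ A) →* (sp k M' ⟶ A) :=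
      { toFun := fun x => spMap (e.restrictScalars k) ≫ x
        map_one' := MonObj.comp_one _
        map_mul' := fun x y => MonObj.comp_mul _ _ _ }
    show pre (val M g) = _
    rw [map_prod]
    have hbij : Function.Bijective (fun τ : F →ₐ[K] M => e.comp τ) :=
      (Fintype.bijective_iff_injective_and_card _).2 ⟨fun τ τ' h => AlgHom.ext fun c =>
        e.toRingHom.injective congr($h c), (hcard M).trans (hcard M').symm⟩
    refine Fintype.prod_bijective _ hbij _ _ fun τ => ?_
    show spMap _ ≫ d _ _ _ = d _ _ _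
    rw [hd_comp _ _ _ (hg.trans (hover M τ).symm), ← Category.assoc (f := spMap _) (g := spMap _), spMap_comp]
    rfl
  -- the universal value
  obtain ⟨jK, hjK⟩ := hY M₀ (eX ≫ f) (by
    rw [Over.comp_left, Scheme.Hom.comp_apply, heX, hfξ])
  letI : Algebra K M₀ := jK.toRingHom.toAlgebra
  haveI : IsScalarTower k K M₀ := IsScalarTower.of_algebraMap_eq fun c => (jK.commutes c).symm
  let Ω₀ := SeparableClosure M₀
  haveI : IsScalarTower k K Ω₀ := IsScalarTower.of_algebraMap_eq fun c => by
    rw [IsScalarTower.algebraMap_apply k M₀ Ω₀, IsScalarTower.algebraMap_apply k K M₀,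
      ← IsScalarTower.algebraMap_apply K M₀ Ω₀]
  let g₀ := spMap (IsScalarTower.toAlgHom k M₀ Ω₀) ≫ eX
  have hg₀ : g₀ ≫ f = spMap (IsScalarTower.toAlgHom k K Ω₀) ≫ eY := by
    rw [Category.assoc, ← hjK, ← Category.assoc, spMap_comp]
    congr 2
  obtain ⟨a₀, ha₀⟩ := exists_descend_point M₀ Ω₀ (val Ω₀ g₀) fun σ => by
    have h1 := hval_map Ω₀ Ω₀ (σ.toAlgHom.restrictScalars K) g₀ hg₀
    refine h1.trans ?_
    congr 1
    rw [← Category.assoc, spMap_comp]
    congr 2
    exact AlgHom.ext fun c => σ.commutes c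
  -- spreading out and extending
  obtain ⟨φ, hφ⟩ : ∃ φ : X ⟶ A, eX ≫ φ = a₀ := by
    let ξ := genericPoint X.left
    letI : Algebra k X.left.functionField := (Spec.preimage (X.left.fromSpecStalk ξ ≫ X.hom)).hom.toAlgebra
    let eξ : sp k X.left.functionField ⟶ X :=
      Over.homMk (X.left.fromSpecStalk ξ) (Spec.map_preimage _).symm
    obtain ⟨j, hj⟩ := hX X.left.functionField eξ Scheme.fromSpecStalk_closedPoint
    obtain ⟨U, hξU, g, hg, hgw⟩ := spread_out_of_isGermInjective' X.hom A.hom (x := ξ)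
      (spMap j ≫ a₀).left (by
        rw [Over.w (spMap j ≫ a₀)]
        exact Spec.map_preimage _)
    obtain ⟨ψ, hψw, hψ⟩ := S11992.result k X.left X.hom A U ⟨ξ, hξU⟩ g hgw
    refine ⟨Over.homMk ψ hψw, ?_⟩
    have h1 : spMap j ≫ eX ≫ Over.homMk ψ hψw = spMap j ≫ a₀ := by
      rw [← Category.assoc, hj]
      refine Over.OverMorphism.ext ?_
      show X.left.fromSpecStalk ξ ≫ ψ = _
      rw [hg, ← hψ, ← Category.assoc, Scheme.Opens.fromSpecStalkOfMem_ι]
    haveI : IsDominant (spMap j).left := by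
      refine ⟨fun z => ?_⟩
      rw [Subsingleton.elim (α := PrimeSpectrum M₀) z ((spMap j).left (IsLocalRing.closedPoint _))]
      exact subset_closure ⟨_, rfl⟩
    haveI : IsReduced (sp k M₀).left := inferInstanceAs (IsReduced (Spec (CommRingCat.of M₀)))
    exact Over.OverMorphism.ext (ext_of_isDominant_of_isSeparated A.hom
      (by rw [Over.w (eX ≫ Over.homMk ψ hψw), Over.w a₀]) (spMap j).left (congrArg CommaMorphism.left h1))
  -- values at generic points
  have hval : ∀ (M : Type u) [Field M] [Algebra k M] [Algebra K M] [IsScalarTower k K M] [IsSepClosed M]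
      (x : sp k M ⟶ X), x.left (IsLocalRing.closedPoint M) = genericPoint X.left →
      x ≫ f = spMap (IsScalarTower.toAlgHom k K M) ≫ eY → x ≫ φ = val M x := by
    intro M _ _ _ _ _ x hx hxf
    obtain ⟨j, hj⟩ := hX M x hx
    letI : Algebra M₀ M := j.toRingHom.toAlgebra
    haveI : IsScalarTower k M₀ M := IsScalarTower.of_algebraMap_eq fun c => (j.commutes c).symm
    haveI : IsScalarTower K M₀ M := by
      refine IsScalarTower.of_algebraMap_eq fun c => ?_
      have h1 : spMap (j.comp jK) ≫ eY = spMap (IsScalarTower.toAlgHom k K M) ≫ eY := by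
        rw [← spMap_comp, Category.assoc, hjK, reassoc_of% hj, hxf]
      have h2 := congr($(Spec.map_injective (congrArg CommaMorphism.left ((cancel_mono eY).1 h1))) c)
      exact h2.symm
    let e : Ω₀ →ₐ[M₀] M := IsSepClosed.lift
    have he : spMap ((e.restrictScalars K).restrictScalars k) ≫ g₀ = x := by
      rw [← Category.assoc, spMap_comp, ← hj]
      congr 2
      exact AlgHom.ext fun c => e.commutes c
    rw [← he, Category.assoc, show g₀ ≫ φ = val Ω₀ g₀ by rw [Category.assoc, hφ, ha₀]]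
    exact hval_map Ω₀ M (e.restrictScalars K) g₀ hg₀
  -- translations
  refine ⟨φ, n, Module.finrank_pos, fun T b x => ?_⟩
  suffices h : a.act ≫ φ = (snd A X ≫ φ) * (fst A X) ^ n by
    rw [h, MonObj.comp_mul, lift_snd_assoc, MonObj.comp_pow, lift_fst]
  haveI : IsIntegral (A ⊗ X).left := by
    haveI : IsNoetherianRing (CommRingCat.of k) := inferInstanceAs (IsNoetherianRing k)
    haveI : IsLocallyNoetherian A.left := LocallyOfFiniteType.isLocallyNoetherian A.hom
    haveI : IsIntegral A.left := GeometricallyIntegral.isIntegral_of_subsingleton A.hom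
    exact inferInstanceAs (IsIntegral (pullback A.hom X.hom))
  obtain ⟨M₁, _, _, eT, -, hdomT, heT, -⟩ := exists_genericPt (A ⊗ X)
  let Ω₁ := SeparableClosure M₁
  let p := spMap (IsScalarTower.toAlgHom k M₁ Ω₁) ≫ eT
  have hp : p.left (IsLocalRing.closedPoint Ω₁) = genericPoint (A ⊗ X).left := by
    rw [Over.comp_left, Scheme.Hom.comp_apply, Subsingleton.elim (α := PrimeSpectrum M₁)
      ((spMap (IsScalarTower.toAlgHom k M₁ Ω₁)).left _) (IsLocalRing.closedPoint M₁), heT]
  haveI : Surjective (snd A X).left := by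
    haveI : Surjective A.hom := ⟨fun s => ⟨η[A].left s, by rw [← Scheme.Hom.comp_apply, Over.w η[A]]; rfl⟩⟩
    exact MorphismProperty.pullback_snd (P := @Surjective) _ _ inferInstance
  haveI : Surjective a.act.left := ⟨fun z => ⟨(lift (1 : X ⟶ A) (𝟙 X)).left z, by
    rw [← Scheme.Hom.comp_apply, ← Over.comp_left]
    have h : lift (1 : X ⟶ A) (𝟙 X) ≫ a.act = 𝟙 X := by
      have := congrArg (lift (toUnit X) (𝟙 X) ≫ ·) a.one_act
      simpa [Hom.one_def] using this
    rw [h]; rfl⟩⟩
  have hx : (p ≫ snd A X).left (IsLocalRing.closedPoint Ω₁) = genericPoint X.left := by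
    rw [Over.comp_left, Scheme.Hom.comp_apply, hp, genericPoint_map]
  obtain ⟨jx, hjx⟩ := hY Ω₁ ((p ≫ snd A X) ≫ f) (by
    rw [Over.comp_left, Scheme.Hom.comp_apply, hx, hfξ])
  letI : Algebra K Ω₁ := jx.toRingHom.toAlgebra
  haveI : IsScalarTower k K Ω₁ := IsScalarTower.of_algebraMap_eq fun c => (jx.commutes c).symm
  have hxf : (p ≫ snd A X) ≫ f = spMap (IsScalarTower.toAlgHom k K Ω₁) ≫ eY := hjx.symm
  haveI : IsDominant p.left := by
    refine ⟨fun z => ?_⟩
    refine closure_mono (t := Set.range p.left) (Set.singleton_subset_iff.2 ⟨IsLocalRing.closedPoint Ω₁, hp⟩) ?_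
    rw [(genericPoint_spec (A ⊗ X).left).def]
    trivial
  refine Over.OverMorphism.ext (ext_of_isDominant_of_isSeparated A.hom
    (by rw [Over.w (a.act ≫ φ), Over.w ((snd A X ≫ φ) * (fst A X) ^ n)]) p.left ?_)
  rw [← Over.comp_left, ← Over.comp_left]
  congr 1
  rw [MonObj.comp_mul, MonObj.comp_pow, ← Category.assoc, ← Category.assoc,
    hval Ω₁ (p ≫ a.act) (by rw [Over.comp_left, Scheme.Hom.comp_apply, hp, genericPoint_map])
      (by rw [Category.assoc, hinv, ← Category.assoc, hxf]),
    hval Ω₁ (p ≫ snd A X) hx hxf,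
    show p ≫ a.act = lift (p ≫ fst A X) (p ≫ snd A X) ≫ a.act by rw [← comp_lift, lift_fst_snd, Category.comp_id],
    hval_act Ω₁ _ _ hxf]

end Groth.Agent.H19Chev
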