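import Groth.Agent.H19Chev.Structure

/-!
# The open identity component of a group of finite type, and properness
-/

set_option autoImplicit false
set_option linter.style.haveILetI false
set_option backward.isDefEq.respectTransparency false
set_option maxHeartbeats 1000000
set_option synthInstance.maxHeartbeats 100000
universe u

open CategoryTheory CategoryTheory.Limits MonoidalCategory CartesianMonoidalCategory MonObj AlgebraicGeometry
open Groth.Agent Groth.Agent.H25AbCube Groth.Agent.H19Quot

noncomputable section

namespace Groth.Agent.H19Chev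

variable {k : Type u} [Field k]

local notation "Pts" X => 𝟙_ (Over (Spec (CommRingCat.of k))) ⟶ X

/-- The identity component as an open and closed subgroup. -/
theorem exists_open_idComp (G : Over (Spec (CommRingCat.of k))) [GrpObj G] [LocallyOfFiniteType G.hom]
    [QuasiCompact G.hom] :
    ∃ (L : Over (Spec (CommRingCat.of k))) (_ : GrpObj L) (j : L ⟶ G), IsMonHom j ∧ IsClosedImmersion j.left ∧
      IsOpenImmersion j.left ∧ ConnectedSpace L.left ∧ LocallyOfFiniteType L.hom ∧ QuasiCompact L.hom ∧
      Stab.pnt (1 : Pts G) ∈ Set.range j.left := by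
  obtain ⟨gL, hι⟩ := H19Grp.exists_grpObj_idComp G
  let L := H19Grp.idComp G
  let j : L ⟶ G := H19Grp.idCompι G
  haveI : IsMonHom j := hι
  haveI : IsClosedImmersion j.left := inferInstanceAs (IsClosedImmersion (H19Grp.idCompι G).left)
  haveI : IsOpenImmersion j.left := by
    haveI : Flat j.left := H19Grp.flat_clopenIdeal_subschemeι _
    haveI : IsNoetherianRing (CommRingCat.of k) := inferInstanceAs (IsNoetherianRing k)
    haveI : IsLocallyNoetherian G.left := LocallyOfFiniteType.isLocallyNoetherian G.hom
    haveI : LocallyOfFinitePresentation j.left := inferInstance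
    exact IsOpenImmersion.of_flat_of_mono j.left
  have hcomp := H19Grp.range_idCompι G
  have hconn : ConnectedSpace L.left := by
    have hc : _root_.IsConnected (Set.range j.left) := hcomp ▸ isConnected_connectedComponent
    haveI : ConnectedSpace (Set.range j.left) := isConnected_iff_connectedSpace.1 hc
    exact j.left.isClosedEmbedding.isEmbedding.toHomeomorph.symm.surjective.connectedSpace
      j.left.isClosedEmbedding.isEmbedding.toHomeomorph.symm.continuous
  refine ⟨L, gL, j, hι, inferInstance, inferInstance, hconn, by rw [← Over.w j]; infer_instance,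
    by rw [← Over.w j]; infer_instance, Stab.pnt (1 : Pts L), ?_⟩
  show j.left ((1 : Pts L).left _) = _
  rw [← Scheme.Hom.comp_apply, ← Over.comp_left, MonObj.one_comp]

/-- The identity component of a smooth group, as a smooth connected open subgroup. -/
theorem exists_smooth_idComp (G : Over (Spec (CommRingCat.of k))) [GrpObj G] [Smooth G.hom] [QuasiCompact G.hom] :
    ∃ (L : Over (Spec (CommRingCat.of k))) (_ : GrpObj L) (j : L ⟶ G), IsMonHom j ∧ IsClosedImmersion j.left ∧
      IsOpenImmersion j.left ∧ ConnectedSpace L.left ∧ Smooth L.hom ∧ QuasiCompact L.hom ∧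
      Stab.pnt (1 : Pts G) ∈ Set.range j.left := by
  obtain ⟨L, gL, j, h1, h2, h3, h4, -, h6, h7⟩ := exists_open_idComp G
  haveI := h3
  exact ⟨L, gL, j, h1, h2, h3, h4, by rw [← Over.w j]; infer_instance, h6, h7⟩

/-- A finite coproduct of universally closed morphisms is universally closed. -/
theorem universallyClosed_sigmaDesc {T : Scheme.{u}} {I : Type u} [Finite I] {X : I → Scheme.{u}}
    (f : ∀ i, X i ⟶ T) [∀ i, UniversallyClosed (f i)] : UniversallyClosed (Sigma.desc f) := by
  refine ⟨fun {W'} {T'} p g f' hp => ?_⟩
  intro C hC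
  replace hp := hp.flip
  let m : ∀ i, pullback (f i) g ⟶ W' := fun i =>
    hp.lift (pullback.fst (f i) g ≫ Sigma.ι X i) (pullback.snd (f i) g)
      (by rw [Category.assoc, Sigma.ι_desc, pullback.condition])
  have e : f'.base '' C = ⋃ i, (pullback.snd (f i) g).base '' ((m i).base ⁻¹' C) := by
    ext t
    simp only [Set.mem_image, Set.mem_iUnion, Set.mem_preimage]
    constructor
    · rintro ⟨w, hw, rfl⟩
      obtain ⟨i, x, hx⟩ := (sigmaOpenCover X).exists_eq (p w)
      have hi : IsPullback (m i) (pullback.fst (f i) g) p (Sigma.ι X i) := by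
        refine (IsPullback.of_bot ?_ (hp.lift_fst _ _ _).symm hp.flip.flip).flip
        rw [hp.lift_snd, Sigma.ι_desc]
        exact IsPullback.of_hasPullback (f i) g
      obtain ⟨z, hz, -⟩ := Scheme.Pullback.exists_preimage_pullback (f := p) (g := Sigma.ι X i) w x hx.symm
      refine ⟨i, hi.isoPullback.inv z, ?_, ?_⟩
      · rwa [← Scheme.Hom.comp_apply, hi.isoPullback_inv_fst, hz]
      · rw [← hz, ← hi.isoPullback_inv_fst, Scheme.Hom.comp_apply, ← Scheme.Hom.comp_apply (m i),
          hp.lift_snd]
    · rintro ⟨i, z, hz, rfl⟩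
      exact ⟨m i z, hz, by rw [← Scheme.Hom.comp_apply, hp.lift_snd]⟩
  rw [e]
  exact isClosed_iUnion_of_finite fun i =>
    haveI : UniversallyClosed (pullback.snd (f i) g) :=
      MorphismProperty.pullback_snd (P := @UniversallyClosed) _ _ inferInstance
    (pullback.snd (f i) g).isClosedMap _ (hC.preimage (m i).continuous)

/-- A group is proper as soon as an open closed subgroup is. -/
theorem isProper_of_open_subgroup [IsAlgClosed k] {G L : Over (Spec (CommRingCat.of k))} [GrpObj G]
    [LocallyOfFiniteType G.hom] [QuasiCompact G.hom] (j : L ⟶ G) [IsOpenImmersion j.left] [IsClosedImmersion j.left]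
    [IsProper L.hom] (h1 : Stab.pnt (1 : Pts G) ∈ Set.range j.left) : IsProper G.hom := by
  haveI : IsSeparated G.hom := H19Grp.AffineQuotient.isSeparated_of_grp G
  haveI : CompactSpace G.left := QuasiCompact.compactSpace_of_compactSpace G.hom
  haveI : JacobsonSpace G.left := LocallyOfFiniteType.jacobsonSpace G.hom
  obtain ⟨s, hs⟩ := finite_classes j h1
  let f : (g : s) → L.left ⟶ G.left := fun g => (j * (toUnit L ≫ (g.1 : Pts G))).left
  haveI : Surjective (Sigma.desc f) := by
    refine ⟨fun y => ?_⟩
    have hc : IsClosed (Set.range (Sigma.desc f)) := by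
      have hr : Set.range (Sigma.desc f) = ⋃ g : s, Set.range (f g) := by
        ext z
        constructor
        · rintro ⟨w, rfl⟩
          obtain ⟨g, w', rfl⟩ := (sigmaOpenCover (fun _ : s => L.left)).exists_eq w
          refine Set.mem_iUnion.2 ⟨g, w', ?_⟩
          rw [← Scheme.Hom.comp_apply]
          exact congrArg (fun φ : L.left ⟶ G.left => φ w') (Sigma.ι_desc f g).symm
        · intro hz
          obtain ⟨g, w, rfl⟩ := Set.mem_iUnion.1 hz
          exact ⟨Sigma.ι (fun _ : s => L.left) g w, by rw [← Scheme.Hom.comp_apply, Sigma.ι_desc]⟩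
      rw [hr]
      refine isClosed_iUnion_of_finite fun g => ?_
      haveI : IsProper (f g ≫ G.hom) := by
        rw [Over.w (j * (toUnit L ≫ (g.1 : Pts G)))]; infer_instance
      haveI : IsProper (f g) := IsProper.of_comp (f g) G.hom
      exact (f g).isClosedMap.isClosed_range
    have hsub : closedPoints G.left ⊆ Set.range (Sigma.desc f) := fun z hz => by
      obtain ⟨x, rfl⟩ := Stab.exists_pnt hz
      obtain ⟨g, hg, a, ha⟩ := hs x
      refine ⟨Sigma.ι (fun _ : s => L.left) ⟨g, hg⟩ (Stab.pnt a), ?_⟩
      rw [← Scheme.Hom.comp_apply, Sigma.ι_desc]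
      show (j * (toUnit L ≫ (g : Pts G))).left (a.left _) = _
      rw [← Scheme.Hom.comp_apply, ← Over.comp_left, MonObj.comp_mul, ha, pts_comp_toUnit, inv_mul_cancel_right]
    have := closure_minimal hsub hc
    rw [closure_closedPoints] at this
    exact this trivial
  haveI : UniversallyClosed (Sigma.desc f ≫ G.hom) := by
    rw [show Sigma.desc f ≫ G.hom = Sigma.desc (fun _ : s => L.hom) from Sigma.hom_ext _ _ fun g => by
      rw [Sigma.ι_desc_assoc, Sigma.ι_desc, Over.w (j * (toUnit L ≫ (g.1 : Pts G)))]]
    exact universallyClosed_sigmaDesc _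
  haveI : UniversallyClosed G.hom := UniversallyClosed.of_comp_surjective (Sigma.desc f) G.hom
  exact {}

/-- An irreducible T0 space of dimension at most zero is a point. -/
theorem subsingleton_of_dim_nonpos {X : Type u} [TopologicalSpace X] [IrreducibleSpace X] [T0Space X]
    (h : topologicalKrullDim X ≤ 0) : Subsingleton X := by
  refine ⟨fun x y => ?_⟩
  have key : ∀ z : X, closure ({z} : Set X) = Set.univ := fun z => by
    by_contra hne
    let a : TopologicalSpace.IrreducibleCloseds X :=
      ⟨closure {z}, isIrreducible_singleton.closure, isClosed_closure⟩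
    let b : TopologicalSpace.IrreducibleCloseds X :=
      ⟨Set.univ, IrreducibleSpace.isIrreducible_univ X, isClosed_univ⟩
    have hab : a < b := lt_of_le_of_ne (Set.subset_univ _) fun he => hne (congrArg SetLike.coe he)
    have := Order.krullDim_pos_iff.2 ⟨a, b, hab⟩
    exact absurd this (not_lt.2 h)
  refine Specializes.antisymm ?_ ?_ |>.eq <;>
  · rw [specializes_iff_mem_closure, key]
    trivial

end Groth.Agent.H19Chev
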