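import Groth.Prelude.Def_Red
import Groth.Prelude.Def_CoactBr
import Groth.Agent.H20Torus.Scheme
import Groth.Agent.H20Conj.Split
import Groth.Agent.H20Comod.UniPow
import Groth.Agent.H19Grp.GoodQuot
import Groth.Agent.H20Red.Scheme
import Groth.Agent.H20Red.Points
import Mathlib.RingTheory.RootsOfUnity.AlgebraicallyClosed

/-!
# Unipotence through torsion points, and invariance under isogenies

Over an algebraically closed field a smooth connected affine group has no subtorus iff it has no rational point of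
prime order `ℓ` different from the characteristic; in particular this property is invariant under isogenies.
-/

set_option autoImplicit false
set_option linter.style.haveILetI false
set_option linter.unusedSectionVars false
set_option synthInstance.maxHeartbeats 400000

universe u

open CategoryTheory MonoidalCategory CartesianMonoidalCategory MonObj GrpObj AlgebraicGeometry
open HopfRep WithConv

noncomputable section

namespace Groth.Agent.H19Chev.UnipotentIsogeny

attribute [local instance 2000] Hom.group Hom.monoid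

variable {K : Type u} [Field K]

local notation "Pts" X => 𝟙_ (Over (Spec (CommRingCat.of K))) ⟶ X

/-- The point `Spec K` as the unit object. -/
def unitIso : 𝟙_ (Over (Spec (CommRingCat.of K))) ≅ CoactBr.sp K K := Over.isoMk (Iso.refl _) (by
  show 𝟙 _ ≫ Spec.map (CommRingCat.ofHom (algebraMap K K)) = 𝟙 _
  rw [Category.id_comp, Algebra.algebraMap_self,
    show CommRingCat.ofHom (RingHom.id K) = 𝟙 (CommRingCat.of K) from rfl, Spec.map_id])

theorem comp_pow' {C : Type*} [Category C] [CartesianMonoidalCategory C] {X Y G : C} [GrpObj G]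
    (a : X ⟶ Y) (b : Y ⟶ G) (n : ℕ) : (a ≫ b) ^ n = a ≫ (b ^ n) := by
  induction n with
  | zero => rw [pow_zero, pow_zero, MonObj.comp_one]
  | succ n ih => rw [pow_succ, pow_succ, MonObj.comp_mul, ih]

/-- Composition with a homomorphism on points. -/
def postHom {X G H : Over (Spec (CommRingCat.of K))} [GrpObj G] [GrpObj H] (f : G ⟶ H) [IsMonHom f] :
    (X ⟶ G) →* (X ⟶ H) where
  toFun x := x ≫ f
  map_one' := MonObj.one_comp f
  map_mul' x y := MonObj.mul_comp x y f

theorem exists_pt_eq' {B : Type u} [CommRing B] [Algebra K B] (f : CoactBr.sp K K ⟶ CoactBr.sp K B) :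
    ∃ φ : B →ₐ[K] K, CoactBr.pt φ = f := by
  have h1 : CommRingCat.ofHom (algebraMap K B) ≫ Spec.preimage f.left = CommRingCat.ofHom (algebraMap K K) :=
    Spec.map_injective ((Spec.map_comp _ _).trans ((congrArg (· ≫ _) (Spec.map_preimage f.left)).trans (Over.w f)))
  let φ : B →ₐ[K] K :=
    { (Spec.preimage f.left).hom with
      commutes' := fun r => congrArg (fun φ' => CommRingCat.Hom.hom φ' r) h1 }
  exact ⟨φ, Over.OverMorphism.ext (Spec.map_preimage f.left)⟩

theorem pt_pow {B C : Type u} [CommRing B] [Bialgebra K B] [CommRing C] [Algebra K C]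
    (g : WithConv (B →ₐ[K] C)) (n : ℕ) :
    CoactBr.pt (g ^ n).ofConv = CoactBr.pt g.ofConv ^ n :=
  map_pow Spec.mapMulEquiv g n

/-- No points of order `ℓ` in the model gives none in the group. -/
theorem eq_one_of_model {U : Over (Spec (CommRingCat.of K))} [GrpObj U] {B : Type u} [CommRing B] [HopfAlgebra K B]
    (e : U ⟶ CoactBr.sp K B) [IsMonHom e] [Mono e] (ℓ : ℕ)
    (h : ∀ g : WithConv (B →ₐ[K] K), g ^ ℓ = 1 → g = 1) (x : Pts U) (hx : x ^ ℓ = 1) : x = 1 := by
  obtain ⟨φ, hφ⟩ := exists_pt_eq' (unitIso.inv ≫ x ≫ e)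
  have h1 : (toConv φ) ^ ℓ = 1 := by
    refine WithConv.ofConv_injective (CoactBr.pt_injective ?_)
    rw [pt_pow, WithConv.ofConv_toConv, hφ, comp_pow', show (x ≫ e) ^ ℓ = postHom e x ^ ℓ from rfl, ← map_pow, hx,
      map_one, MonObj.comp_one, CoactBr.one_eq_pt]
    rfl
  have h2 : unitIso.inv ≫ x ≫ e = 1 := by
    rw [← hφ, CoactBr.one_eq_pt]
    exact congrArg (fun g : WithConv (B →ₐ[K] K) => CoactBr.pt g.ofConv) (h _ h1)
  rw [← MonObj.comp_one unitIso.inv, cancel_epi] at h2
  exact (cancel_mono e).1 (h2.trans (MonObj.one_comp e).symm)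

variable [IsAlgClosed K]

/-- A smooth connected affine group without subtorus has no points of order prime to the characteristic. -/
theorem eq_one_of_pow_eq_one {U : Over (Spec (CommRingCat.of K))} [GrpObj U] [IsAffine U.left]
    [ConnectedSpace ↥U.left] [Smooth U.hom] (hU : Red.HasNoSubtorus K U) (ℓ : ℕ) (hℓ : (ℓ : K) ≠ 0)
    (x : Pts U) (hx : x ^ ℓ = 1) : x = 1 := by
  obtain ⟨B, _, _, hft, _, hB, ⟨es⟩⟩ := H20Torus.exists_isUnipotent_model U hU
  let e : U ≅ CoactBr.sp K B := (Grp.forget _).mapIso es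
  haveI : IsMonHom e.hom := es.hom.hom.isMonHom_hom
  refine eq_one_of_model e.hom ℓ (fun g hg => ?_) x hx
  obtain ⟨p, hp⟩ := CharP.exists K
  rcases CharP.char_is_prime_or_zero K p with hpr | h0
  · haveI := Fact.mk hpr
    obtain ⟨m, hm⟩ := H20Comod.exists_pow_char_pow_eq_one (S := K) hB p
    have hco : Nat.Coprime (p ^ m) ℓ :=
      Nat.Coprime.pow_left m ((Nat.Prime.coprime_iff_not_dvd hpr).2 fun hd =>
        hℓ ((CharP.cast_eq_zero_iff K p ℓ).2 hd))
    exact (pow_one g).symm.trans (hco ▸ pow_gcd_eq_one.2 ⟨hm g, hg⟩)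
  · subst h0
    haveI : CharZero K := CharP.charP_to_charZero K
    exact H20Red.eq_one_of_pow_eq_one hB g ℓ (isUnit_iff_ne_zero.2 hℓ) hg

/-- A nontrivial torus has points of every exact order prime to the characteristic. -/
theorem exists_orderOf_eq {T : Over (Spec (CommRingCat.of K))} [GrpObj T] (hT : Red.IsTorus T)
    (hne : ¬ Red.IsTrivialGrp T) (N : ℕ) (hN : (N : K) ≠ 0) : ∃ x : Pts T, orderOf x = N := by
  obtain ⟨A, _, _, r, e, he, ⟨E⟩⟩ := H20Conj.exists_split T hT
  haveI := he
  rcases Nat.eq_zero_or_pos r with hr | hr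
  · subst hr
    refine absurd ?_ hne
    haveI : Subsingleton (H20Conj.Lat.{u} 0) := inferInstance
    have hsurj : Function.Surjective (algebraMap K (MonoidAlgebra K (H20Conj.Lat.{u} 0))) := by
      intro z
      induction z using MonoidAlgebra.induction_linear with
      | zero => exact ⟨0, map_zero _⟩
      | add a b ha hb =>
        obtain ⟨a', rfl⟩ := ha
        obtain ⟨b', rfl⟩ := hb
        exact ⟨a' + b', map_add _ _ _⟩
      | single v c => exact ⟨c, by rw [Subsingleton.elim v 1]; simp⟩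
    have hbij : Function.Bijective (algebraMap K A) := by
      haveI : Nontrivial A := E.toAlgEquiv.toEquiv.nontrivial
      refine ⟨(algebraMap K A).injective, fun a => ?_⟩
      obtain ⟨c, hc⟩ := hsurj (E a)
      exact ⟨c, E.toAlgEquiv.injective ((E.toAlgEquiv.commutes c).trans hc)⟩
    haveI : IsIso (CommRingCat.ofHom (algebraMap K A)) := (ConcreteCategory.isIso_iff_bijective _).2 hbij
    haveI : IsIso e.inv.left := inferInstanceAs (IsIso ((Over.forget _).map e.inv))
    show IsIso T.hom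
    rw [← Over.w e.inv]
    have hS : IsIso (Spec.map (CommRingCat.ofHom (algebraMap K A))) := inferInstance
    exact IsIso.comp_isIso' ‹IsIso e.inv.left› hS
  haveI : NeZero (N : K) := ⟨hN⟩
  haveI : NeZero N := NeZero.of_neZero_natCast (R := K)
  obtain ⟨ζ, hζ⟩ := HasEnoughRootsOfUnity.exists_primitiveRoot K N
  let L := H20Conj.Lat.{u} r
  let u₀ : Kˣ := (hζ.isUnit (NeZero.ne N)).unit
  have hu : IsPrimitiveRoot u₀ N := IsPrimitiveRoot.coe_units_iff.1 (by simpa [u₀] using hζ)
  let ev : L →* Multiplicative ℤ :=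
    (AddMonoidHom.toMultiplicative (Pi.evalAddMonoidHom (fun _ : Fin r => ℤ) ⟨0, hr⟩)).comp
      (MulEquiv.ulift : L ≃* _).toMonoidHom
  let χ : L →* K := (Units.coeHom K).comp ((zpowersHom Kˣ u₀).comp ev)
  let iE : CoactBr.sp K (MonoidAlgebra K L) ⟶ CoactBr.sp K A :=
    CoactBr.pt ((E : A →ₐc[K] MonoidAlgebra K L) : A →ₐ[K] MonoidAlgebra K L)
  haveI : IsMonHom iE := H20Red.isMonHom_pt (E : A →ₐc[K] MonoidAlgebra K L)
  haveI : Mono iE := by
    haveI : IsSplitMono iE := ⟨⟨CoactBr.pt
      ((E.symm : MonoidAlgebra K L →ₐc[K] A) : MonoidAlgebra K L →ₐ[K] A), by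
        rw [← CoactBr.pt_comp, ← CoactBr.pt_id]
        exact congrArg CoactBr.pt (AlgHom.ext fun a => E.apply_symm_apply a)⟩⟩
    infer_instance
  let d : CoactBr.sp K (MonoidAlgebra K L) ⟶ T := iE ≫ e.hom
  haveI : IsMonHom d := inferInstanceAs (IsMonHom (iE ≫ e.hom))
  let P : CoactBr.sp K K ⟶ CoactBr.sp K (MonoidAlgebra K L) := CoactBr.pt (MonoidAlgebra.lift K K L χ)
  have hP : ∀ n : ℕ, P ^ n = CoactBr.pt (MonoidAlgebra.lift K K L (χ ^ n)) := by
    intro n
    induction n with
    | zero =>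
      rw [pow_zero, pow_zero, CoactBr.one_eq_pt]
      exact congrArg CoactBr.pt (MonoidAlgebra.algHom_ext (fun v => by simp) (Subsingleton.elim _ _))
    | succ n ih =>
      rw [pow_succ, pow_succ, ih, CoactBr.pt_mul_pt]
      exact congrArg CoactBr.pt (MonoidAlgebra.algHom_ext (fun v => by simp [MonoidAlgebra.comul_single])
        (Subsingleton.elim _ _))
  refine ⟨unitIso.hom ≫ P ≫ d, Eq.trans (orderOf_eq_orderOf_iff.2 fun n => ?_) hu.eq_orderOf.symm⟩
  rw [comp_pow', show (P ≫ d) ^ n = postHom d P ^ n from rfl, ← map_pow]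
  constructor
  · intro h
    rw [← MonObj.comp_one unitIso.hom, cancel_epi] at h
    have h1 : P ^ n = 1 := (cancel_mono d).1 (h.trans (MonObj.one_comp d).symm)
    rw [hP, ← pow_zero P, hP, pow_zero] at h1
    have h2 := (MonoidAlgebra.lift K K L).injective (CoactBr.pt_injective h1)
    have h3 := DFunLike.congr_fun h2 (ULift.up (Multiplicative.ofAdd (fun _ : Fin r => (1 : ℤ))))
    refine Units.ext ?_
    have h3' : (((u₀ ^ (1 : ℤ) : Kˣ) : K)) ^ n = 1 := h3
    simpa using h3'
  · intro h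
    have h1 : χ ^ n = 1 := MonoidHom.ext fun v => by
      simp only [χ, MonoidHom.pow_apply, MonoidHom.comp_apply, MonoidHom.one_apply, Units.coeHom_apply,
        zpowersHom_apply]
      rw [← Units.val_pow_eq_pow_val, ← zpow_natCast, ← zpow_mul, mul_comm, zpow_mul, zpow_natCast, h, one_zpow,
        Units.val_one]
    rw [hP, h1, ← pow_zero χ, ← hP, pow_zero, map_one, MonObj.comp_one]

/-- Rational points lift along surjective morphisms of finite type. -/
theorem exists_pt_lift {U V : Over (Spec (CommRingCat.of K))} [LocallyOfFiniteType U.hom]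
    [LocallyOfFiniteType V.hom] (f : U ⟶ V) [Surjective f.left] (y : Pts V) : ∃ x : Pts U, x ≫ f = y := by
  let pt := IsLocalRing.closedPoint K
  haveI : JacobsonSpace U.left := by
    haveI : JacobsonSpace ↥(Spec (CommRingCat.of K)) := inferInstanceAs (JacobsonSpace (PrimeSpectrum K))
    exact LocallyOfFiniteType.jacobsonSpace U.hom
  obtain ⟨z, hz⟩ := f.left.surjective (y.left pt)
  obtain ⟨x, hx, hxc⟩ := nonempty_inter_closedPoints ⟨z, hz⟩
    (((H19Grp.isClosed_range_of_section y.left (Over.w y)).preimage f.left.continuous).isLocallyClosed :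
      IsLocallyClosed (f.left ⁻¹' {y.left pt}))
  let q : Pts U := Over.homMk (pointOfClosedPoint U.hom x hxc) (pointOfClosedPoint_comp _ _ _)
  refine ⟨q, Over.OverMorphism.ext (H19Grp.section_ext (Over.w (q ≫ f)) (Over.w y) ?_)⟩
  exact (congrArg f.left.base (pointOfClosedPoint_apply U.hom x hxc _)).trans hx

/-- The rational points of the kernel of a finite homomorphism form a finite group. -/
theorem finite_kerPts {U V : Over (Spec (CommRingCat.of K))} [GrpObj U] [GrpObj V]
    (f : U ⟶ V) [IsMonHom f] [IsFinite f.left] :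
    Finite (postHom (X := 𝟙_ (Over (Spec (CommRingCat.of K)))) f).ker := by
  let pt := IsLocalRing.closedPoint K
  let F : Set U.left := f.left ⁻¹' {(1 : Pts V).left pt}
  haveI : Finite F := (f.left.finite_preimage_singleton _).to_subtype
  refine Finite.of_injective (fun x : (postHom (X := 𝟙_ (Over (Spec (CommRingCat.of K)))) f).ker =>
    (⟨x.1.left pt, ?_⟩ : F)) fun x y h => ?_
  · exact (Scheme.Hom.comp_apply x.1.left f.left pt).symm.trans (congrArg (fun z : Pts V => z.left pt) x.2)
  · exact Subtype.ext (Over.OverMorphism.ext (H19Grp.section_ext (Over.w x.1) (Over.w y.1) (congrArg Subtype.val h)))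

/-- Isogenies preserve the absence of points of order `ℓ`. -/
theorem eq_one_of_pow_eq_one_of_surjective {U V : Over (Spec (CommRingCat.of K))} [GrpObj U] [GrpObj V]
    [LocallyOfFiniteType U.hom] [LocallyOfFiniteType V.hom] (f : U ⟶ V) [IsMonHom f] [IsFinite f.left]
    [Surjective f.left] (ℓ : ℕ) (hℓ : ℓ.Prime) (h : ∀ x : Pts U, x ^ ℓ = 1 → x = 1)
    (y : Pts V) (hy : y ^ ℓ = 1) : y = 1 := by
  by_contra hne
  obtain ⟨w, hw⟩ := exists_pt_lift f y
  haveI := Fact.mk hℓ
  have hyo : orderOf y = ℓ := orderOf_eq_prime hy hne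
  haveI := finite_kerPts f
  have hfin : IsOfFinOrder w := by
    have hmem : w ^ ℓ ∈ (postHom (X := 𝟙_ (Over (Spec (CommRingCat.of K)))) f).ker := by
      rw [MonoidHom.mem_ker, map_pow, show postHom f w = y from hw, hy]
    obtain ⟨c, hc, hc1⟩ := isOfFinOrder_iff_pow_eq_one.1 (isOfFinOrder_of_finite (⟨w ^ ℓ, hmem⟩ :
      (postHom (X := 𝟙_ (Over (Spec (CommRingCat.of K)))) f).ker))
    exact isOfFinOrder_iff_pow_eq_one.2 ⟨ℓ * c, Nat.mul_pos hℓ.pos hc, by
      rw [pow_mul]; exact congrArg Subtype.val hc1⟩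
  have hdvd : ℓ ∣ orderOf w := by
    rw [← hyo, ← show postHom f w = y from hw]
    exact orderOf_map_dvd _ w
  obtain ⟨c, hc⟩ := hdvd
  have hc0 : 0 < c := Nat.pos_of_ne_zero fun h0 => by
    have := hfin.orderOf_pos; rw [hc, h0, Nat.mul_zero] at this; exact lt_irrefl 0 this
  have h1 : w ^ c = 1 := h _ (by rw [← pow_mul, mul_comm, ← hc, pow_orderOf_eq_one])
  have h2 := Nat.le_of_dvd hc0 (orderOf_dvd_of_pow_eq_one h1)
  rw [hc] at h2
  have := hℓ.two_le
  nlinarith

/-- A group finite over a group without points of order `ℓ` has no subtorus. -/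
theorem hasNoSubtorus_of_finite_hom {U V : Over (Spec (CommRingCat.of K))} [GrpObj U] [GrpObj V]
    (f : U ⟶ V) [IsMonHom f] [IsFinite f.left] (ℓ : ℕ) (hℓ : ℓ.Prime) (hℓK : (ℓ : K) ≠ 0)
    (h : ∀ y : Pts V, y ^ ℓ = 1 → y = 1) : Red.HasNoSubtorus K U := by
  intro T _ j _ _ hT
  by_contra hne
  haveI := finite_kerPts f
  have hpow : ∀ n (y : Pts V), y ^ (ℓ ^ n) = 1 → y = 1 := by
    intro n
    induction n with
    | zero => intro y hy; simpa using hy
    | succ n ih => intro y hy; exact ih y (h _ (by rwa [← pow_mul, ← pow_succ]))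
  have hall : ∀ n, ℓ ^ n ∣ Nat.card (postHom (X := 𝟙_ (Over (Spec (CommRingCat.of K)))) f).ker := by
    intro n
    obtain ⟨x, hx⟩ := exists_orderOf_eq hT hne (ℓ ^ n) (by rw [Nat.cast_pow]; exact pow_ne_zero n hℓK)
    have hxU : orderOf (postHom j x) = ℓ ^ n :=
      (orderOf_injective (postHom j) (fun a b hab => (cancel_mono j).1 hab) x).trans hx
    have hmem : postHom j x ∈ (postHom (X := 𝟙_ (Over (Spec (CommRingCat.of K)))) f).ker := by
      refine hpow n _ ?_
      rw [← map_pow, ← hxU, pow_orderOf_eq_one, map_one]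
    have hd := orderOf_dvd_natCard (⟨postHom j x, hmem⟩ :
      (postHom (X := 𝟙_ (Over (Spec (CommRingCat.of K)))) f).ker)
    rwa [← Subgroup.orderOf_coe, hxU] at hd
  set c := Nat.card (postHom (X := 𝟙_ (Over (Spec (CommRingCat.of K)))) f).ker
  exact absurd (Nat.le_of_dvd Nat.card_pos (hall c)) (not_le.2 (Nat.lt_pow_self hℓ.one_lt))

/-- Some prime is invertible in `K`. -/
theorem exists_prime_ne_zero : ∃ ℓ : ℕ, ℓ.Prime ∧ (ℓ : K) ≠ 0 := by
  by_cases h2 : ((2 : ℕ) : K) = 0
  · refine ⟨3, Nat.prime_three, fun h3 => one_ne_zero (α := K) ?_⟩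
    calc (1 : K) = ((3 : ℕ) : K) - ((2 : ℕ) : K) := by push_cast; ring
      _ = 0 := by rw [h2, h3, sub_zero]
  · exact ⟨2, Nat.prime_two, h2⟩

/-- The absence of subtori is invariant under isogenies of smooth connected affine groups. -/
theorem hasNoSubtorus_iff_of_isogeny {U V : Over (Spec (CommRingCat.of K))} [GrpObj U] [GrpObj V]
    [Smooth U.hom] [IsAffine U.left] [ConnectedSpace ↥U.left]
    [Smooth V.hom] [IsAffine V.left] [ConnectedSpace ↥V.left]
    (f : U ⟶ V) [IsMonHom f] [IsFinite f.left] [Surjective f.left] :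
    Red.HasNoSubtorus K U ↔ Red.HasNoSubtorus K V := by
  obtain ⟨ℓ, hℓ, hℓK⟩ := exists_prime_ne_zero (K := K)
  constructor
  · intro hU
    haveI : IsFinite (𝟙 V : V ⟶ V).left := inferInstanceAs (IsFinite (𝟙 V.left))
    exact hasNoSubtorus_of_finite_hom (𝟙 V) ℓ hℓ hℓK
      (eq_one_of_pow_eq_one_of_surjective f ℓ hℓ fun x hx => eq_one_of_pow_eq_one hU ℓ hℓK x hx)
  · intro hV
    exact hasNoSubtorus_of_finite_hom f ℓ hℓ hℓK fun y hy => eq_one_of_pow_eq_one hV ℓ hℓK y hy

end Groth.Agent.H19Chev.UnipotentIsogeny
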