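import Groth.Agent.H19Chev.AntiAffineFinite
import Groth.Agent.H7Lim.GrpModel
import Groth.Agent.H25AbCube.Descent

/-!
# Anti-affine groups over algebraic extensions of finite fields are proper
-/

set_option autoImplicit false
set_option linter.style.haveILetI false
set_option linter.unusedSectionVars false
set_option backward.isDefEq.respectTransparency false
set_option maxHeartbeats 1000000
set_option synthInstance.maxHeartbeats 400000
universe u

open CategoryTheory CategoryTheory.Limits MonoidalCategory CartesianMonoidalCategory MonObj AlgebraicGeometry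
open Groth.Agent Groth.Agent.H25AbCube

noncomputable section

namespace Groth.Agent.H19Chev

/-- An anti-affine group over an algebraic extension of a finite field is proper. -/
theorem isProper_of_antiAffine_algebraic {k₀ k : Type u} [Field k₀] [Finite k₀] [Field k] [Algebra k₀ k]
    [Algebra.IsAlgebraic k₀ k] (G : Over (Spec (CommRingCat.of k))) [GrpObj G]
    [LocallyOfFiniteType G.hom] [QuasiCompact G.hom] [IsIso G.hom.appTop] : IsProper G.hom := by
  haveI : IsSeparated G.hom := H19Grp.AffineQuotient.isSeparated_of_grp G
  let D := adD k₀ k ⋙ Over.forget (Spec (CommRingCat.of k₀))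
  let c : Cone D := (Over.forget (Spec (CommRingCat.of k₀))).mapCone (adC k₀ k)
  haveI : ∀ i, IsAffine (D.obj i) := fun i => isAffine_Spec _
  haveI : ∀ (i j : (Finset k)ᵒᵖ) (f : i ⟶ j), IsAffineHom (D.map f) := fun i j f => inferInstance
  haveI : LocallyOfFinitePresentation G.hom := inferInstance
  obtain ⟨j, G₀, gG₀, e, he, h1, h2, h3⟩ := H7Lim.OverStage.exists_grpModel (D := D) (c := c)
    (adC_isLimit k₀ k) G
  let R := Algebra.adjoin k₀ (j.unop : Set k)
  haveI : Algebra.FiniteType k₀ R := (Subalgebra.fg_iff_finiteType _).mp ⟨j.unop, rfl⟩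
  haveI : Algebra.IsIntegral k₀ R := ⟨fun r =>
    (isIntegral_algHom_iff R.val Subtype.val_injective).1 (Algebra.IsIntegral.isIntegral (r : k))⟩
  haveI : Module.Finite k₀ R := Algebra.IsIntegral.finite
  haveI : Finite R := Module.finite_of_finite k₀
  letI : Field R := (Finite.isField_of_domain R).toField
  let t : Spec (CommRingCat.of k) ⟶ Spec (CommRingCat.of R) := c.π.app j
  let G' : Over (Spec (CommRingCat.of R)) := G₀
  letI : GrpObj G' := gG₀
  haveI : LocallyOfFinitePresentation G'.hom := h1
  haveI : QuasiCompact G'.hom := h2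
  haveI : QuasiSeparated G'.hom := h3
  haveI : IsIso G'.hom.appTop := by
    have hbc : IsIso (pullback.snd G'.hom t).appTop := by
      have hw : e.inv.left ≫ G.hom = pullback.snd G'.hom t := Over.w e.inv
      haveI : IsIso e.inv.left := inferInstanceAs (IsIso ((Over.forget _).map e.inv))
      rw [← hw, Scheme.Hom.comp_appTop]
      infer_instance
    haveI := hbc
    haveI : CompactSpace G'.left := QuasiCompact.compactSpace_of_compactSpace G'.hom
    haveI : QuasiSeparatedSpace G'.left := quasiSeparatedSpace_of_quasiSeparated G'.hom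
    haveI : Nontrivial Γ(Spec (CommRingCat.of k), ⊤) :=
      (Scheme.ΓSpecIso (CommRingCat.of k)).commRingCatIsoToRingEquiv.toEquiv.nontrivial
    haveI : Flat t := by
      refine Flat.SpecMap_iff.2 ?_
      letI : Algebra R k := R.val.toRingHom.toAlgebra
      exact RingHom.flat_algebraMap_iff.2 inferInstance
    exact (ConcreteCategory.isIso_iff_bijective _).2 (H19Grp.AntiAffine.bijective_of_isPushout
      (H19Grp.AntiAffine.isField_Γ_Spec R)
      (H19Grp.AntiAffine.isPushout_of_flat_affine (IsPullback.of_hasPullback G'.hom t).flip))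
  haveI := isProper_of_antiAffine_finite G'
  haveI : IsProper (pullback.snd G'.hom t) := inferInstance
  haveI : IsIso e.hom.left := inferInstanceAs (IsIso ((Over.forget _).map e.hom))
  rw [← Over.w e.hom]
  exact inferInstanceAs (IsProper (e.hom.left ≫ pullback.snd G'.hom t))

/-- An anti-affine group over a field whose elements are fixed by powers of the Frobenius is proper. -/
theorem isProper_of_antiAffine_fixed {k : Type u} [Field k] (p : ℕ) [Fact p.Prime] [CharP k p]
    (halg : ∀ x : k, ∃ n : ℕ, 0 < n ∧ x ^ p ^ n = x) (G : Over (Spec (CommRingCat.of k))) [GrpObj G]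
    [LocallyOfFiniteType G.hom] [QuasiCompact G.hom] [IsIso G.hom.appTop] : IsProper G.hom := by
  classical
  have hp1 : 1 < p := (Fact.out : p.Prime).one_lt
  let S : Subfield k := (frobenius k p).eqLocusField (RingHom.id k)
  haveI : Finite S := by
    refine Set.finite_coe_iff.2 (((Polynomial.X ^ p - Polynomial.X : Polynomial k).roots.toFinset.finite_toSet).subset
      fun x hx => ?_)
    rw [Finset.mem_coe, Multiset.mem_toFinset,
      Polynomial.mem_roots (FiniteField.X_pow_card_sub_X_ne_zero k hp1)]
    simp only [Polynomial.IsRoot.def, Polynomial.eval_sub, Polynomial.eval_pow, Polynomial.eval_X, sub_eq_zero]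
    exact hx
  haveI : Algebra.IsAlgebraic S k := ⟨fun x => by
    obtain ⟨n, hn, hx⟩ := halg x
    refine ⟨Polynomial.X ^ (p ^ n) - Polynomial.X, FiniteField.X_pow_card_sub_X_ne_zero S ?_, ?_⟩
    · exact Nat.one_lt_pow hn.ne' hp1
    · simp [hx]⟩
  exact isProper_of_antiAffine_algebraic (k₀ := S) G

end Groth.Agent.H19Chev
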