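import Groth.Agent.H19Chev.MinProperQuotient
import Groth.Agent.H25AbCube.FrobPoly
import Groth.Agent.H25AbCube.MulN
import Groth.Agent.H20Torus.Scheme
import Groth.Agent.H20Comod.UniPow
import Groth.Agent.H27FibreRank.Generic
import Groth.Agent.H19Grp.HomUnramified

/-!
# Anti-affine groups over finite fields are proper
-/

set_option autoImplicit false
set_option linter.style.haveILetI false
set_option linter.unusedSectionVars false
set_option backward.isDefEq.respectTransparency false
set_option maxHeartbeats 1000000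
set_option synthInstance.maxHeartbeats 400000
universe u

open CategoryTheory CategoryTheory.Limits MonoidalCategory CartesianMonoidalCategory MonObj AlgebraicGeometry
open Groth.Agent Groth.Agent.H25AbCube Groth.Agent.H19Quot

noncomputable section

namespace Groth.Agent.H19Chev

attribute [local instance] Functor.grpObjObj

variable {k : Type u} [Field k]

local notation "Pts" X => 𝟙_ (Over (Spec (CommRingCat.of k))) ⟶ X

/-- An endomorphism of an anti-affine group which is surjective on the abelian quotient is surjective. -/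
theorem surjective_of_comp_quotient [PerfectField k] {G A N : Over (Spec (CommRingCat.of k))} [GrpObj G] [GrpObj A]
    [GrpObj N] [Smooth G.hom] [QuasiCompact G.hom] [IsIso G.hom.appTop] [IsCommMonObj G] [ConnectedSpace G.left]
    (i : N ⟶ G) [IsMonHom i] [Smooth N.hom] [ConnectedSpace N.left] [IsAffine N.left]
    (q : G ⟶ A) [IsMonHom q] [Flat q.left] [Surjective q.left] [LocallyOfFinitePresentation q.left] [IsProper A.hom]
    (hk : AlgGrp.IsKernel i q) (f : G ⟶ G) [IsMonHom f] (hf : Surjective (f ≫ q).left) : Surjective f.left := by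
  haveI : IsSeparated G.hom := H19Grp.AffineQuotient.isSeparated_of_grp G
  obtain ⟨C, gC, c, iC, hc, hiC, hci, hcf, hcs, hcp, hiCc⟩ :=
    AbelianCat.exists_image f ⟨inferInstance, inferInstance⟩ ⟨inferInstance, inferInstance⟩
  haveI := hc; haveI := hiC; haveI := hcf; haveI := hcs; haveI := hcp; haveI := hiCc
  have hN : AlgGrp.IsNormalHom iC := fun T b x => ⟨x, by rw [mul_comm b, mul_inv_cancel_right]⟩
  obtain ⟨R, gR, p, hp, hRlft, hRqc, hpf, hps, hpp, hkp⟩ := H19Quot.exists_quotientGroup iC hN
  haveI := hp; haveI := hRlft; haveI := hRqc; haveI := hpf; haveI := hps; haveI := hpp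
  obtain ⟨hRs, hRc⟩ := smooth_connected_image p
  haveI := hRs; haveI := hRc
  obtain ⟨L, gL, l, A', gA', r, hl, -, hLa, -, -, hr, hrs, hrf, hrp, hkr, hAp, hAs, hAn, -⟩ := exists_chevalley_field R
  haveI := hl; haveI := hLa; haveI := hr; haveI := hrs; haveI := hrf; haveI := hrp; haveI := hAp
  obtain ⟨h, hh⟩ := (H19Grp.QuotientDesc.existsUnique_desc q (p ≫ r) fun T x y hxy => by
    have h1 : (x / y) ≫ q = 1 := by rw [GrpObj.div_comp, hxy, div_self']
    obtain ⟨z, hz⟩ := H19Grp.kernel_lift hk (x / y) h1
    have h2 : (x / y) ≫ p ≫ r = 1 := by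
      rw [← hz, Category.assoc, eq_one_of_affine_to_proper_field (i ≫ p ≫ r), MonObj.comp_one]
    rwa [GrpObj.div_comp, div_eq_one] at h2).exists
  have hpr : p ≫ r = 1 := by
    haveI : Surjective (f ≫ q).left := hf
    have h1 : f ≫ p = 1 := by rw [← hci, Category.assoc, H19Grp.kernel_comp_eq_one hkp, MonObj.comp_one]
    have h2 : (f ≫ q) ≫ h = (f ≫ q) ≫ (1 : A ⟶ A') := by
      rw [Category.assoc, hh, ← Category.assoc, h1, MonObj.one_comp, MonObj.comp_one]
    haveI : IsReduced A.left := by
      haveI : IsReduced G.left := isReduced_smooth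
      exact H19Grp.isReduced_of_flat_surjective q.left
    haveI : IsDominant (f ≫ q).left := inferInstance
    have h3 : h = 1 := by
      haveI : IsSeparated A'.hom := inferInstance
      haveI : A'.left.IsSeparated := ⟨by rw [← terminal.comp_from A'.hom]; infer_instance⟩
      exact Over.OverMorphism.ext (ext_of_isDominant (f ≫ q).left (by
        rw [← Over.comp_left, ← Over.comp_left, h2]))
    rw [← hh, h3, MonObj.comp_one]
  have hr1 : r = 1 := cancel_quotient p (by rw [hpr, MonObj.comp_one])
  obtain ⟨s, hs⟩ := H19Grp.kernel_lift hkr (𝟙 R) (by rw [Category.id_comp, hr1])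
  haveI : IsAffine R.left := by
    haveI := H19Grp.kernel_mono hkr
    haveI : IsIso l := by
      refine ⟨s, ?_, hs⟩
      rw [← cancel_mono l, Category.assoc, hs, Category.comp_id, Category.id_comp]
    haveI : IsIso l.left := inferInstanceAs (IsIso ((Over.forget _).map l))
    exact .of_isIso (inv l.left)
  obtain ⟨g, hg⟩ := H19Grp.kernel_lift hkp (𝟙 G) (by
    rw [Category.id_comp]
    exact H19Grp.AntiAffineGroup.eq_one_of_isAffine p (IsMonHom.one_hom p))
  haveI : IsSplitEpi iC := ⟨⟨g, hg⟩⟩
  haveI := H19Grp.kernel_mono hkp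
  haveI : IsIso iC := isIso_of_mono_of_isSplitEpi iC
  haveI : IsIso iC.left := inferInstanceAs (IsIso ((Over.forget _).map iC))
  rw [← hci, Over.comp_left]
  infer_instance

/-- A surjective endomorphism of a smooth connected group has finitely many points in its kernel. -/
theorem finite_ker_of_surjective [IsAlgClosed k] {G : Over (Spec (CommRingCat.of k))} [GrpObj G] [Smooth G.hom]
    [QuasiCompact G.hom] [ConnectedSpace G.left] (f : G ⟶ G) [IsMonHom f] [Surjective f.left] :
    {x : Pts G | x ≫ f = 1}.Finite := by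
  haveI := geometricallyIntegral_grp G
  haveI : IsIntegral G.left := GeometricallyIntegral.isIntegral_of_subsingleton G.hom
  haveI : IsDominant f.left := inferInstance
  obtain ⟨V, hV, hfin⟩ := H27FibreRank.exists_open_fibre_rank G.hom G.hom f.left (Over.w f) rfl
  haveI : JacobsonSpace G.left := LocallyOfFiniteType.jacobsonSpace G.hom
  obtain ⟨y, hyV, hy⟩ := nonempty_inter_closedPoints (Z := (V : Set G.left)) ⟨_, hV⟩ V.isOpen.isLocallyClosed
  obtain ⟨b, rfl⟩ := Stab.exists_pnt hy
  obtain ⟨x₀, hx₀⟩ := exists_pt_lift f b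
  obtain ⟨hfi, -⟩ := hfin _ hyV
  haveI : Finite ↥(f.left.fiber (Stab.pnt b)) := by
    haveI : IsFinite (pullback.snd f.left (G.left.fromSpecResidueField (Stab.pnt b))) := hfi
    refine Set.finite_univ_iff.1 ?_
    refine ((pullback.snd f.left (G.left.fromSpecResidueField (Stab.pnt b))).finite_preimage_singleton
      (IsLocalRing.closedPoint _)).subset fun z _ => ?_
    exact Subsingleton.elim (α := PrimeSpectrum (G.left.residueField (Stab.pnt b))) _ _
  have hfib : (f.left ⁻¹' {Stab.pnt b}).Finite := by
    rw [← f.left.range_fiberι]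
    exact Set.finite_range _
  refine Set.Finite.of_finite_image (f := fun x : Pts G => Stab.pnt (x * x₀)) (hfib.subset ?_) fun x _ y _ hxy =>
    mul_right_cancel (Stab.pnt_injective hxy)
  rintro _ ⟨x, hx, rfl⟩
  show f.left ((x * x₀).left _) = b.left _
  rw [← Scheme.Hom.comp_apply, ← Over.comp_left, MonObj.mul_comp, show x ≫ f = 1 from hx, _root_.one_mul, hx₀]

open GeomTate in
/-- Over a finite field, `F ^ r - q ^ r` is surjective on abelian varieties. -/
theorem surjective_frob_sub [Finite k] (p N : ℕ) [Fact p.Prime] [CharP k p] (hq : Nat.card k = p ^ N)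
    (hN : ∀ x : k, x ^ p ^ N = x) (A : Over (Spec (CommRingCat.of k))) [GrpObj A] [IsProper A.hom]
    [GeometricallyIntegral A.hom] (r : ℕ) (hr : 0 < r) :
    Surjective (FrobPoints.F p A N hN r * ((𝟙 A) ^ (p ^ (N * r)))⁻¹ : A ⟶ A).left := by
  classical
  haveI : IsCommMonObj A := isCommMonObj_of_av
  haveI := FrobPoints.isMonHom_F p A N hN 1
  haveI : IsIntegral A.left := GeometricallyIntegral.isIntegral_of_subsingleton A.hom
  let Ω := AlgebraicClosure k
  obtain ⟨g, hg⟩ := Groth.Agent.H25Grp.exists_nat_dim A.hom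
  obtain ⟨l, hlp, hl⟩ := exists_prime_ne k
  haveI : Fact l.Prime := ⟨hlp⟩
  let π : A ⟶ A := FrobPoints.F p A N hN 1
  obtain ⟨hb, hle, happ⟩ := FrobPoly.fr_spec p A.left (N * 1)
  obtain ⟨b⟩ := exists_tateBasis_pt (A := A) (Ω := Ω) l hl hg
  haveI : Module.Free ℤ_[l] (AbDual.TateMod A l (SGA7.pt Ω)) := Module.Free.of_basis b
  haveI : Module.Finite ℤ_[l] (AbDual.TateMod A l (SGA7.pt Ω)) := Module.Finite.of_basis b
  obtain ⟨P, hP, -, -, hPl⟩ := exists_charpoly_pt (A := A) (Ω := Ω) hg (EndAV.End.of π)
  obtain ⟨-, -, hR, hG, -⟩ := FrobPoly.facts π hb hle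
    (fun U s => by rw [hq, ← Nat.mul_one N]; exact happ U s) Ω hg l hl P (hPl l hl)
  have hne := hG (Polynomial.X ^ r - Polynomial.C ((p ^ (N * r) : ℕ) : ℤ))
  have hd : degree (Polynomial.aeval (EndAV.End.of π)
      (Polynomial.X ^ r - Polynomial.C ((p ^ (N * r) : ℕ) : ℤ))).toHom ≠ 0 := by
    intro h0
    rw [h0, Nat.cast_zero, eq_comm, Multiset.prod_eq_zero_iff, Multiset.mem_map] at hne
    obtain ⟨α, hα, hα0⟩ := hne
    rw [map_sub, map_pow, Polynomial.aeval_X, Polynomial.aeval_C, sub_eq_zero, map_natCast] at hα0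
    have h2 := congrArg Complex.normSq hα0
    rw [map_pow, hR α hα, Complex.normSq_natCast, hq, Nat.cast_pow, Nat.cast_pow, ← pow_mul, ← pow_add] at h2
    have h3 := (pow_right_injective₀ (a := (p : ℝ)) (by exact_mod_cast (Fact.out : p.Prime).pos)
      (by exact_mod_cast (Fact.out : p.Prime).one_lt.ne')) h2
    have hN0 : N ≠ 0 := by
      rintro rfl
      rw [pow_zero, Nat.card_eq_one_iff_unique] at hq
      exact not_subsingleton k hq.1
    have : 0 < N * r := Nat.mul_pos (Nat.pos_of_ne_zero hN0) hr
    omega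
  have hpow : ∀ m, ((EndAV.End.of π) ^ m).toHom = FrobPoints.F p A N hN m := by
    intro m
    induction m with
    | zero => rw [pow_zero, EndAV.End.toHom_one, FrobPoints.F_zero]
    | succ m ih => rw [pow_succ, EndAV.End.toHom_mul, ih, EndAV.End.toHom_of, FrobPoints.F_succ p A N hN m]
  have he : (Polynomial.aeval (EndAV.End.of π) (Polynomial.X ^ r - Polynomial.C ((p ^ (N * r) : ℕ) : ℤ))).toHom =
      (FrobPoints.F p A N hN r * ((𝟙 A) ^ (p ^ (N * r)))⁻¹ : A ⟶ A) := by
    rw [map_sub, map_pow, Polynomial.aeval_X, Polynomial.aeval_C, map_natCast, EndAV.End.toHom_sub, hpow,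
      EndAV.End.toHom_natCast, div_eq_mul_inv]
  rw [he] at hd
  haveI : IsFinite (FrobPoints.F p A N hN r * ((𝟙 A) ^ (p ^ (N * r)))⁻¹ : A ⟶ A).left := by
    by_contra h
    exact hd (by rw [degree, if_neg h])
  exact H25Grp.surjective_of_finite A.hom A.hom _ rfl

/-- The Frobenius power of a finite field fixes every element of a given finite set of an algebraic extension. -/
theorem exists_fix [Finite k] (p N : ℕ) [Fact p.Prime] [CharP k p] (hq : Nat.card k = p ^ N)
    (K : Type u) [Field K] [Algebra k K] [Algebra.IsAlgebraic k K] (S : Finset K) :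
    ∃ r : ℕ, 0 < r ∧ ∀ z ∈ S, z ^ p ^ (N * r) = z := by
  let L := IntermediateField.adjoin k (S : Set K)
  haveI : FiniteDimensional k L :=
    IntermediateField.finiteDimensional_adjoin fun z _ => Algebra.IsIntegral.isIntegral z
  haveI : Finite L := Module.finite_of_finite k
  haveI : Fintype L := Fintype.ofFinite L
  refine ⟨Module.finrank k L, Module.finrank_pos, fun z hz => ?_⟩
  have h := FiniteField.pow_card (⟨z, IntermediateField.subset_adjoin k _ hz⟩ : L)
  rw [← Nat.card_eq_fintype_card, Module.natCard_eq_pow_finrank (K := k), hq, ← pow_mul] at h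
  exact congrArg Subtype.val h

/-- The base point of an algebra, as a point. -/
def ptIso (K : Type u) [Field K] :
    𝟙_ (Over (Spec (CommRingCat.of K))) ≅ (Spec (CommRingCat.of K)).asOver (Spec (CommRingCat.of K)) :=
  Over.isoMk (Iso.refl _) (by
    show 𝟙 _ ≫ Spec.map (CommRingCat.ofHom (algebraMap K K)) = 𝟙 (Spec (CommRingCat.of K))
    rw [Category.id_comp]
    exact Spec.map_id _)

open GeomTate in
/-- An anti-affine group over a finite field is proper. -/
theorem isProper_of_antiAffine_finite [Finite k] (G : Over (Spec (CommRingCat.of k))) [GrpObj G]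
    [LocallyOfFiniteType G.hom] [QuasiCompact G.hom] [IsIso G.hom.appTop] : IsProper G.hom := by
  classical
  haveI : IsSeparated G.hom := H19Grp.AffineQuotient.isSeparated_of_grp G
  haveI := H19Grp.AntiAffineGroup.connectedSpace G
  haveI : Smooth G.hom := H19Grp.AntiAffineSmooth.smooth G
  haveI : IsCommMonObj G := H19Grp.AntiAffineGroup.isCommMonObj G
  obtain ⟨p, N₀, _, _, hN0, hq₀, hN⟩ := FrobPoly.exists_char k
  obtain ⟨N, gN, i, A, gA, q, hi, hic, hNa, hNc, -, hq, hqs, hqf, hqp, hk, hAp, hAs, hAc, hNs⟩ :=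
    exists_chevalley_field G
  haveI := hi; haveI := hic; haveI := hNa; haveI := hNc; haveI := hq; haveI := hqs; haveI := hqf; haveI := hqp
  haveI := hAp; haveI := hAs; haveI := hAc
  haveI : Smooth N.hom := hNs inferInstance
  haveI := geometricallyIntegral_av A
  haveI := geometricallyIntegral_grp G
  haveI := geometricallyIntegral_grp N
  let K := AlgebraicClosure k
  let F := GeomTate.bc k K
  haveI := GeomTate.flat_σ k K
  haveI := GeomTate.surjective_σ k K
  haveI : Smooth (F.obj G).hom := inferInstanceAs (Smooth (pullback.snd G.hom (GeomTate.σ k K)))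
  haveI : QuasiCompact (F.obj G).hom := inferInstanceAs (QuasiCompact (pullback.snd G.hom (GeomTate.σ k K)))
  haveI : GeometricallyIntegral (F.obj G).hom :=
    inferInstanceAs (GeometricallyIntegral (pullback.snd G.hom (GeomTate.σ k K)))
  haveI : IsIntegral (F.obj G).left := GeometricallyIntegral.isIntegral_of_subsingleton (F.obj G).hom
  haveI : Smooth (F.obj N).hom := inferInstanceAs (Smooth (pullback.snd N.hom (GeomTate.σ k K)))
  haveI : GeometricallyIntegral (F.obj N).hom :=
    inferInstanceAs (GeometricallyIntegral (pullback.snd N.hom (GeomTate.σ k K)))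
  haveI : IsIntegral (F.obj N).left := GeometricallyIntegral.isIntegral_of_subsingleton (F.obj N).hom
  haveI : IsAffineHom (F.obj N).hom := inferInstanceAs (IsAffineHom (pullback.snd N.hom (GeomTate.σ k K)))
  haveI : IsAffine (F.obj N).left := isAffine_of_isAffineHom (F.obj N).hom
  haveI : IsMonHom (F.map i) := inferInstance
  haveI : Mono i := Over.mono_of_mono_left _
  haveI : Mono (F.map i) := inferInstance
  -- endomorphisms inducing surjections on the abelian quotient have finitely many points in the kernel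
  have hker : ∀ (f : G ⟶ G) (fA : A ⟶ A), IsMonHom f → f ≫ q = q ≫ fA → Surjective fA.left →
      {x : 𝟙_ _ ⟶ F.obj G | x ≫ F.map f = 1}.Finite := by
    intro f fA hf he hfA
    haveI := hf; haveI := hfA
    haveI : Surjective f.left := surjective_of_comp_quotient i q hk f (by
      rw [he, Over.comp_left]; infer_instance)
    haveI : IsMonHom (F.map f) := inferInstance
    haveI : Surjective (F.map f).left := MorphismProperty.overPullbackMap _ _ inferInstance
    exact finite_ker_of_surjective (F.map f)
  -- a Hopf model of the linear part over the algebraic closure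
  obtain ⟨B, _, _, ⟨eB⟩⟩ := H21Hom.exists_hopf_model (F.obj N)
  let e : F.obj N ≅ H21Hom.specGrp K B := (Grp.forget _).mapIso eB
  haveI : IsMonHom e.inv := eB.inv.hom.isMonHom_hom
  haveI : IsIso e.inv.left := inferInstanceAs (IsIso ((Over.forget _).map e.inv))
  haveI : LocallyOfFiniteType (H21Hom.specGrp K B).hom := by rw [← Over.w e.inv]; infer_instance
  haveI : Algebra.FiniteType K B := by
    have h : (CommRingCat.ofHom (algebraMap K B)).hom.FiniteType :=
      (HasRingHomProperty.Spec_iff (P := @LocallyOfFiniteType)).1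
        (show LocallyOfFiniteType (Spec.map (CommRingCat.ofHom (algebraMap K B))) from ‹_›)
    exact RingHom.finiteType_algebraMap.1 h
  haveI : IsDomain B := by
    haveI : Nonempty ↥(Spec (CommRingCat.of B)) := ⟨e.hom.left (Classical.arbitrary _)⟩
    haveI : IsIntegral (Spec (CommRingCat.of B)) := AlgebraicGeometry.isIntegral_of_isOpenImmersion e.inv.left
    exact affine_isIntegral_iff (CommRingCat.of B) |>.1 inferInstance
  let P : WithConv (B →ₐ[K] K) → (𝟙_ _ ⟶ F.obj N) := fun g =>
    (ptIso K).hom ≫ Spec.mapMulEquiv g ≫ e.inv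
  have hPmul : ∀ a b, P (a * b) = P a * P b := fun a b => by
    show _ = _
    simp only [P]
    rw [map_mul, MonObj.mul_comp, MonObj.comp_mul]
  have hPone : P 1 = 1 := by
    simp only [P]
    rw [map_one, MonObj.one_comp, MonObj.comp_one]
  have hPinj : Function.Injective P := fun a b h => by
    simp only [P, cancel_epi, cancel_mono, EmbeddingLike.apply_eq_iff_eq] at h
    exact h
  have hPsurj : Function.Surjective P := fun x => ⟨Spec.mapMulEquiv.symm ((ptIso K).inv ≫ x ≫ e.hom), by
    simp only [P, MulEquiv.apply_symm_apply, Category.assoc, Iso.hom_inv_id, Category.comp_id,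
      Iso.hom_inv_id_assoc]⟩
  by_cases hunip : ∀ φ : B →ₐc[K] MonoidAlgebra K (Multiplicative ℤ), ¬ Function.Surjective φ
  · -- the unipotent case: a power of the characteristic kills the linear part
    haveI : CharP K p := charP_of_injective_algebraMap (algebraMap k K).injective p
    obtain ⟨m, hm⟩ := H20Comod.exists_pow_char_pow_eq_one (k := K) (A := B) (S := K)
      (H20Torus.isUnipotent_of_forall_not_surjective hunip) p
    have hpm : 0 < p ^ m := pow_pos (Fact.out : p.Prime).pos m
    haveI := H25AbCube.surjective_pow (A := A) hpm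
    have hfin := hker ((𝟙 G) ^ (p ^ m)) ((𝟙 A) ^ (p ^ m))
      (H19Grp.AntiAffineGroup.isMonHom_of_one_hom _ (by
        rw [MonObj.comp_pow, Category.comp_id, MonObj.one_eq_one, one_pow]))
      (by rw [MonObj.pow_comp, MonObj.comp_pow, Category.id_comp, Category.comp_id]) inferInstance
    have hall : ∀ x : 𝟙_ _ ⟶ F.obj N, x ≫ F.map i ≫ F.map ((𝟙 G) ^ (p ^ m)) = 1 := fun x => by
      obtain ⟨g, rfl⟩ := hPsurj x
      have hp : ∀ d : ℕ, P (g ^ d) = P g ^ d := fun d => by
        induction d with
        | zero => rw [pow_zero, pow_zero, hPone]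
        | succ d ih => rw [pow_succ, pow_succ, hPmul, ih]
      rw [show F.map ((𝟙 G) ^ (p ^ m)) = ((𝟙 (F.obj G)) ^ (p ^ m) : F.obj G ⟶ F.obj G) by
          rw [← F.map_id G]; exact map_pow (Functor.homMonoidHom F) _ _,
        ← Category.assoc, MonObj.comp_pow, Category.comp_id, ← MonObj.pow_comp, ← hp, hm, hPone, MonObj.one_comp]
    haveI : Finite (𝟙_ _ ⟶ F.obj N) := by
      haveI := hfin.to_subtype
      exact Finite.of_injective
        (fun x : 𝟙_ _ ⟶ F.obj N => (⟨x ≫ F.map i, (Category.assoc _ _ _).trans (hall x)⟩ :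
          {x : 𝟙_ _ ⟶ F.obj G | x ≫ F.map ((𝟙 G) ^ (p ^ m)) = 1}))
        fun a b h => (cancel_mono (F.map i)).1 (congrArg Subtype.val h)
    have hf : IsFinite (toUnit (F.obj N)).left := by
      haveI : LocallyOfFiniteType (𝟙_ (Over (Spec (CommRingCat.of K)))).hom :=
        inferInstanceAs (LocallyOfFiniteType (𝟙 _))
      haveI : QuasiCompact (𝟙_ (Over (Spec (CommRingCat.of K)))).hom := inferInstanceAs (QuasiCompact (𝟙 _))
      haveI : QuasiCompact (F.obj N).hom := inferInstance
      exact isFinite_of_finite_ker (toUnit (F.obj N)) (Set.toFinite _)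
    have hf' : IsFinite (pullback.snd N.hom (GeomTate.σ k K)) := by
      rw [show (toUnit (F.obj N)).left = pullback.snd N.hom (GeomTate.σ k K) from
        (Category.comp_id _).symm.trans (Over.w (toUnit (F.obj N)))] at hf
      exact hf
    haveI : IsFinite N.hom := MorphismProperty.of_pullback_snd_of_descendsAlong (P := @IsFinite) (Q := H18Descent.fpqc)
      (g := GeomTate.σ k K) ⟨⟨inferInstance, inferInstance⟩, inferInstance⟩ hf'
    haveI : QuasiCompact q.left :=
      (AbelianCat.props_hom q ⟨inferInstance, inferInstance⟩ ⟨inferInstance, inferInstance⟩).2.1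
    exact isProper_of_finite_kernel i q hk
  · -- a torus in the linear part contradicts the weights of the Frobenius
    exfalso
    push Not at hunip
    obtain ⟨φ, hφ⟩ := hunip
    let ev : Kˣ → (MonoidAlgebra K (Multiplicative ℤ) →ₐ[K] K) := fun y =>
      MonoidAlgebra.lift K K (Multiplicative ℤ) ((Units.coeHom K).comp (zpowersHom Kˣ y))
    let c : Kˣ → WithConv (B →ₐ[K] K) := fun y =>
      WithConv.toConv ((ev y).comp (φ : B →ₐ[K] MonoidAlgebra K (Multiplicative ℤ)))
    have hcmul : ∀ y z, c (y * z) = c y * c z := by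
      have hone : ∀ y z, WithConv.toConv (ev (y * z)) = WithConv.toConv (ev y) * WithConv.toConv (ev z) := fun y z => by
        refine WithConv.ofConv_injective (MonoidAlgebra.algHom_ext (fun a => ?_) (AlgHom.ext fun a => (AlgHom.commutes _ a).trans (AlgHom.commutes _ a).symm))
        rw [AlgHom.convMul_apply, MonoidAlgebra.comul_single]
        simp [ev, mul_zpow]
      intro y z
      refine WithConv.ofConv_injective (AlgHom.ext fun b => ?_)
      have h2 := congrArg (fun h : WithConv (MonoidAlgebra K (Multiplicative ℤ) →ₐ[K] K) => h.ofConv (φ b)) (hone y z)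
      simp only [c, AlgHom.convMul_apply] at h2 ⊢
      refine h2.trans ?_
      rw [← CoalgHomClass.map_comp_comul_apply φ b]
      induction (CoalgebraStruct.comul (R := K) b) using TensorProduct.induction_on with
      | zero => simp
      | tmul u v => simp
      | add u v hu hv => simp only [map_add, hu, hv]
    obtain ⟨t, ht⟩ := hφ (MonoidAlgebra.single (Multiplicative.ofAdd (1 : ℤ)) 1)
    have hcinj : Function.Injective c := fun y z h => by
      have h1 : (c y).ofConv t = (c z).ofConv t := by rw [h]
      simp only [c, AlgHom.comp_apply] at h1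
      rw [show (φ : B →ₐ[K] MonoidAlgebra K (Multiplicative ℤ)) t = φ t from rfl, ht] at h1
      simp [ev] at h1
      exact Units.ext h1
    -- the ring homomorphism to Laurent polynomials over the finite field
    let m : Spec (CommRingCat.of B) ⟶ N.left := e.inv.left ≫ pullback.fst N.hom (GeomTate.σ k K)
    let θ : Γ(N.left, ⊤) ⟶ CommRingCat.of B := Spec.preimage (m ≫ N.left.isoSpec.hom)
    have hθ : Spec.map θ ≫ N.left.isoSpec.inv = m := by
      rw [Spec.map_preimage, Category.assoc, Iso.hom_inv_id, Category.comp_id]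
    let ψ : Γ(N.left, ⊤) →+* MonoidAlgebra K (Multiplicative ℤ) :=
      (φ : B →ₐ[K] MonoidAlgebra K (Multiplicative ℤ)).toRingHom.comp θ.hom
    let ι₀ : k →+* Γ(N.left, ⊤) := (Spec.preimage (N.left.isoSpec.inv ≫ N.hom)).hom
    letI : Algebra k Γ(N.left, ⊤) := ι₀.toAlgebra
    haveI : Algebra.FiniteType k Γ(N.left, ⊤) := by
      have h : (Spec.preimage (N.left.isoSpec.inv ≫ N.hom)).hom.FiniteType := by
        refine (HasRingHomProperty.Spec_iff (P := @LocallyOfFiniteType)).1 ?_
        rw [Spec.map_preimage]; infer_instance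
      exact h
    have hψk : ∀ a : k, ψ (ι₀ a) = algebraMap K (MonoidAlgebra K (Multiplicative ℤ)) (algebraMap k K a) := fun a => by
      have h1 : Spec.map θ ≫ Spec.map (Spec.preimage (N.left.isoSpec.inv ≫ N.hom)) =
          Spec.map (CommRingCat.ofHom ((algebraMap K B).comp (algebraMap k K))) := by
        rw [Spec.map_preimage, Spec.map_preimage, Category.assoc, Iso.hom_inv_id_assoc, CommRingCat.ofHom_comp,
          Spec.map_comp]
        show (e.inv.left ≫ pullback.fst N.hom (GeomTate.σ k K)) ≫ N.hom = _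
        rw [Category.assoc, pullback.condition, ← Category.assoc,
          show e.inv.left ≫ pullback.snd N.hom (GeomTate.σ k K) = (H21Hom.specGrp K B).hom from Over.w e.inv]
        rfl
      rw [← Spec.map_comp] at h1
      have h2 := congrArg (fun g : CommRingCat.of k ⟶ CommRingCat.of B => g.hom a) (Spec.map_injective h1)
      show φ (θ.hom (ι₀ a)) = _
      rw [show θ.hom (ι₀ a) = algebraMap K B (algebraMap k K a) from h2]
      exact (φ : B →ₐ[K] MonoidAlgebra K (Multiplicative ℤ)).commutes _
    obtain ⟨T, hT⟩ := (Algebra.FiniteType.out : (⊤ : Subalgebra k Γ(N.left, ⊤)).FG)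
    obtain ⟨r, hr, hfix⟩ := exists_fix p N₀ hq₀ K
      (T.biUnion fun b => (ψ b).coeff.support.image fun n => (ψ b).coeff n)
    let Q := p ^ (N₀ * r)
    have hKQ : ∀ a : k, (algebraMap k K a) ^ Q = algebraMap k K a := fun a => by
      rw [← map_pow, FrobPoints.pow_mul_eq p N₀ hN r a]
    haveI : CharP K p := charP_of_injective_algebraMap (algebraMap k K).injective p
    have hψev : ∀ (y : Kˣ) (b : Γ(N.left, ⊤)), (ev y (ψ b)) ^ Q = ev (y ^ Q) (ψ b) := by
      intro y b
      have hb : b ∈ Algebra.adjoin k (T : Set Γ(N.left, ⊤)) := by rw [hT]; trivial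
      induction hb using Algebra.adjoin_induction with
      | algebraMap a =>
        show (ev y (ψ (ι₀ a))) ^ Q = ev (y ^ Q) (ψ (ι₀ a))
        rw [hψk, AlgHom.commutes, AlgHom.commutes]
        exact hKQ a
      | add u v _ _ hu hv => rw [map_add, map_add, map_add, add_pow_char_pow, hu, hv]
      | mul u v _ _ hu hv => rw [map_mul, map_mul, map_mul, mul_pow, hu, hv]
      | mem b hb =>
        have hev : ∀ y : Kˣ, ev y (ψ b) = ∑ n ∈ (ψ b).coeff.support, (ψ b).coeff n * (((y ^ n.toAdd : Kˣ) : K)) := fun y => by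
          simp [ev, MonoidAlgebra.lift_apply, Finsupp.sum]
        rw [hev, hev, sum_pow_char_pow]
        refine Finset.sum_congr rfl fun n hn => ?_
        rw [mul_pow, hfix _ (Finset.mem_biUnion.2 ⟨b, hb, Finset.mem_image.2 ⟨n, hn, rfl⟩⟩),
          ← Units.val_pow_eq_pow_val, ← zpow_natCast (y ^ n.toAdd), ← zpow_natCast y, ← zpow_mul, ← zpow_mul, mul_comm (Q : ℤ)]
    -- the Frobenius acts on the one-parameter subgroup as a power
    let f : G ⟶ G := FrobPoints.F p G N₀ hN r * ((𝟙 G) ^ Q)⁻¹
    let fA : A ⟶ A := FrobPoints.F p A N₀ hN r * ((𝟙 A) ^ Q)⁻¹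
    have hFnat : FrobPoints.F p G N₀ hN r ≫ q = q ≫ FrobPoints.F p A N₀ hN r :=
      Over.OverMorphism.ext (by rw [Over.comp_left, Over.comp_left, FrobPoints.F_left, FrobPoints.F_left,
        FrobPoints.fr_comm])
    have hFone : η[G] ≫ FrobPoints.F p G N₀ hN r = η[G] := Over.OverMorphism.ext (by
      rw [Over.comp_left, FrobPoints.F_left]
      erw [← FrobPoints.fr_comm p η[G].left]
      erw [FrobPoints.fr_Spec_eq_id p (CommRingCat.of k) (N₀ * r) fun x => FrobPoints.pow_mul_eq p N₀ hN r x]
      exact Category.id_comp _)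
    haveI : IsMonHom f := H19Grp.AntiAffineGroup.isMonHom_of_one_hom _ (by
      show η[G] ≫ f = η[G]
      simp only [f]
      rw [MonObj.comp_mul, GrpObj.comp_inv, MonObj.comp_pow, Category.comp_id, hFone]
      simp [MonObj.one_eq_one])
    have hfin := hker f fA inferInstance (by
      simp only [f, fA]
      rw [MonObj.mul_comp, MonObj.comp_mul, GrpObj.inv_comp, GrpObj.comp_inv, MonObj.pow_comp, MonObj.comp_pow,
        Category.id_comp, Category.comp_id, hFnat])
      (surjective_frob_sub p N₀ hq₀ hN A r hr)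
    let x : Kˣ → (𝟙_ _ ⟶ F.obj G) := fun y => P (c y) ≫ F.map i
    have hxinj : Function.Injective x := fun y z h => hcinj (hPinj ((cancel_mono (F.map i)).1 h))
    have hxpow : ∀ (y : Kˣ) (d : ℕ), x (y ^ d) = x y ^ d := fun y d => by
      induction d with
      | zero =>
        have h1 : c 1 = 1 := by
          have h := hcmul 1 1
          rw [_root_.one_mul] at h
          have h' : P (c 1) = 1 := by
            have h'' := congrArg P h
            rw [hPmul] at h''
            exact mul_eq_left.1 h''.symm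
          exact hPinj (h'.trans hPone.symm)
        simp only [x, pow_zero, h1, hPone, MonObj.one_comp]
      | succ d ih =>
        rw [pow_succ, pow_succ, ← ih]
        simp only [x, hcmul, hPmul, MonObj.mul_comp]
    have hleft : ∀ y : Kˣ, (P (c y)).left ≫ pullback.fst N.hom (GeomTate.σ k K) =
        Spec.map (θ ≫ CommRingCat.ofHom (c y).ofConv.toRingHom) ≫ N.left.isoSpec.inv := fun y => by
      rw [Spec.map_comp, Category.assoc, hθ]
      simp only [P, Over.comp_left, Category.assoc]
      show 𝟙 _ ≫ _ = _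
      rw [Category.id_comp]
      rfl
    have hxker : ∀ y : Kˣ, x y ≫ F.map f = 1 := fun y => by
      have hfr : x y ≫ F.map (FrobPoints.F p G N₀ hN r) = x (y ^ Q) := by
        refine Over.OverMorphism.ext (pullback.hom_ext ?_ ((Over.w _).trans (Over.w _).symm))
        simp only [x, Over.comp_left, Category.assoc]
        show _ ≫ ((GeomTate.bc k K).map i).left ≫ ((GeomTate.bc k K).map _).left ≫ _ = _ ≫ ((GeomTate.bc k K).map i).left ≫ _
        simp only [Over.pullback_map_left, pullback.lift_fst, pullback.lift_fst_assoc, Category.assoc]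
        rw [FrobPoints.F_left, ← FrobPoints.fr_comm p i.left, reassoc_of% (hleft y), reassoc_of% (hleft (y ^ Q))]
        haveI : FrobSch.IsCharP N.left p := inferInstance
        haveI : FrobSch.IsCharP (Spec (CommRingCat.of K)) p := FrobSch.IsCharP.of_hom (GeomTate.σ k K) p
        have hz : (Spec.map (θ ≫ CommRingCat.ofHom (c y).ofConv.toRingHom) ≫ N.left.isoSpec.inv) ≫
            H27Perf.Tower.fr p N.left (N₀ * r) =
            Spec.map (θ ≫ CommRingCat.ofHom (c (y ^ Q)).ofConv.toRingHom) ≫ N.left.isoSpec.inv := by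
          rw [← FrobPoints.fr_comm p]
          obtain ⟨Φ, hΦ, hΦx⟩ := FrobPoints.fr_Spec p (CommRingCat.of K) (N₀ * r)
          rw [hΦ, ← Spec.map_comp_assoc]
          congr 2
          ext b
          show Φ.hom (ev y (ψ b)) = ev (y ^ Q) (ψ b)
          rw [← hψev y b]
          exact hΦx _
        rw [reassoc_of% hz]
      simp only [f]
      rw [show F.map (FrobPoints.F p G N₀ hN r * ((𝟙 G) ^ Q)⁻¹) =
          F.map (FrobPoints.F p G N₀ hN r) * ((𝟙 (F.obj G)) ^ Q)⁻¹ by
        rw [← F.map_id G]
        refine (map_mul (Functor.homMonoidHom F) (FrobPoints.F p G N₀ hN r) ((𝟙 G) ^ Q)⁻¹).trans ?_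
        rw [map_inv, map_pow]
        rfl,
        MonObj.comp_mul, GrpObj.comp_inv, MonObj.comp_pow, Category.comp_id, hfr, hxpow, mul_inv_cancel]
    have : Finite Kˣ := by
      haveI := hfin.to_subtype
      exact Finite.of_injective (fun y : Kˣ => (⟨x y, hxker y⟩ : {x : 𝟙_ _ ⟶ F.obj G | x ≫ F.map f = 1}))
        fun y z h => hxinj (congrArg Subtype.val h)
    haveI : Finite K := Finite.of_surjective (fun o : Option Kˣ => o.elim 0 Units.val) fun z => by
      rcases eq_or_ne z 0 with h | h
      · exact ⟨none, h.symm⟩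
      · exact ⟨some (Units.mk0 z h), rfl⟩
    exact not_finite K

end Groth.Agent.H19Chev
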