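import Groth.Agent.H19Chev.IdComp
import Groth.Agent.S7549

/-!
# The anti-affine part in the decomposition of a connected algebraic group
-/

set_option autoImplicit false
set_option linter.style.haveILetI false
set_option backward.isDefEq.respectTransparency false
set_option maxHeartbeats 1000000
set_option synthInstance.maxHeartbeats 100000
universe u

open CategoryTheory CategoryTheory.Limits MonoidalCategory CartesianMonoidalCategory MonObj AlgebraicGeometry
open Groth.Agent Groth.Agent.H25AbCube Groth.Agent.H19Quot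

noncomputable section

namespace Groth.Agent.H19Chev

variable {k : Type u} [Field k] [IsAlgClosed k]

local notation "Pts" X => 𝟙_ (Over (Spec (CommRingCat.of k))) ⟶ X

/-- A morphism between schemes of finite type hitting all rational points is surjective. -/
theorem surjective_of_pts {X Y : Over (Spec (CommRingCat.of k))} (f : X ⟶ Y) [LocallyOfFiniteType Y.hom]
    [QuasiCompact Y.hom]
    [LocallyOfFinitePresentation f.left] [QuasiCompact f.left]
    (h : ∀ y : Pts Y, ∃ x : Pts X, x ≫ f = y) : Surjective f.left := by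
  haveI := LocallyOfFiniteType.jacobsonSpace Y.hom
  haveI : IsNoetherianRing (CommRingCat.of k) := inferInstanceAs (IsNoetherianRing k)
  haveI : IsLocallyNoetherian Y.left := LocallyOfFiniteType.isLocallyNoetherian Y.hom
  haveI : CompactSpace Y.left := QuasiCompact.compactSpace_of_compactSpace Y.hom
  refine ⟨Set.range_eq_univ.1 (Set.univ_subset_iff.1 (((S7549.result (X := Y.left)).2.2.1 Set.univ _
    Topology.IsConstructible.univ
    (Set.image_univ ▸ f.left.isConstructible_image Topology.IsConstructible.univ)).1 fun z _ => ?_))⟩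
  obtain ⟨y, hy⟩ := Stab.exists_pnt z.2
  obtain ⟨x, rfl⟩ := h y
  exact ⟨Stab.pnt x, hy⟩

/-- A connected group scheme with finitely many points has one point. -/
theorem subsingleton_of_finite_points {Q : Over (Spec (CommRingCat.of k))} [LocallyOfFiniteType Q.hom]
    [ConnectedSpace Q.left] (h : (Set.univ : Set (Pts Q)).Finite) : Subsingleton Q.left := by
  haveI : JacobsonSpace Q.left := LocallyOfFiniteType.jacobsonSpace Q.hom
  haveI := finite_space_of_points h
  exact ⟨fun x y => by
    have hc : IsClopen ({x} : Set Q.left) := isClopen_discrete _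
    have := (hc.eq_univ (Set.singleton_nonempty x)).ge (Set.mem_univ y)
    exact (Set.mem_singleton_iff.1 this).symm⟩

/-- An affine group has finite image among the points of a proper one. -/
theorem finite_image_affine {K Q : Over (Spec (CommRingCat.of k))} [GrpObj K] [GrpObj Q] [IsAffine K.left]
    [LocallyOfFiniteType K.hom] [IsProper Q.hom] (f : K ⟶ Q) [IsMonHom f] :
    (Set.range fun a : Pts K => a ≫ f).Finite := by
  obtain ⟨gR, hr⟩ := H19Grp.GroupCI.exists_grpObj_reduced K
  let R : Over (Spec (CommRingCat.of k)) := Over.mk (K.left.nilradical.subschemeι ≫ K.hom)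
  let r : R ⟶ K := Over.homMk K.left.nilradical.subschemeι rfl
  haveI : IsMonHom r := hr
  haveI : IsClosedImmersion r.left := inferInstanceAs (IsClosedImmersion K.left.nilradical.subschemeι)
  haveI : IsReduced R.left := inferInstanceAs (IsReduced K.left.nilradical.subscheme)
  haveI : IsAffine R.left := isAffine_of_isAffineHom r.left
  haveI : LocallyOfFiniteType R.hom := by rw [← Over.w r]; infer_instance
  haveI : IsAffine (Spec (CommRingCat.of k)) := inferInstance
  haveI : QuasiCompact R.hom := inferInstance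
  haveI : Smooth R.hom := H19Grp.smooth_of_isReduced_perfect R
  haveI : CompactSpace R.left := QuasiCompact.compactSpace_of_compactSpace R.hom
  haveI : Surjective r.left := ⟨fun x => by
    have : Set.range K.left.nilradical.subschemeι = Set.univ := by
      rw [Scheme.IdealSheafData.range_subschemeι, Scheme.support_nilradical]
      rfl
    exact this.ge trivial⟩
  obtain ⟨R₀, gR₀, j, hj, hjc, hjo, hconn, hsm, hqc, h1⟩ := exists_smooth_idComp R
  haveI := hj; haveI := hjc; haveI := hjo; haveI := hconn; haveI := hsm; haveI := hqc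
  haveI : IsAffine R₀.left := isAffine_of_isAffineHom j.left
  have h0 : j ≫ r ≫ f = 1 := eq_one_of_affine_to_proper (j ≫ r ≫ f)
  obtain ⟨s, hs⟩ := finite_classes j h1
  refine (s.finite_toSet.image fun g : Pts R => g ≫ r ≫ f).subset ?_
  rintro _ ⟨a, rfl⟩
  obtain ⟨b, rfl⟩ := exists_pt_lift r a
  obtain ⟨g, hg, c, hc⟩ := hs b
  refine ⟨g, hg, ?_⟩
  have hb : b = (c ≫ j) * g := by rw [hc, inv_mul_cancel_right]
  show g ≫ r ≫ f = (b ≫ r) ≫ f
  rw [Category.assoc, hb, MonObj.mul_comp, Category.assoc, h0, MonObj.comp_one, _root_.one_mul]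

/-- Every point of a connected group is a product of a point of the affine part of the structure
theorem and a point of the anti-affine part. -/
theorem pts_decomp (G : Over (Spec (CommRingCat.of k))) [GrpObj G] [Smooth G.hom] [QuasiCompact G.hom]
    [ConnectedSpace G.left] :
    ∃ (L : Over (Spec (CommRingCat.of k))) (_ : GrpObj L) (l : L ⟶ G), IsMonHom l ∧ IsClosedImmersion l.left ∧
      IsAffine L.left ∧ Smooth L.hom ∧ ConnectedSpace L.left ∧ AlgGrp.IsNormalHom l ∧
      ∀ g : Pts G, ∃ (x : Pts L) (m : Pts (H19Grp.AffinizationKernel.N G)),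
        g = (x ≫ l) * (m ≫ H19Grp.AffinizationKernel.incl G) := by
  obtain ⟨L, gL, l, Q, gQ, q, hl, hlc, hLa, hLs, hLn, hnorm, hq, hqs, hqf, hqp, hk, hQp, hQs, hQn⟩ :=
    exists_chevalley G
  haveI := hq; haveI := hqs; haveI := hqf; haveI := hqp; haveI := hQp; haveI := hQs; haveI := hQn
  refine ⟨L, gL, l, hl, hlc, hLa, hLs, hLn, hnorm, fun g => ?_⟩
  haveI : IsSeparated G.hom := H19Grp.AffineQuotient.isSeparated_of_grp G
  let m₀ := H19Grp.AffinizationKernel.incl G
  obtain ⟨gM, hm⟩ := H19Grp.AffinizationKernel.exists_grpObj G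
  haveI := hm
  haveI : LocallyOfFiniteType (H19Grp.AffinizationKernel.N G).hom := by rw [← Over.w m₀]; infer_instance
  haveI : QuasiCompact (H19Grp.AffinizationKernel.N G).hom := by rw [← Over.w m₀]; infer_instance
  obtain ⟨C, gC, p, iC, hp, hiC, hpi, hpf, hps, hpp, hiCc⟩ :=
    AbelianCat.exists_image (m₀ ≫ q) ⟨inferInstance, inferInstance⟩ ⟨inferInstance, inferInstance⟩
  haveI := hp; haveI := hiC; haveI := hpf; haveI := hps; haveI := hpp; haveI := hiCc
  haveI : LocallyOfFiniteType C.hom := by rw [← Over.w iC]; infer_instance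
  haveI : QuasiCompact C.hom := by rw [← Over.w iC]; infer_instance
  haveI : IsCommMonObj Q := by
    haveI := geometricallyIntegral_av Q
    exact isCommMonObj_of_av
  have hNC : AlgGrp.IsNormalHom iC := fun T b x => ⟨x, by rw [mul_comm b, mul_inv_cancel_right]⟩
  obtain ⟨R, gR, π, hπ, hRlft, hRqc, hπf, hπs, hπp, hkπ⟩ := H19Quot.exists_quotientGroup iC hNC
  haveI := hπ; haveI := hRlft; haveI := hRqc; haveI := hπf; haveI := hπs; haveI := hπp
  haveI : IsAffine R.left := by
    haveI : Flat (q ≫ π).left := by rw [Over.comp_left]; infer_instance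
    haveI : Surjective (q ≫ π).left := by rw [Over.comp_left]; infer_instance
    refine H19Quot.isAffine_of_kill_incl (q ≫ π) ?_
    rw [← Category.assoc, ← hpi, Category.assoc, H19Grp.kernel_comp_eq_one hkπ, MonObj.comp_one]
  obtain ⟨hRs, hRc⟩ := smooth_connected_image π
  haveI := hRs; haveI := hRc
  haveI : IsProper R.hom := by
    haveI : IsSeparated R.hom := H19Grp.AffineQuotient.isSeparated_of_grp R
    haveI : UniversallyClosed (π.left ≫ R.hom) := by rw [Over.w π]; infer_instance
    haveI : UniversallyClosed R.hom := UniversallyClosed.of_comp_surjective π.left R.hom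
    exact {}
  have hπ1 : π = 1 := by
    rw [← Category.comp_id π, eq_one_of_affine_to_proper (𝟙 R), MonObj.comp_one]
  obtain ⟨c, hc⟩ := H19Grp.kernel_lift hkπ (g ≫ q) (by rw [hπ1, MonObj.comp_one])
  haveI : Surjective p.left := hps
  obtain ⟨m, rfl⟩ := exists_pt_lift p c
  obtain ⟨x, hx⟩ := H19Grp.kernel_lift hk (g * (m ≫ m₀)⁻¹) (by
    rw [MonObj.mul_comp, GrpObj.inv_comp, Category.assoc m m₀, ← hpi, ← Category.assoc m p, hc, mul_inv_cancel])
  exact ⟨x, m, by rw [hx, inv_mul_cancel_right]⟩

/-- If a closed subgroup meets all translates of the affine normal subgroup, it contains the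
anti-affine part. -/
theorem antiAffine_le {G : Over (Spec (CommRingCat.of k))} [GrpObj G] [LocallyOfFiniteType G.hom]
    [QuasiCompact G.hom]
    {L : Over (Spec (CommRingCat.of k))} [GrpObj L] (l : L ⟶ G) [IsMonHom l] [IsClosedImmersion l.left]
    [IsAffine L.left] {Q : Over (Spec (CommRingCat.of k))} [GrpObj Q] (q : G ⟶ Q) [IsMonHom q] [IsProper Q.hom]
    (hk : AlgGrp.IsKernel l q)
    {M : Over (Spec (CommRingCat.of k))} [GrpObj M] (j : M ⟶ G) [IsMonHom j] [IsClosedImmersion j.left]
    [IsIso M.hom.appTop]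
    (hMmax : ∀ (M' : Over (Spec (CommRingCat.of k))) [GrpObj M'] (j' : M' ⟶ G) [IsMonHom j'] [IsClosedImmersion j'.left],
      IsIso M'.hom.appTop → ∃ f : M' ⟶ M, f ≫ j = j')
    {H : Over (Spec (CommRingCat.of k))} [GrpObj H] (h : H ⟶ G) [IsMonHom h] [IsClosedImmersion h.left]
    (hsurj : ∀ b : Pts G, ∃ y : Pts H, b ≫ q = y ≫ h ≫ q) :
    ∃ f : M ⟶ H, f ≫ h = j := by
  haveI : LocallyOfFiniteType H.hom := by rw [← Over.w h]; infer_instance
  haveI : QuasiCompact H.hom := by rw [← Over.w h]; infer_instance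
  haveI : LocallyOfFiniteType M.hom := by rw [← Over.w j]; infer_instance
  haveI : QuasiCompact M.hom := by rw [← Over.w j]; infer_instance
  haveI : Smooth M.hom := H19Grp.AntiAffineSmooth.smooth M
  haveI : ConnectedSpace M.left := H19Grp.AntiAffineGroup.connectedSpace M
  haveI : IsCommMonObj M := H19Grp.AntiAffineGroup.isCommMonObj M
  haveI : Mono j := Over.mono_of_mono_left _
  -- the smooth connected part of `H`
  obtain ⟨gR, hr⟩ := H19Grp.GroupCI.exists_grpObj_reduced H
  let R : Over (Spec (CommRingCat.of k)) := Over.mk (H.left.nilradical.subschemeι ≫ H.hom)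
  let r : R ⟶ H := Over.homMk H.left.nilradical.subschemeι rfl
  haveI : IsMonHom r := hr
  haveI : IsClosedImmersion r.left := inferInstanceAs (IsClosedImmersion H.left.nilradical.subschemeι)
  haveI : IsReduced R.left := inferInstanceAs (IsReduced H.left.nilradical.subscheme)
  haveI : LocallyOfFiniteType R.hom := by rw [← Over.w r]; infer_instance
  haveI : QuasiCompact R.hom := by rw [← Over.w r]; infer_instance
  haveI : Smooth R.hom := H19Grp.smooth_of_isReduced_perfect R
  haveI : CompactSpace R.left := QuasiCompact.compactSpace_of_compactSpace R.hom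
  haveI : Surjective r.left := ⟨fun x => by
    have : Set.range H.left.nilradical.subschemeι = Set.univ := by
      rw [Scheme.IdealSheafData.range_subschemeι, Scheme.support_nilradical]
      rfl
    exact this.ge trivial⟩
  obtain ⟨H₀, gH₀, j₀, hj₀, hj₀c, hj₀o, hconn, hsm, hqc, h1⟩ := exists_smooth_idComp R
  haveI := hj₀; haveI := hj₀c; haveI := hj₀o; haveI := hconn; haveI := hsm; haveI := hqc
  obtain ⟨s, hs⟩ := finite_classes j₀ h1
  let e₀ : H₀ ⟶ G := j₀ ≫ r ≫ h
  haveI : IsClosedImmersion e₀.left := by rw [Over.comp_left, Over.comp_left]; infer_instance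
  let incl' := H19Grp.AffinizationKernel.incl H₀
  obtain ⟨gM', hm'⟩ := H19Grp.AffinizationKernel.exists_grpObj H₀
  haveI := hm'
  let e : H19Grp.AffinizationKernel.N H₀ ⟶ G := incl' ≫ e₀
  haveI : IsClosedImmersion e.left := by rw [Over.comp_left]; infer_instance
  obtain ⟨f₀, hf₀⟩ := hMmax _ e (H19Grp.AffinizationKernel.smooth_and_connected H₀).1
  haveI : IsMonHom f₀ := by
    refine ⟨?_, ?_⟩
    · rw [← cancel_mono j, Category.assoc, hf₀, IsMonHom.one_hom e, IsMonHom.one_hom j]
    · rw [← cancel_mono j, Category.assoc, hf₀, IsMonHom.mul_hom e, Category.assoc, IsMonHom.mul_hom j,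
        ← Category.assoc, tensorHom_comp_tensorHom, hf₀]
  haveI : IsClosedImmersion f₀.left := by
    haveI : IsClosedImmersion (f₀.left ≫ j.left) := by rw [← Over.comp_left, hf₀]; infer_instance
    exact IsClosedImmersion.of_comp f₀.left j.left
  have hN : AlgGrp.IsNormalHom f₀ := fun T b x => ⟨x, by rw [mul_comm b, mul_inv_cancel_right]⟩
  obtain ⟨P, gP, p, hp, hPlft, hPqc, hpf, hps, hpp, hkp⟩ := H19Quot.exists_quotientGroup f₀ hN
  haveI := hp; haveI := hPlft; haveI := hPqc; haveI := hpf; haveI := hps; haveI := hpp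
  obtain ⟨hPs, hPc⟩ := smooth_connected_image p
  haveI := hPs; haveI := hPc
  obtain ⟨LP, gLP, lP, A, gA, qA, hlP, hlPc, hLPa, -, -, -, hqA, hqAs, hqAf, hqAp, hkA, hAp, hAs, hAn⟩ :=
    exists_chevalley P
  haveI := hlP; haveI := hlPc; haveI := hLPa
  haveI := hqA; haveI := hqAs; haveI := hqAf; haveI := hqAp; haveI := hAp; haveI := hAs; haveI := hAn
  let ψ : M ⟶ A := p ≫ qA
  haveI : Surjective ψ.left := by rw [Over.comp_left]; infer_instance
  have hψ0 : f₀ ≫ ψ = 1 := by
    rw [← Category.assoc, H19Grp.kernel_comp_eq_one hkp, MonObj.one_comp]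
  -- the affine kernel
  obtain ⟨K, gK, k₁, hk₁, hk₁c, hkK⟩ := H19Grp.AffineQuotient.exists_kernel (j ≫ q)
  haveI := hk₁; haveI := hk₁c
  haveI : IsAffine K.left := by
    obtain ⟨x, hx⟩ := H19Grp.kernel_lift hk (k₁ ≫ j) (by
      rw [Category.assoc]; exact H19Grp.kernel_comp_eq_one hkK)
    haveI : IsClosedImmersion (x.left ≫ l.left) := by
      rw [← Over.comp_left, hx, Over.comp_left]; infer_instance
    haveI : IsClosedImmersion x.left := IsClosedImmersion.of_comp x.left l.left
    exact isAffine_of_isAffineHom x.left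
  haveI : LocallyOfFiniteType K.hom := by rw [← Over.w k₁]; infer_instance
  have hfib : ∀ t : Pts Q, {a : Pts A | ∃ m : Pts M, m ≫ j ≫ q = t ∧ m ≫ ψ = a}.Finite := by
    intro t
    by_cases ht : ∃ m₁ : Pts M, m₁ ≫ j ≫ q = t
    · obtain ⟨m₁, hm₁⟩ := ht
      refine ((finite_image_affine (k₁ ≫ ψ)).image fun a => a * (m₁ ≫ ψ)).subset ?_
      rintro _ ⟨m, hm, rfl⟩
      obtain ⟨x, hx⟩ := H19Grp.kernel_lift hkK (m * m₁⁻¹) (by
        rw [MonObj.mul_comp, GrpObj.inv_comp, hm, hm₁, mul_inv_cancel])
      refine ⟨x ≫ k₁ ≫ ψ, ⟨x, rfl⟩, ?_⟩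
      show (x ≫ k₁ ≫ ψ) * (m₁ ≫ ψ) = m ≫ ψ
      rw [← Category.assoc, hx, ← MonObj.mul_comp, inv_mul_cancel_right]
    · refine Set.finite_empty.subset ?_
      rintro _ ⟨m, hm, -⟩
      exact (ht ⟨m, hm⟩).elim
  obtain ⟨L', gL', l', hl', -, hL'a, hL's, hL'n, -, hdec⟩ := pts_decomp H₀
  haveI := hl'; haveI := hL'a; haveI := hL's; haveI := hL'n
  have hlq : l' ≫ e₀ ≫ q = 1 := eq_one_of_affine_to_proper (l' ≫ e₀ ≫ q)
  have hA : (Set.univ : Set (Pts A)).Finite := by
    refine (s.finite_toSet.biUnion fun g _ => hfib (g ≫ r ≫ h ≫ q)).subset ?_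
    rintro a -
    obtain ⟨m, rfl⟩ := exists_pt_lift ψ a
    obtain ⟨y, hy⟩ := hsurj (m ≫ j)
    obtain ⟨b, rfl⟩ := exists_pt_lift r y
    obtain ⟨g, hg, c, hc⟩ := hs b
    obtain ⟨x, m', hxm⟩ := hdec c
    refine Set.mem_biUnion hg ⟨(m' ≫ f₀)⁻¹ * m, ?_, ?_⟩
    · have hc' : c ≫ e₀ ≫ q = m' ≫ e ≫ q := by
        rw [hxm, MonObj.mul_comp, Category.assoc x, hlq, MonObj.comp_one, _root_.one_mul, Category.assoc m',
          ← Category.assoc _ e₀]
      have hm : m ≫ j ≫ q = (m' ≫ e ≫ q) * (g ≫ r ≫ h ≫ q) := by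
        rw [← hc', ← Category.assoc m, hy, Category.assoc b, show b = (c ≫ j₀) * g by rw [hc, inv_mul_cancel_right],
          MonObj.mul_comp]
        simp only [e₀, Category.assoc]
      rw [MonObj.mul_comp, GrpObj.inv_comp, hm, Category.assoc m' f₀, reassoc_of% hf₀, inv_mul_cancel_left]
    · rw [MonObj.mul_comp, GrpObj.inv_comp, Category.assoc m', hψ0, MonObj.comp_one, inv_one, _root_.one_mul]
  haveI := subsingleton_of_finite_points hA
  haveI : IsAffine P.left := isAffine_extension lP qA hkA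
  obtain ⟨f, hf⟩ := H19Grp.kernel_lift hkp (𝟙 M) (by
    rw [Category.id_comp]
    exact H19Grp.AntiAffineGroup.eq_one_of_isAffine p (IsMonHom.one_hom p))
  refine ⟨f ≫ incl' ≫ j₀ ≫ r, ?_⟩
  rw [← Category.id_comp j, ← hf]
  simp only [Category.assoc, hf₀, e, e₀]

end Groth.Agent.H19Chev
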