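import Groth.Agent.H19Chev.TorsorTrace
import Groth.Agent.H19AbSch.TorusHom
import Groth.Agent.H19Grp.AntiAffineGroup
import Groth.Agent.H19Grp.KernelSquare
import Groth.Agent.H19Quot.LargestNormal
import Groth.Agent.H25Rig.Rigidity
import Groth.Agent.H28NT.GoodReduction
import Groth.Agent.H19Grp.GeomConnected
import Groth.Agent.H19Grp.ImageGroup

/-!
# Abelian subvarieties of algebraic groups
-/

set_option autoImplicit false
set_option linter.style.haveILetI false
set_option backward.isDefEq.respectTransparency false
set_option maxHeartbeats 1000000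
set_option synthInstance.maxHeartbeats 100000
universe u

open CategoryTheory CategoryTheory.Limits MonoidalCategory CartesianMonoidalCategory MonObj AlgebraicGeometry
open Groth.Agent

noncomputable section

namespace Groth.Agent.H19Chev

variable {k : Type u} [Field k] {G A : Over (Spec (CommRingCat.of k))} [GrpObj G] [GrpObj A]

/-- An abelian variety is geometrically integral. -/
theorem geometricallyIntegral_av (A : Over (Spec (CommRingCat.of k))) [GrpObj A] [Smooth A.hom] [IsProper A.hom]
    [ConnectedSpace A.left] : GeometricallyIntegral A.hom := by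
  haveI : GeometricallyConnected A.hom :=
    H28NT.geometricallyConnected_of_section A.hom η[A].left (Over.w η[A])
  exact H25AbCube.geometricallyIntegral_of_smooth A

/-- A smooth connected group over a field is geometrically integral. -/
theorem geometricallyIntegral_grp (G : Over (Spec (CommRingCat.of k))) [GrpObj G] [Smooth G.hom]
    [QuasiCompact G.hom] [ConnectedSpace G.left] : GeometricallyIntegral G.hom := by
  haveI : GeometricallyConnected G.hom :=
    H28NT.geometricallyConnected_of_section G.hom η[G].left (Over.w η[G])
  haveI := H19Grp.geometricallyReduced_of_smooth G.hom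
  haveI := H19Grp.geometricallyIrreducible_of_geometricallyConnected G
  exact GeometricallyIntegral.of_geometricallyReduced_of_geometricallyIrreducible G.hom

/-- An abelian subvariety of a connected group is central. -/
theorem central_av [LocallyOfFiniteType G.hom] [ConnectedSpace G.left] [Smooth A.hom] [IsProper A.hom]
    [ConnectedSpace A.left] (i : A ⟶ G) [IsMonHom i] {T : Over (Spec (CommRingCat.of k))} (x : T ⟶ A) (g : T ⟶ G) :
    (x ≫ i) * g = g * (x ≫ i) := by
  haveI := geometricallyIntegral_av A
  haveI : IsIso A.hom.appTop := (ConcreteCategory.isIso_iff_bijective _).2 (H25Rig.bijective_appTop A.hom)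
  exact H19Grp.AntiAffineGroup.central i x g

/-- A connected group projects to each of its abelian subvarieties, up to a multiple. -/
theorem exists_projection [Smooth G.hom] [QuasiCompact G.hom] [ConnectedSpace G.left] [Smooth A.hom] [IsProper A.hom]
    [ConnectedSpace A.left] (i : A ⟶ G) [IsMonHom i] [IsClosedImmersion i.left] :
    ∃ (φ : G ⟶ A) (n : ℕ), 0 < n ∧
      ∀ (T : Over (Spec (CommRingCat.of k))) (g : T ⟶ G) (a : T ⟶ A), (g * (a ≫ i)) ≫ φ = (g ≫ φ) * a ^ n := by
  haveI := geometricallyIntegral_av A
  haveI := geometricallyIntegral_grp G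
  haveI : IsSeparated G.hom := H19Grp.AffineQuotient.isSeparated_of_grp G
  have hN : AlgGrp.IsNormalHom i := fun T g x =>
    ⟨x, by rw [← central_av i x g, mul_inv_cancel_right]⟩
  obtain ⟨Q, _, q, hq, hQlft, hQqc, hqf, hqs, -, hker⟩ := H19Quot.exists_quotientGroup i hN
  haveI := hq; haveI := hQlft; haveI := hqf; haveI := hqs
  haveI : IsSeparated Q.hom := H19Grp.AffineQuotient.isSeparated_of_grp Q
  haveI : IsIntegral Q.left := by
    haveI : IsIntegral G.left := GeometricallyIntegral.isIntegral_of_subsingleton G.hom
    haveI : IrreducibleSpace Q.left := q.left.surjective.irreducibleSpace q.left.continuous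
    haveI : IsReduced Q.left := H19Grp.isReduced_of_flat_surjective q.left
    exact isIntegral_of_irreducibleSpace_of_isReduced _
  let a := H19AbSch.TorusHom.transAct i
  have hinv : a.act ≫ q = snd A G ≫ q := by
    have h : i ≫ q = 1 := hker.w.trans Hom.one_def.symm
    show ((fst A G ≫ i) * snd A G) ≫ q = _
    rw [MonObj.mul_comp, Category.assoc, h, MonObj.comp_one, _root_.one_mul]
  have hsq := H19Grp.isPullback_kernel q i hker
  have htors : IsIso (pullback.lift a.act (snd A G) hinv) := by
    let e : A ⊗ G ≅ pullback q q := (β_ A G) ≪≫ hsq.isoPullback ≪≫ pullbackSymmetry q q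
    have he : e.hom = pullback.lift a.act (snd A G) hinv := by
      apply pullback.hom_ext
      · simp only [e, Iso.trans_hom, Category.assoc, pullbackSymmetry_hom_comp_fst, IsPullback.isoPullback_hom_snd,
          pullback.lift_fst]
        show (β_ A G).hom ≫ (fst G A * (snd G A ≫ i)) = (fst A G ≫ i) * snd A G
        rw [MonObj.comp_mul, braiding_hom_snd_assoc, braiding_hom_fst]
        exact (central_av i (fst A G) (snd A G)).symm
      · simp only [e, Iso.trans_hom, Category.assoc, pullbackSymmetry_hom_comp_snd, IsPullback.isoPullback_hom_fst,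
          pullback.lift_snd, braiding_hom_fst]
    rw [← he]
    infer_instance
  obtain ⟨φ, n, hn, hφ⟩ := exists_trace a q hinv htors
  refine ⟨φ, n, hn, fun T g x => ?_⟩
  rw [← hφ T x g, ← Category.assoc, H19AbSch.TorusHom.lift_transAct, central_av i x g]

end Groth.Agent.H19Chev
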