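import Groth.Agent.H20Comod.Coconn
import Groth.Agent.H20Comod.Diag
import Groth.Agent.H20Comod.Reynolds
import Groth.Agent.H20FF.SubHopf
import Groth.Agent.H19Mult.Field
import Groth.Agent.H19Mult.KernelLocal
import Groth.Agent.H20Comod.UniMult
import Mathlib.RingTheory.Coprime.Ideal
import Mathlib.FieldTheory.IsAlgClosed.AlgebraicClosure
import Mathlib.RingTheory.HopfAlgebra.GroupLike

/-!
# The unipotent component of a cocommutative Hopf algebra

For a commutative cocommutative Hopf algebra `A` over an algebraically closed field, every element is a sum of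
translates `g * b` of coconnected elements `b` by group-like elements `g`; the coconnected elements form a unipotent
Hopf subalgebra, compatible with extension of the field.
-/

set_option autoImplicit false
set_option linter.style.haveILetI false
set_option synthInstance.maxHeartbeats 100000

universe u v w

open TensorProduct HopfRep WithConv
open scoped Groth.Agent.H20Comod

namespace Groth.Agent.H19Chev.CoradSplit

open Groth.Agent.H20Comod

noncomputable section

section Maps

variable {k : Type u} [Field k] {A : Type v} [CommRing A] [Bialgebra k A] {A' : Type w} [CommRing A'] [Bialgebra k A']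

theorem conv_comp (T : A →ₗ[k] A')
    (hΔ : ∀ a, CoalgebraStruct.comul (R := k) (T a) = TensorProduct.map T T (CoalgebraStruct.comul (R := k) a))
    (f g : A' →ₗ[k] k) : conv f g ∘ₗ T = conv (f ∘ₗ T) (g ∘ₗ T) := by
  refine LinearMap.ext fun a => ?_
  show LinearMap.mul' k k (TensorProduct.map f g (CoalgebraStruct.comul (R := k) (T a))) =
    LinearMap.mul' k k (TensorProduct.map (f ∘ₗ T) (g ∘ₗ T) (CoalgebraStruct.comul (R := k) a))
  rw [hΔ, TensorProduct.map_comp]
  rfl

theorem comp_mem_augPow (T : A →ₗ[k] A') (hT1 : T 1 = 1)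
    (hε : ∀ a, CoalgebraStruct.counit (R := k) (T a) = CoalgebraStruct.counit (R := k) a)
    (hΔ : ∀ a, CoalgebraStruct.comul (R := k) (T a) = TensorProduct.map T T (CoalgebraStruct.comul (R := k) a))
    {n : ℕ} {p : A' →ₗ[k] k} (hp : p ∈ augPow k A' n) : p ∘ₗ T ∈ augPow k A n := by
  induction n generalizing p with
  | zero => rw [Set.mem_singleton_iff.1 hp]; exact Set.mem_singleton_iff.2 (LinearMap.ext hε)
  | succ n ih =>
    obtain ⟨f, hf, q, hq, rfl⟩ := hp
    exact ⟨f ∘ₗ T, by simp [hT1, hf], q ∘ₗ T, ih hq, (conv_comp T hΔ f q).symm⟩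

/-- Unit preserving morphisms of coalgebras respect the filtration. -/
theorem map_mem_coFil (T : A →ₗ[k] A') (hT1 : T 1 = 1)
    (hε : ∀ a, CoalgebraStruct.counit (R := k) (T a) = CoalgebraStruct.counit (R := k) a)
    (hΔ : ∀ a, CoalgebraStruct.comul (R := k) (T a) = TensorProduct.map T T (CoalgebraStruct.comul (R := k) a))
    {n : ℕ} {a : A} (ha : a ∈ coFil k A n) : T a ∈ coFil k A' n :=
  mem_coFil.2 fun _ hp => mem_coFil.1 ha _ (comp_mem_augPow T hT1 hε hΔ hp)

theorem coFil_zero_mul {b : A} {r : ℕ} (hb : b ∈ coFil k A r) {a : A} (ha : a ∈ coFil k A 0) :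
    a * b ∈ coFil k A r := by
  rw [coFil_zero] at ha
  obtain ⟨c, rfl⟩ := Submodule.mem_span_singleton.1 ha
  rw [smul_mul_assoc, _root_.one_mul]
  exact Submodule.smul_mem _ c hb

/-- The filtration is multiplicative. -/
theorem mul_mem_coFil (n : ℕ) : ∀ {r s : ℕ}, r + s = n → ∀ {a b : A}, a ∈ coFil k A r → b ∈ coFil k A s →
    a * b ∈ coFil k A n := by
  induction n using Nat.strong_induction_on with
  | _ n ih =>
    intro r s hrs a b ha hb
    refine mem_coFil.2 fun p hp => ?_
    obtain ⟨f, hf, q, hq, rfl⟩ := hp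
    show LinearMap.mul' k k (TensorProduct.map f q (CoalgebraStruct.comul (R := k) (a * b))) = 0
    rw [Bialgebra.comul_mul]
    have hxy : ∀ i, i ≤ r → ∀ j, j ≤ s → ∀ x ∈ coFil k A i, ∀ x' ∈ coFil k A (r - i), ∀ y ∈ coFil k A j,
        ∀ y' ∈ coFil k A (s - j), f (x * y) * q (x' * y') = 0 := by
      intro i hi j hj x hx x' hx' y hy y' hy'
      rcases Nat.eq_zero_or_pos (i + j) with h0 | h0
      · obtain ⟨rfl, rfl⟩ := Nat.add_eq_zero_iff.1 h0
        have h1 := coFil_zero_mul hy hx
        rw [coFil_zero] at h1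
        obtain ⟨c, hc⟩ := Submodule.mem_span_singleton.1 h1
        rw [← hc, map_smul, hf, smul_zero, zero_mul]
      · have hlt : (r - i) + (s - j) < n := by omega
        have h1 := coFil_mono (show (r - i) + (s - j) ≤ n - 1 by omega) (ih _ hlt rfl hx' hy')
        have h2 : q (x' * y') = 0 := by
          have h3 := mem_coFil.1 h1 q (by rwa [show n - 1 + 1 = n by omega])
          exact h3
        rw [h2, mul_zero]
    have key : ∀ z ∈ (⨆ i ∈ Finset.range (r + 1), LinearMap.range (TensorProduct.mapIncl (coFil k A i) (coFil k A (r - i)))),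
        ∀ z' ∈ (⨆ j ∈ Finset.range (s + 1), LinearMap.range (TensorProduct.mapIncl (coFil k A j) (coFil k A (s - j)))),
        LinearMap.mul' k k (TensorProduct.map f q (z * z')) = 0 := by
      let L : A ⊗[k] A →ₗ[k] k := LinearMap.mul' k k ∘ₗ TensorProduct.map f q
      intro z hz z' hz'
      suffices hz1 : (⨆ i ∈ Finset.range (r + 1), LinearMap.range (TensorProduct.mapIncl (coFil k A i) (coFil k A (r - i))))
          ≤ LinearMap.ker (L ∘ₗ LinearMap.mulRight k z') from LinearMap.mem_ker.1 (hz1 hz)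
      refine iSup₂_le fun i hi => ?_
      rintro _ ⟨t, rfl⟩
      rw [LinearMap.mem_ker, LinearMap.comp_apply, LinearMap.mulRight_apply]
      suffices hz2 : (⨆ j ∈ Finset.range (s + 1), LinearMap.range (TensorProduct.mapIncl (coFil k A j) (coFil k A (s - j))))
          ≤ LinearMap.ker (L ∘ₗ LinearMap.mulLeft k (TensorProduct.mapIncl (coFil k A i) (coFil k A (r - i)) t)) from
        LinearMap.mem_ker.1 (hz2 hz')
      refine iSup₂_le fun j hj => ?_
      rintro _ ⟨t', rfl⟩
      rw [LinearMap.mem_ker, LinearMap.comp_apply, LinearMap.mulLeft_apply]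
      induction t using TensorProduct.induction_on with
      | zero => simp
      | add u v hu hv => rw [map_add, add_mul, map_add, hu, hv, add_zero]
      | tmul x x' =>
        induction t' using TensorProduct.induction_on with
        | zero => simp
        | add u v hu hv => rw [map_add, mul_add, map_add, hu, hv, add_zero]
        | tmul y y' =>
          simp only [TensorProduct.mapIncl, TensorProduct.map_tmul, Submodule.coe_subtype,
            Algebra.TensorProduct.tmul_mul_tmul, L, LinearMap.comp_apply, LinearMap.mul'_apply]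
          exact hxy i (by have := Finset.mem_range.1 hi; omega) j (by have := Finset.mem_range.1 hj; omega)
            _ x.2 _ x'.2 _ y.2 _ y'.2
    exact key _ (comul_coFil_le r (Submodule.mem_map_of_mem (f := CoalgebraStruct.comul (R := k) (A := A)) ha))
      _ (comul_coFil_le s (Submodule.mem_map_of_mem (f := CoalgebraStruct.comul (R := k) (A := A)) hb))

end Maps

section Uni

variable (k : Type u) [Field k] (A : Type v) [CommRing A] [HopfAlgebra k A]

/-- The coconnected elements. -/
def uni : Subalgebra k A where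
  carrier := {a | ∃ n, a ∈ coFil k A n}
  mul_mem' := by
    rintro a b ⟨r, ha⟩ ⟨s, hb⟩
    exact ⟨r + s, mul_mem_coFil _ rfl ha hb⟩
  one_mem' := ⟨0, one_mem_coFil 0⟩
  add_mem' := by
    rintro a b ⟨r, ha⟩ ⟨s, hb⟩
    exact ⟨max r s, add_mem (coFil_mono (le_max_left r s) ha) (coFil_mono (le_max_right r s) hb)⟩
  zero_mem' := ⟨0, zero_mem _⟩
  algebraMap_mem' c := ⟨0, by rw [Algebra.algebraMap_eq_smul_one]; exact Submodule.smul_mem _ c (one_mem_coFil 0)⟩

variable {k A}

theorem mem_uni {a : A} : a ∈ uni k A ↔ ∃ n, a ∈ coFil k A n := Iff.rfl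

theorem antipode_mem_coFil [Coalgebra.IsCocomm k A] {n : ℕ} {a : A} (ha : a ∈ coFil k A n) :
    HopfAlgebra.antipode k a ∈ coFil k A n := by
  refine map_mem_coFil (HopfAlgebra.antipode k) (by simp) (fun a => by simp) (fun a => ?_) ha
  rw [comul_antipode, Coalgebra.comm_comul]

theorem isHopfSub_uni [Coalgebra.IsCocomm k A] : H20FF.IsHopfSub (uni k A) := by
  refine ⟨fun b hb => ?_, fun b ⟨n, hn⟩ => ⟨n, antipode_mem_coFil hn⟩⟩
  obtain ⟨n, hn⟩ := hb
  have hle := comul_coFil_le n (Submodule.mem_map_of_mem (f := CoalgebraStruct.comul (R := k) (A := A)) hn)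
  refine (iSup₂_le fun i _ => ?_ : _ ≤ LinearMap.range
    (TensorProduct.map (uni k A).val.toLinearMap (uni k A).val.toLinearMap)) hle
  rintro _ ⟨t, rfl⟩
  induction t using TensorProduct.induction_on with
  | zero => rw [map_zero]; exact zero_mem _
  | add u v hu hv => rw [map_add]; exact add_mem hu hv
  | tmul x y => exact ⟨(⟨x, i, x.2⟩ : uni k A) ⊗ₜ[k] (⟨y, _, y.2⟩ : uni k A), by simp [TensorProduct.mapIncl]⟩

end Uni

section Decomposition

variable {k : Type u} [Field k] [IsAlgClosed k] {A : Type v} [CommRing A] [HopfAlgebra k A]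

theorem comul_mul_groupLike {g : A} (hg : IsGroupLikeElem k g) (a : A) :
    CoalgebraStruct.comul (R := k) (g * a) =
      TensorProduct.map (LinearMap.mulLeft k g) (LinearMap.mulLeft k g) (CoalgebraStruct.comul (R := k) a) := by
  rw [Bialgebra.comul_mul, hg.comul_eq_tmul_self]
  generalize CoalgebraStruct.comul (R := k) a = z
  induction z using TensorProduct.induction_on with
  | zero => simp
  | tmul x y => simp
  | add u v hu hv => rw [mul_add, hu, hv, map_add]

/-- A finite algebra over an algebraically closed field has a partition of unity at its points. -/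
theorem exists_partition (R : Type w) [CommRing R] [Algebra k R] [Module.Finite k R] :
    ∃ (ι : Type w) (_ : Fintype ι) (χ : ι → R →ₐ[k] k) (e : ι → R) (N : ℕ), ∑ i, e i = 1 ∧
      ∀ i, ∀ x ∈ RingHom.ker (χ i) ^ N, x * e i = 0 := by
  classical
  haveI : IsArtinianRing R := IsArtinianRing.of_finite k R
  haveI := Fintype.ofFinite (MaximalSpectrum R)
  obtain ⟨N, hN⟩ := IsArtinianRing.isNilpotent_jacobson_bot (R := R)
  let m : MaximalSpectrum R → Ideal R := fun i => i.asIdeal ^ N
  have hcop : ∀ i j : MaximalSpectrum R, i ≠ j → IsCoprime (m i) (m j) := fun i j hij =>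
    IsCoprime.pow (Ideal.isCoprime_iff_sup_eq.2
      (i.isMaximal.coprime_of_ne j.isMaximal fun h => hij (MaximalSpectrum.ext h)))
  have hinf : ∀ x : R, (∀ i, x ∈ m i) → x = 0 := by
    intro x hx
    have h1 : x ∈ ⨅ i ∈ (Finset.univ : Finset (MaximalSpectrum R)), m i := by simpa using hx
    rw [← Ideal.prod_eq_iInf_of_pairwise_isCoprime (fun i _ j _ hij => hcop i j hij)] at h1
    have h2 : (∏ i, m i) ≤ (⊥ : Ideal R).jacobson ^ N := by
      rw [Finset.prod_pow]
      refine Ideal.pow_right_mono (le_sInf fun J hJ => ?_) N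
      exact le_trans (Ideal.prod_le_inf.trans (Finset.inf_le (Finset.mem_univ ⟨J, hJ.2⟩))) le_rfl
    have h3 := h2 h1
    rw [hN] at h3
    exact h3
  have hbij : ∀ i : MaximalSpectrum R, Function.Bijective (algebraMap k (R ⧸ i.asIdeal)) := fun i => by
    haveI := i.isMaximal
    haveI : Module.Finite k (R ⧸ i.asIdeal) := Module.Finite.of_surjective
      (Ideal.Quotient.mkₐ k i.asIdeal).toLinearMap Ideal.Quotient.mk_surjective
    letI := Ideal.Quotient.field i.asIdeal
    exact IsAlgClosed.algebraMap_bijective_of_isIntegral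
  let χ : MaximalSpectrum R → (R →ₐ[k] k) := fun i =>
    (AlgEquiv.ofBijective (Algebra.ofId k (R ⧸ i.asIdeal)) (hbij i)).symm.toAlgHom.comp
      (Ideal.Quotient.mkₐ k i.asIdeal)
  have hker : ∀ i, RingHom.ker (χ i) = i.asIdeal := fun i => by
    ext x
    rw [RingHom.mem_ker, ← Ideal.Quotient.eq_zero_iff_mem]
    exact map_eq_zero_iff (AlgEquiv.ofBijective (Algebra.ofId k (R ⧸ i.asIdeal)) (hbij i)).symm
      (AlgEquiv.injective _)
  obtain ⟨x, hx1, hx2⟩ : ∃ x : MaximalSpectrum R → R, ∑ i, x i = 1 ∧ ∀ i j, j ≠ i → x i ∈ m j := by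
    rcases isEmpty_or_nonempty (MaximalSpectrum R) with he | he
    · refine ⟨fun _ => 0, ?_, fun i => isEmptyElim i⟩
      rw [Finset.univ_eq_empty, Finset.sum_empty]
      exact (hinf 1 fun i => isEmptyElim i).symm
    · have htop := (Ideal.iSup_iInf_eq_top_iff_pairwise Finset.univ_nonempty m).2 (fun i _ j _ hij =>
        Ideal.isCoprime_iff_sup_eq.1 (hcop i j hij))
      have h1 : (1 : R) ∈ ⨆ i ∈ (Finset.univ : Finset (MaximalSpectrum R)),
          ⨅ (j) (_ : j ∈ (Finset.univ : Finset (MaximalSpectrum R))) (_ : j ≠ i), m j := htop ▸ Submodule.mem_top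
      obtain ⟨μ, hμ⟩ := (Submodule.mem_iSup_finset_iff_exists_sum _ _).1 h1
      refine ⟨fun i => μ i, hμ, fun i j hji => ?_⟩
      have := (μ i).2
      simp only [Submodule.mem_iInf] at this
      exact this j (Finset.mem_univ j) hji
  refine ⟨MaximalSpectrum R, inferInstance, χ, x, N, hx1, fun i y hy => hinf _ fun j => ?_⟩
  by_cases hji : j = i
  · subst hji
    rw [hker] at hy
    exact Ideal.mul_mem_right _ _ hy
  · exact Ideal.mul_mem_left _ _ (hx2 i j hji)

/-- Over an algebraically closed field a cocommutative Hopf algebra is spanned by group-like translates of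
coconnected elements. -/
theorem exists_decomp [Coalgebra.IsCocomm k A] (a : A) :
    a ∈ Submodule.span k {x : A | ∃ g b : A, IsGroupLikeElem k g ∧ b ∈ uni k A ∧ x = g * b} := by
  classical
  obtain ⟨W, hWf, haW, hW⟩ := exists_finite_subcoalg (k := k) (A := A) (Set.finite_singleton a)
  haveI := hWf
  have hWR : ∀ f : A →ₗ[k] k, ∀ x ∈ W, sliceR f (CoalgebraStruct.comul (R := k) x) ∈ W := fun f x hx => by
    obtain ⟨t, ht⟩ := hW x hx
    rw [← ht]
    clear ht
    induction t using TensorProduct.induction_on with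
    | zero => simp
    | add u v hu hv => rw [map_add, map_add]; exact add_mem hu hv
    | tmul p q => rw [TensorProduct.map_tmul, sliceR_tmul]; exact W.smul_mem _ p.2
  let I : Ideal (WithConv (A →ₗ[k] k)) :=
    { carrier := {f | ∀ x ∈ W, f.ofConv x = 0}
      add_mem' := fun {f g} hf hg x hx => by simp [hf x hx, hg x hx]
      zero_mem' := fun x hx => by simp
      smul_mem' := fun c f hf x hx => by
        show (c * f).ofConv x = 0
        rw [mul_comm c f]
        exact (conv_apply_sliceR f.ofConv c.ofConv x).trans (hf _ (hWR _ x hx)) }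
  let res : (WithConv (A →ₗ[k] k)) →ₗ[k] Module.Dual k W :=
    { toFun := fun f => f.ofConv ∘ₗ W.subtype
      map_add' := fun f g => rfl
      map_smul' := fun c f => rfl }
  haveI : Module.Finite k ((WithConv (A →ₗ[k] k)) ⧸ I) := by
    have hker : (I.restrictScalars k) = LinearMap.ker res := by
      ext f
      exact ⟨fun h => LinearMap.mem_ker.2 (LinearMap.ext fun x => h x.1 x.2),
        fun h x hx => LinearMap.congr_fun (LinearMap.mem_ker.1 h) ⟨x, hx⟩⟩
    let ι : ((WithConv (A →ₗ[k] k)) ⧸ I.restrictScalars k) →ₗ[k] Module.Dual k W := (I.restrictScalars k).liftQ res hker.le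
    haveI : Module.Finite k ((WithConv (A →ₗ[k] k)) ⧸ I.restrictScalars k) := FiniteDimensional.of_injective ι (by
      rw [← LinearMap.ker_eq_bot, Submodule.ker_liftQ, hker, Submodule.mkQ_map_self])
    exact Module.Finite.equiv ((Submodule.Quotient.restrictScalarsEquiv k I))
  obtain ⟨idx, _, χ, x, N, hx1, hxN⟩ := exists_partition (k := k) (WithConv (A →ₗ[k] k) ⧸ I)
  obtain ⟨s, hs⟩ := W.subtype.exists_leftInverse_of_injective W.ker_subtype
  -- the group-like element of a point
  have hpt : ∀ i : idx, ∃ g : A, IsGroupLikeElem k g ∧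
      ∀ f : WithConv (A →ₗ[k] k), f.ofConv g = 0 → Ideal.Quotient.mk I f ∈ RingHom.ker (χ i) := by
    intro i
    let ξ : WithConv (A →ₗ[k] k) →ₐ[k] k := (χ i).comp (Ideal.Quotient.mkₐ k I)
    let φ : Module.Dual k W →ₗ[k] k := ξ.toLinearMap ∘ₗ
      { toFun := fun ω => toConv (ω ∘ₗ s)
        map_add' := fun ω ω' => rfl
        map_smul' := fun c ω => rfl }
    obtain ⟨g, hg⟩ := (Module.evalEquiv k W).surjective φ
    have hξ : ∀ f : WithConv (A →ₗ[k] k), ξ f = f.ofConv g := by
      intro f
      have h1 : f - toConv ((f.ofConv ∘ₗ W.subtype) ∘ₗ s) ∈ I := fun x hx => by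
        simp [show s x = ⟨x, hx⟩ from LinearMap.congr_fun hs ⟨x, hx⟩]
      have h2 : ξ (f - toConv ((f.ofConv ∘ₗ W.subtype) ∘ₗ s)) = 0 := by
        show χ i (Ideal.Quotient.mk I _) = 0
        rw [Ideal.Quotient.eq_zero_iff_mem.2 h1, map_zero]
      rw [map_sub, sub_eq_zero] at h2
      rw [h2]
      exact (LinearMap.congr_fun hg (f.ofConv ∘ₗ W.subtype)).symm
    refine ⟨g, ⟨?_, ?_⟩, fun f hf => RingHom.mem_ker.2 ((hξ f).trans hf)⟩
    · have := hξ 1
      rw [map_one, ← toConv_counit, ofConv_toConv] at this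
      exact this.symm
    · refine eq_of_forall_sliceL fun φ' => sub_eq_zero.1 ((Module.forall_dual_apply_eq_zero_iff k _).1 fun ψ => ?_)
      rw [map_sub, sub_eq_zero, ← conv_apply_sliceL, sliceL_tmul, map_smul, smul_eq_mul]
      have := hξ (toConv φ' * toConv ψ)
      rw [map_mul, hξ, hξ] at this
      exact this.symm
  choose g hg hgm using hpt
  choose e he using fun i => Ideal.Quotient.mk_surjective (x i)
  let c : idx → A := fun i => sliceR (e i).ofConv (CoalgebraStruct.comul (R := k) a)
  have ha : a = ∑ i, c i := by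
    refine sub_eq_zero.1 ((Module.forall_dual_apply_eq_zero_iff k _).1 fun p => ?_)
    rw [map_sub, sub_eq_zero, map_sum]
    have h1 : (∑ i, toConv p * e i) - toConv p ∈ I := by
      refine Ideal.Quotient.eq.1 ?_
      rw [map_sum]
      simp only [map_mul, he]
      rw [← Finset.mul_sum, hx1]
      exact MulOneClass.mul_one (M := WithConv (A →ₗ[k] k) ⧸ I) _
    have h2 := h1 a (haW rfl)
    simp only [ofConv_sub, LinearMap.sub_apply, ofConv_sum, LinearMap.sum_apply, ofConv_toConv, sub_eq_zero] at h2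
    rw [← h2]
    exact Finset.sum_congr rfl fun i _ => conv_apply_sliceR p (e i).ofConv a
  rw [ha]
  refine Submodule.sum_mem _ fun i _ => Submodule.subset_span ?_
  have hginv : HopfAlgebra.antipode k (g i) * g i = 1 := by
    rw [mul_comm]; exact (hg i).mul_antipode_cancel
  refine ⟨g i, HopfAlgebra.antipode k (g i) * c i, hg i, ⟨N, ?_⟩, ?_⟩
  swap
  · rw [← mul_assoc, (hg i).mul_antipode_cancel, one_mul]
  refine mem_coFil.2 fun p hp => ?_
  let T : A →ₗ[k] A := LinearMap.mulLeft k (HopfAlgebra.antipode k (g i))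
  have hpow : ∀ (n : ℕ) (q : A →ₗ[k] k), q ∈ augPow k A n →
      Ideal.Quotient.mk I (toConv (q ∘ₗ T)) ∈ RingHom.ker (χ i) ^ n := by
    intro n
    induction n with
    | zero => intro q _; rw [pow_zero, Ideal.one_eq_top]; exact Submodule.mem_top
    | succ n ih =>
      rintro _ ⟨f, hf, q, hq, rfl⟩
      rw [conv_comp T (comul_mul_groupLike (hg i).antipode), conv_eq_mul, toConv_ofConv, map_mul, pow_succ']
      refine Ideal.mul_mem_mul (hgm i _ ?_) (ih q hq)
      show f (HopfAlgebra.antipode k (g i) * g i) = 0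
      rw [hginv, hf]
  have h1 : Ideal.Quotient.mk I (toConv (p ∘ₗ T) * e i) = 0 := by
    rw [map_mul, he]
    exact hxN i _ (Ideal.pow_le_pow_right (Nat.le_succ N) (hpow _ p hp))
  have h2 := Ideal.Quotient.eq_zero_iff_mem.1 h1 a (haW rfl)
  exact (conv_apply_sliceR (p ∘ₗ T) (e i).ofConv a).symm.trans h2

end Decomposition

section BaseChange

variable {k : Type u} [Field k] {A : Type v} [CommRing A] [Bialgebra k A] (K : Type w) [Field K] [Algebra k K]

/-- A functional extended to a larger field. -/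
def extK (f : A →ₗ[k] k) : (K ⊗[k] A) →ₗ[K] K :=
  (TensorProduct.AlgebraTensorModule.rid k K K).toLinearMap ∘ₗ f.baseChange K

theorem extK_tmul (f : A →ₗ[k] k) (s : K) (a : A) : extK K f (s ⊗ₜ[k] a) = f a • s := by
  simp [extK]

theorem extK_conv (f g : A →ₗ[k] k) :
    extK K (conv f g) = conv (extK K f) (extK K g) := by
  refine TensorProduct.AlgebraTensorModule.curry_injective (LinearMap.ext_ring ?_)
  refine LinearMap.ext fun a => ?_
  show extK K (conv f g) ((1 : K) ⊗ₜ[k] a) =
    LinearMap.mul' K K (TensorProduct.map (extK K f) (extK K g)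
      (CoalgebraStruct.comul (R := K) ((1 : K) ⊗ₜ[k] a)))
  rw [extK_tmul, comul_one_tmul]
  show (LinearMap.mul' k k (TensorProduct.map f g (CoalgebraStruct.comul (R := k) a))) • (1 : K) = _
  generalize CoalgebraStruct.comul (R := k) a = z
  induction z using TensorProduct.induction_on with
  | zero => simp
  | tmul x y => simp [extK_tmul, Algebra.smul_def]
  | add x y hx hy => simp only [map_add, add_smul, hx, hy]

theorem extK_mem_augPow {n : ℕ} {p : A →ₗ[k] k} (hp : p ∈ augPow k A n) :
    extK K p ∈ augPow K (K ⊗[k] A) n := by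
  induction n generalizing p with
  | zero =>
    rw [Set.mem_singleton_iff.1 hp]
    refine Set.mem_singleton_iff.2 (TensorProduct.AlgebraTensorModule.curry_injective (LinearMap.ext_ring ?_))
    refine LinearMap.ext fun a => ?_
    show extK K _ ((1 : K) ⊗ₜ[k] a) = CoalgebraStruct.counit (R := K) ((1 : K) ⊗ₜ[k] a)
    rw [extK_tmul, TensorProduct.counit_tmul, CommSemiring.counit_apply]
  | succ n ih =>
    obtain ⟨f, hf, q, hq, rfl⟩ := hp
    refine ⟨extK K f, ?_, extK K q, ih hq, (extK_conv K f q).symm⟩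
    rw [Algebra.TensorProduct.one_def, extK_tmul, hf, zero_smul]

/-- The filtration commutes with extensions of the field. -/
theorem mem_span_of_mem_coFil_baseChange {n : ℕ} {c : K ⊗[k] A} (hc : c ∈ coFil K (K ⊗[k] A) n) :
    c ∈ Submodule.span K {x : K ⊗[k] A | ∃ a ∈ coFil k A n, x = (1 : K) ⊗ₜ[k] a} := by
  classical
  let b := Module.Free.chooseBasis k K
  obtain ⟨z, rfl⟩ : ∃ z : Module.Free.ChooseBasisIndex k K →₀ A,
      c = (TensorProduct.equivFinsuppOfBasisLeft b).symm z :=
    ⟨TensorProduct.equivFinsuppOfBasisLeft b c, (LinearEquiv.symm_apply_apply _ _).symm⟩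
  rw [TensorProduct.equivFinsuppOfBasisLeft_symm_apply] at hc ⊢
  refine Submodule.sum_mem _ fun i _ => ?_
  have h1 : z i ∈ coFil k A n := by
    refine mem_coFil.2 fun p hp => ?_
    have h := mem_coFil.1 hc _ (extK_mem_augPow K hp)
    rw [map_finsuppSum] at h
    simp only [extK_tmul] at h
    have h2 := congrArg (fun x => b.repr x i) h
    simp only [map_finsuppSum, map_smul, Module.Basis.repr_self, Finsupp.smul_single, smul_eq_mul, _root_.mul_one,
      map_zero, Finsupp.coe_zero, Pi.zero_apply, Finsupp.sum_apply, Finsupp.single_apply] at h2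
    rw [Finsupp.sum, Finset.sum_ite_eq'] at h2
    by_cases hi : i ∈ z.support
    · rwa [if_pos hi] at h2
    · rw [Finsupp.notMem_support_iff.1 hi, map_zero]
  show b i ⊗ₜ[k] z i ∈ _
  rw [show b i ⊗ₜ[k] z i = b i • ((1 : K) ⊗ₜ[k] z i) by rw [TensorProduct.smul_tmul', smul_eq_mul, _root_.mul_one]]
  exact Submodule.smul_mem _ _ (Submodule.subset_span ⟨_, h1, rfl⟩)

end BaseChange

section Structure

variable {k : Type u} [Field k] {A : Type u} [CommRing A] [HopfAlgebra k A]

/-- A Hopf algebra spanned by group-like elements is diagonalisable. -/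
theorem isDiag_of_isDiagonalizable (h : IsDiagonalizable k A) : SGA3b.IsDiag k A := by
  let L : MonoidAlgebra k (GroupLike k A) →ₐc[k] A := BialgHom.ofAlgHom
    (MonoidAlgebra.lift k A (GroupLike k A) (GroupLike.valMonoidHom k A))
    (MonoidAlgebra.algHom_ext (fun g => by simp [g.2.counit_eq_one]) (Subsingleton.elim _ _))
    (MonoidAlgebra.algHom_ext (fun g => by simp [g.2.comul_eq_tmul_self]) (Subsingleton.elim _ _))
  refine H19Mult.isDiag_of_surjective L fun a => ?_
  have ha : a ∈ Submodule.span k {a : A | IsGroupLikeElem k a} := h.ge trivial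
  induction ha using Submodule.span_induction with
  | mem x hx =>
    refine ⟨MonoidAlgebra.single ⟨x, hx⟩ 1, ?_⟩
    show MonoidAlgebra.lift k A (GroupLike k A) (GroupLike.valMonoidHom k A) (MonoidAlgebra.single ⟨x, hx⟩ 1) = x
    rw [MonoidAlgebra.lift_single, one_smul]
    rfl
  | zero => exact ⟨0, map_zero _⟩
  | add x y _ _ hx hy =>
    obtain ⟨x', rfl⟩ := hx
    obtain ⟨y', rfl⟩ := hy
    exact ⟨x' + y', map_add _ _ _⟩
  | smul c x _ hx =>
    obtain ⟨x', rfl⟩ := hx
    exact ⟨c • x', map_smul _ _ _⟩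

/-- The coconnected part is a unipotent Hopf algebra. -/
theorem isUnipotent_uni [Coalgebra.IsCocomm k A] :
    letI := H20FF.subHopf (isHopfSub_uni (k := k) (A := A))
    IsUnipotent k (uni k A) := by
  letI := H20FF.subHopf (isHopfSub_uni (k := k) (A := A))
  let v : uni k A →ₗ[k] A := (uni k A).val.toLinearMap
  refine isUnipotent_of_filtration (fun r => (coFil k A r).comap v)
    (fun r s h => Submodule.comap_mono (coFil_mono h)) ?_ ?_ fun r => ?_
  · refine le_antisymm (fun x hx => ?_) (Submodule.span_le.2 (Set.singleton_subset_iff.2 (one_mem_coFil 0)))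
    rw [Submodule.mem_comap, coFil_zero] at hx
    obtain ⟨c, hc⟩ := Submodule.mem_span_singleton.1 hx
    exact Submodule.mem_span_singleton.2 ⟨c, Subtype.ext hc⟩
  · refine eq_top_iff.2 fun x _ => ?_
    obtain ⟨n, hn⟩ := x.2
    exact Submodule.mem_iSup_of_mem n hn
  · rintro _ ⟨x, hx, rfl⟩
    have hle := comul_coFil_le r (Submodule.mem_map_of_mem (f := CoalgebraStruct.comul (R := k) (A := A)) hx)
    rw [show CoalgebraStruct.comul (R := k) (v x) = TensorProduct.map v v (CoalgebraStruct.comul (R := k) x) from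
      (H20FF.valMap_subComul (isHopfSub_uni (k := k) (A := A)) x).symm] at hle
    have hmap : (⨆ i ∈ Finset.range (r + 1), LinearMap.range (TensorProduct.mapIncl (coFil k A i) (coFil k A (r - i)))) ≤
        (⨆ i ∈ Finset.range (r + 1), LinearMap.range
          (TensorProduct.mapIncl ((coFil k A i).comap v) ((coFil k A (r - i)).comap v))).map
          (TensorProduct.map v v) := by
      refine iSup₂_le fun i hi => ?_
      rintro _ ⟨t, rfl⟩
      induction t using TensorProduct.induction_on with
      | zero => rw [map_zero]; exact zero_mem _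
      | add p q hp hq => rw [map_add]; exact add_mem hp hq
      | tmul p q =>
        refine ⟨(⟨p, i, p.2⟩ : uni k A) ⊗ₜ[k] (⟨q, _, q.2⟩ : uni k A),
          Submodule.mem_iSup_of_mem i (Submodule.mem_iSup_of_mem hi ⟨⟨⟨p, i, p.2⟩, p.2⟩ ⊗ₜ[k] ⟨⟨q, _, q.2⟩, q.2⟩, rfl⟩), rfl⟩
    obtain ⟨z, hz, hzx⟩ := hmap hle
    exact (H20FF.valMap_injective (uni k A) (hzx : TensorProduct.map v v z = _)) ▸ hz

/-- The largest subgroup of multiplicative type of a commutative affine group, with unipotent quotient. -/
theorem exists_largest_multType [Coalgebra.IsCocomm k A] :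
    ∃ (J : Ideal A) (_ : J.IsHopfIdeal k), SGA3b.IsMultTypeConst k (A ⧸ J) ∧
      letI := H20FF.subHopf (isHopfSub_uni (k := k) (A := A))
      J = Ideal.map (H20FF.subVal (isHopfSub_uni (k := k) (A := A)) : uni k A →+* A)
        (RingHom.ker (Bialgebra.counitAlgHom k (uni k A))) := by
  letI := H20FF.subHopf (isHopfSub_uni (k := k) (A := A))
  let φ := H20FF.subVal (isHopfSub_uni (k := k) (A := A))
  let J := Ideal.map (φ : uni k A →+* A) (RingHom.ker (Bialgebra.counitAlgHom k (uni k A)))
  haveI hJ : J.IsHopfIdeal k := H19Mult.KernelLocal.isHopfIdeal_map_aug φ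
  refine ⟨J, hJ, ⟨AlgebraicClosure k, inferInstance, inferInstance, inferInstance,
    isDiag_of_isDiagonalizable ?_⟩, rfl⟩
  let K := AlgebraicClosure k
  let π : K ⊗[k] A →ₐc[K] K ⊗[k] (A ⧸ J) := Bialgebra.TensorProduct.map (BialgHom.id K K) (Bialgebra.Quotient.mkBialgHom J)
  have hπ : ∀ s a, π (s ⊗ₜ[k] a) = s ⊗ₜ[k] Ideal.Quotient.mk J a := fun s a => rfl
  have hkill : ∀ b ∈ uni k A, ∀ x : K, π (x ⊗ₜ[k] b) =
      (CoalgebraStruct.counit (R := k) b • x) ⊗ₜ[k] (1 : A ⧸ J) := by
    intro b hb x
    have h1 : b - algebraMap k A (CoalgebraStruct.counit (R := k) b) ∈ J := by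
      refine Ideal.mem_map_of_mem (φ : uni k A →+* A)
        (x := (⟨b, hb⟩ : uni k A) - algebraMap k _ (CoalgebraStruct.counit (R := k) b)) ?_
      rw [RingHom.mem_ker, map_sub, AlgHom.commutes, sub_eq_zero]
      rfl
    rw [hπ, Ideal.Quotient.eq.2 h1, ← Ideal.Quotient.algebraMap_eq, ← IsScalarTower.algebraMap_apply,
      Algebra.algebraMap_eq_smul_one, TensorProduct.tmul_smul, TensorProduct.smul_tmul']
  refine eq_top_iff.2 fun y hy0 => ?_
  clear hy0
  obtain ⟨y, rfl⟩ : ∃ z, π z = y := by
    induction y using TensorProduct.induction_on with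
    | zero => exact ⟨0, map_zero _⟩
    | tmul s a =>
      obtain ⟨a, rfl⟩ := Ideal.Quotient.mk_surjective a
      exact ⟨s ⊗ₜ[k] a, hπ s a⟩
    | add p q hp hq =>
      obtain ⟨p', rfl⟩ := hp
      obtain ⟨q', rfl⟩ := hq
      exact ⟨p' + q', map_add _ _ _⟩
  have hy := exists_decomp (k := K) y
  induction hy using Submodule.span_induction with
  | zero => rw [map_zero]; exact zero_mem _
  | add p q _ _ hp hq => rw [map_add]; exact add_mem hp hq
  | smul c p _ hp => rw [map_smul]; exact Submodule.smul_mem _ c hp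
  | mem x hx =>
    obtain ⟨g, b, hg, ⟨n, hb⟩, rfl⟩ := hx
    rw [map_mul]
    have hb1 : π b ∈ Submodule.span K {(1 : K ⊗[k] (A ⧸ J))} := by
      have := mem_span_of_mem_coFil_baseChange K hb
      clear hb
      induction this using Submodule.span_induction with
      | zero => rw [map_zero]; exact zero_mem _
      | add p q _ _ hp hq => rw [map_add]; exact add_mem hp hq
      | smul c p _ hp => rw [map_smul]; exact Submodule.smul_mem _ c hp
      | mem x hx =>
        obtain ⟨a, ha, rfl⟩ := hx
        rw [hkill a ⟨n, ha⟩, show ∀ s : K, s ⊗ₜ[k] (1 : A ⧸ J) = s • (1 : K ⊗[k] (A ⧸ J)) from fun s => by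
          rw [Algebra.TensorProduct.one_def, TensorProduct.smul_tmul', smul_eq_mul, _root_.mul_one]]
        exact Submodule.smul_mem _ _ (Submodule.mem_span_singleton_self _)
    obtain ⟨c, hc⟩ := Submodule.mem_span_singleton.1 hb1
    rw [← hc, mul_smul_comm, _root_.mul_one]
    exact Submodule.smul_mem _ c (Submodule.subset_span (hg.map π))

end Structure

end

end Groth.Agent.H19Chev.CoradSplit
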