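import Groth.Agent.H19Chev.CoradSplit

/-!
# Uniqueness of the decomposition along group-like elements
-/

set_option autoImplicit false

universe u v

open TensorProduct HopfRep WithConv
open scoped Groth.Agent.H20Comod

namespace Groth.Agent.H19Chev.CoradSplit

open Groth.Agent.H20Comod

noncomputable section

variable {k : Type u} [Field k] {A : Type v} [CommRing A] [HopfAlgebra k A]

/-- Functionals killing a translate of a step of the filtration form an ideal. -/
theorem conv_kill {g : A} (hg : IsGroupLikeElem k g) {r : ℕ} {q : A →ₗ[k] k}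
    (hq : ∀ x ∈ coFil k A r, q (g * x) = 0) (p : A →ₗ[k] k) {x : A} (hx : x ∈ coFil k A r) :
    conv p q (g * x) = 0 ∧ conv q p (g * x) = 0 := by
  have hT : ∀ a, CoalgebraStruct.comul (R := k) (LinearMap.mulLeft k g a) =
      TensorProduct.map (LinearMap.mulLeft k g) (LinearMap.mulLeft k g) (CoalgebraStruct.comul (R := k) a) := by
    intro a
    show CoalgebraStruct.comul (R := k) (g * a) = _
    rw [Bialgebra.comul_mul, hg.comul_eq_tmul_self]
    generalize CoalgebraStruct.comul (R := k) a = z
    induction z using TensorProduct.induction_on with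
    | zero => simp
    | tmul x y => simp
    | add u v hu hv => rw [mul_add, hu, hv, map_add]
  constructor
  · refine (LinearMap.congr_fun (conv_comp (LinearMap.mulLeft k g) hT p q) x).trans ?_
    rw [conv_apply_sliceL]
    exact hq _ (sliceL_mem_coFil hx _)
  · refine (LinearMap.congr_fun (conv_comp (LinearMap.mulLeft k g) hT q p) x).trans ?_
    rw [conv_apply_sliceR]
    exact hq _ (sliceR_mem_coFil hx _)

/-- Products of `r + 1` copies of a form vanishing at `g` kill the translate of the `r`-th step. -/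
theorem pow_kill {g : A} (hg : IsGroupLikeElem k g) (r : ℕ) {f : A →ₗ[k] k} (hf : f g = 0) {x : A}
    (hx : x ∈ coFil k A r) : (toConv f ^ (r + 1)).ofConv (g * x) = 0 := by
  have hT : ∀ a, CoalgebraStruct.comul (R := k) (LinearMap.mulLeft k g a) =
      TensorProduct.map (LinearMap.mulLeft k g) (LinearMap.mulLeft k g) (CoalgebraStruct.comul (R := k) a) := by
    intro a
    show CoalgebraStruct.comul (R := k) (g * a) = _
    rw [Bialgebra.comul_mul, hg.comul_eq_tmul_self]
    generalize CoalgebraStruct.comul (R := k) a = z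
    induction z using TensorProduct.induction_on with
    | zero => simp
    | tmul x y => simp
    | add u v hu hv => rw [mul_add, hu, hv, map_add]
  have hpow : ∀ n, (toConv f ^ n).ofConv ∘ₗ LinearMap.mulLeft k g ∈ augPow k A n := by
    intro n
    induction n with
    | zero =>
      refine Set.mem_singleton_iff.2 (LinearMap.ext fun a => ?_)
      show (1 : WithConv (A →ₗ[k] k)).ofConv (g * a) = _
      rw [← toConv_counit, ofConv_toConv, Bialgebra.counit_mul, hg.counit_eq_one, one_mul]
    | succ n ih =>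
      refine ⟨f ∘ₗ LinearMap.mulLeft k g, by simp [hf], _, ih, ?_⟩
      rw [← conv_comp _ hT, pow_succ']
      rfl
  exact mem_coFil.1 hx _ (hpow (r + 1))

/-- Translates of coconnected elements by distinct group-like elements are independent. -/
theorem eq_zero_of_sum_groupLike_mul [Coalgebra.IsCocomm k A] (s : Finset A) (hs : ∀ g ∈ s, IsGroupLikeElem k g) (b : A → A)
    (hb : ∀ g ∈ s, b g ∈ uni k A) (h : ∑ g ∈ s, g * b g = 0) : ∀ g ∈ s, b g = 0 := by
  classical
  intro g₁ hg₁
  choose! r hr using fun g (hg : g ∈ s) => mem_uni.1 (hb g hg)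
  have hex : ∀ g ∈ s, g ≠ g₁ → ∃ f : A →ₗ[k] k, f g = 0 ∧ f g₁ = 1 := fun g hg hne => by
    obtain ⟨f, h1, h0⟩ := exists_dual_groupLike (k := k) (hs g₁ hg₁)
    exact ⟨f, h0 g (hs g hg) hne, h1⟩
  choose! f hf0 hf1 using hex
  let Q : WithConv (A →ₗ[k] k) := ∏ g ∈ s.erase g₁, toConv (f g) ^ (r g + 1)
  have hQ1 : Q.ofConv g₁ = 1 := by
    have hprod : ∀ (t : Finset A), t ⊆ s.erase g₁ → (∏ g ∈ t, toConv (f g) ^ (r g + 1)).ofConv g₁ = 1 := by
      have hmul : ∀ p q : WithConv (A →ₗ[k] k), (p * q).ofConv g₁ = p.ofConv g₁ * q.ofConv g₁ := fun p q => by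
        show LinearMap.mul' k k (TensorProduct.map p.ofConv q.ofConv (CoalgebraStruct.comul (R := k) g₁)) = _
        rw [(hs g₁ hg₁).comul_eq_tmul_self, TensorProduct.map_tmul, LinearMap.mul'_apply]
      have hone : (1 : WithConv (A →ₗ[k] k)).ofConv g₁ = 1 := by
        rw [← toConv_counit, ofConv_toConv, (hs g₁ hg₁).counit_eq_one]
      have hpw : ∀ (p : WithConv (A →ₗ[k] k)), p.ofConv g₁ = 1 → ∀ n : ℕ, (p ^ n).ofConv g₁ = 1 := by
        intro p hp n
        induction n with
        | zero => rw [pow_zero, hone]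
        | succ n ih => rw [pow_succ, hmul, ih, hp, one_mul]
      intro t ht
      induction t using Finset.induction_on with
      | empty => rw [Finset.prod_empty, hone]
      | insert a t ha ih =>
        have has := Finset.mem_erase.1 (ht (Finset.mem_insert_self a t))
        rw [Finset.prod_insert ha, hmul, ih ((Finset.subset_insert a t).trans ht),
          hpw _ (hf1 a has.2 has.1), one_mul]
    exact hprod _ subset_rfl
  have hkill : ∀ p : A →ₗ[k] k, conv p Q.ofConv (g₁ * b g₁) = 0 := by
    intro p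
    have h2 := congrArg (conv p Q.ofConv) h
    rw [map_sum, map_zero, Finset.sum_eq_single g₁ ?_ (fun hn => absurd hg₁ hn)] at h2
    · exact h2
    · intro g hg hne
      refine (conv_kill (hs g hg) (fun x hx => ?_) p (hr g hg)).1
      show Q.ofConv (g * x) = 0
      rw [show Q = (∏ a ∈ (s.erase g₁).erase g, toConv (f a) ^ (r a + 1)) * toConv (f g) ^ (r g + 1) from
        (Finset.prod_erase_mul _ _ (Finset.mem_erase.2 ⟨hne, hg⟩)).symm]
      exact (conv_kill (hs g hg) (fun y hy => pow_kill (hs g hg) (r g) (hf0 g hg hne) hy) _ hx).1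
  -- the form `Q` translated to the unit is invertible on the filtration
  let T : A →ₗ[k] A := LinearMap.mulLeft k g₁
  let T' : A →ₗ[k] A := LinearMap.mulLeft k (HopfAlgebra.antipode k g₁)
  have hcomul : ∀ {g : A}, IsGroupLikeElem k g → ∀ a, CoalgebraStruct.comul (R := k) (LinearMap.mulLeft k g a) =
      TensorProduct.map (LinearMap.mulLeft k g) (LinearMap.mulLeft k g) (CoalgebraStruct.comul (R := k) a) := by
    intro g hg a
    show CoalgebraStruct.comul (R := k) (g * a) = _
    rw [Bialgebra.comul_mul, hg.comul_eq_tmul_self]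
    generalize CoalgebraStruct.comul (R := k) a = z
    induction z using TensorProduct.induction_on with
    | zero => simp
    | tmul x y => simp
    | add u v hu hv => rw [mul_add, hu, hv, map_add]
  have hTT : ∀ a, T' (T a) = a := fun a => by
    show HopfAlgebra.antipode k g₁ * (g₁ * a) = a
    rw [← mul_assoc, (hs g₁ hg₁).antipode_mul_cancel, one_mul]
  let q' : WithConv (A →ₗ[k] k) := toConv (Q.ofConv ∘ₗ T)
  let f' : WithConv (A →ₗ[k] k) := 1 - q'
  have hf' : f'.ofConv 1 = 0 := by
    show (1 : WithConv (A →ₗ[k] k)).ofConv 1 - Q.ofConv (g₁ * 1) = 0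
    rw [← toConv_counit, ofConv_toConv, Bialgebra.counit_one, mul_one, hQ1, sub_self]
  have hkill' : ∀ p : WithConv (A →ₗ[k] k), (p * q').ofConv (b g₁) = 0 := by
    intro p
    have h3 := hkill (p.ofConv ∘ₗ T')
    have h4 := LinearMap.congr_fun (conv_comp T (hcomul (hs g₁ hg₁)) (p.ofConv ∘ₗ T') Q.ofConv) (b g₁)
    rw [LinearMap.comp_assoc, show T' ∘ₗ T = LinearMap.id from LinearMap.ext hTT, LinearMap.comp_id] at h4
    exact h4.symm.trans h3
  refine (Module.forall_dual_apply_eq_zero_iff k _).1 fun p => ?_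
  set N := r g₁
  have hgeom : (∑ i ∈ Finset.range (N + 1), f' ^ i) * q' = 1 - f' ^ (N + 1) := by
    have := geom_sum_mul_neg f' (N + 1)
    rwa [show 1 - f' = q' from sub_sub_cancel 1 q'] at this
  have h5 := hkill' (toConv p * ∑ i ∈ Finset.range (N + 1), f' ^ i)
  rw [mul_assoc, hgeom, mul_sub, mul_one, ofConv_sub, LinearMap.sub_apply, ofConv_toConv, sub_eq_zero] at h5
  rw [h5]
  show conv p (f' ^ (N + 1)).ofConv (b g₁) = 0
  rw [conv_apply_sliceL]
  have h6 := pow_kill (k := k) (A := A) (g := 1) IsGroupLikeElem.one N (f := f'.ofConv) hf'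
    (x := sliceL p (CoalgebraStruct.comul (R := k) (b g₁))) (sliceL_mem_coFil (hr g₁ hg₁) p)
  rwa [one_mul, toConv_ofConv] at h6

end

end Groth.Agent.H19Chev.CoradSplit
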