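import Groth.Agent.H19Chev.StructureField

/-!
# Homomorphisms from affine groups to proper groups over an arbitrary field
-/

set_option autoImplicit false
set_option linter.style.haveILetI false
set_option backward.isDefEq.respectTransparency false
set_option maxHeartbeats 1000000
set_option synthInstance.maxHeartbeats 400000
universe u

open CategoryTheory CategoryTheory.Limits MonoidalCategory CartesianMonoidalCategory MonObj AlgebraicGeometry
open Groth.Agent Groth.Agent.H25AbCube Groth.Agent.H19Quot

noncomputable section

namespace Groth.Agent.H19Chev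

attribute [local instance] Functor.grpObjObj

variable {k : Type u} [Field k]

/-- Base change to the algebraic closure is faithful. -/
theorem map_bc_injective {T G : Over (Spec (CommRingCat.of k))} {f g : T ⟶ G}
    (h : (GeomTate.bc k (AlgebraicClosure k)).map f = (GeomTate.bc k (AlgebraicClosure k)).map g) : f = g := by
  haveI := GeomTate.flat_σ k (AlgebraicClosure k)
  haveI := GeomTate.surjective_σ k (AlgebraicClosure k)
  haveI : Surjective (pullback.fst T.hom (GeomTate.σ k (AlgebraicClosure k))) :=
    MorphismProperty.pullback_fst (P := @Surjective) _ _ inferInstance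
  haveI : Flat (pullback.fst T.hom (GeomTate.σ k (AlgebraicClosure k))) :=
    MorphismProperty.pullback_fst (P := @Flat) _ _ inferInstance
  haveI : QuasiCompact (pullback.fst T.hom (GeomTate.σ k (AlgebraicClosure k))) :=
    MorphismProperty.pullback_fst (P := @QuasiCompact) _ _ inferInstance
  haveI : Epi (pullback.fst T.hom (GeomTate.σ k (AlgebraicClosure k))) := Flat.epi_of_flat_of_surjective _
  apply Over.OverMorphism.ext
  rw [← cancel_epi (pullback.fst T.hom (GeomTate.σ k (AlgebraicClosure k)))]
  have h1 := congrArg (fun m => m.left ≫ pullback.fst G.hom (GeomTate.σ k (AlgebraicClosure k))) h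
  simpa [Over.pullback_map_left] using h1

/-- A smooth connected affine group maps trivially to a proper group. -/
theorem eq_one_of_affine_to_proper_field {G Q : Over (Spec (CommRingCat.of k))} [GrpObj G] [GrpObj Q] [Smooth G.hom]
    [ConnectedSpace G.left] [IsAffine G.left] [IsProper Q.hom] (f : G ⟶ Q) [IsMonHom f] : f = 1 := by
  let K := AlgebraicClosure k
  let F := GeomTate.bc k K
  haveI : QuasiCompact G.hom := inferInstance
  haveI := geometricallyIntegral_grp G
  haveI : Smooth (F.obj G).hom := inferInstanceAs (Smooth (pullback.snd G.hom (GeomTate.σ k K)))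
  haveI : GeometricallyIntegral (F.obj G).hom :=
    inferInstanceAs (GeometricallyIntegral (pullback.snd G.hom (GeomTate.σ k K)))
  haveI : IsNoetherianRing (CommRingCat.of K) := inferInstanceAs (IsNoetherianRing K)
  haveI : IsLocallyNoetherian (F.obj G).left := LocallyOfFiniteType.isLocallyNoetherian (F.obj G).hom
  haveI : AlgebraicGeometry.IsIntegral (F.obj G).left :=
    GeometricallyIntegral.isIntegral_of_subsingleton (F.obj G).hom
  haveI : ConnectedSpace (F.obj G).left := inferInstance
  haveI : IsAffine (F.obj G).left := inferInstanceAs (IsAffine (pullback G.hom (GeomTate.σ k K)))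
  haveI : IsProper (F.obj Q).hom := inferInstanceAs (IsProper (pullback.snd Q.hom (GeomTate.σ k K)))
  haveI : IsMonHom (F.map f) := inferInstance
  refine map_bc_injective ?_
  rw [map_one_bc]
  exact eq_one_of_affine_to_proper (F.map f)

/-- Maps out of a quotient are determined on the source. -/
theorem cancel_quotient {G Q Z : Over (Spec (CommRingCat.of k))} (q : G ⟶ Q) [Flat q.left] [Surjective q.left]
    [LocallyOfFinitePresentation q.left] {a b : Q ⟶ Z} (h : q ≫ a = q ≫ b) : a = b :=
  (H19Grp.QuotientDesc.existsUnique_desc q (q ≫ a) fun T x y hxy => by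
    rw [← Category.assoc, ← Category.assoc, hxy]).unique rfl h.symm

end Groth.Agent.H19Chev
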