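import Mathlib

/-!
# Ideals stable under all automorphisms of an algebraic closure, up to a power of the characteristic exponent
-/

set_option autoImplicit false
set_option linter.style.haveILetI false
universe u v

open TensorProduct

namespace Groth.Agent.H19Chev.FixedDescent

variable {k K : Type u} [Field k] [Field K] [Algebra k K]

/-- An element of an algebraic closure fixed by all automorphisms becomes rational after raising it to
a power of the characteristic exponent. -/
theorem pow_mem_of_fixed (q : ℕ) [ExpChar k q] [IsAlgClosed K] [Algebra.IsAlgebraic k K] {x : K}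
    (h : ∀ σ : K ≃ₐ[k] K, σ x = x) : ∃ n : ℕ, x ^ q ^ n ∈ (algebraMap k K).range := by
  classical
  haveI : Normal k K := (haveI : IsAlgClosure k K := ⟨inferInstance, inferInstance⟩; IsAlgClosure.normal k K)
  refine (mem_perfectClosure_iff_pow_mem q).1 (mem_perfectClosure_iff_natSepDegree_eq_one.2 ?_)
  rw [Polynomial.natSepDegree_eq_of_isAlgClosed K, Finset.card_eq_one]
  refine ⟨x, Finset.eq_singleton_iff_unique_mem.2 ⟨?_, fun y hy => ?_⟩⟩
  · rw [Multiset.mem_toFinset, Polynomial.mem_aroots]
    exact ⟨minpoly.ne_zero (Algebra.IsIntegral.isIntegral x), minpoly.aeval k x⟩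
  · rw [Multiset.mem_toFinset, Polynomial.mem_aroots] at hy
    obtain ⟨σ, hσ⟩ := minpoly.exists_algEquiv_of_root (Algebra.IsAlgebraic.isAlgebraic x) hy.2
    have h1 : σ x = σ y → x = y := fun e => σ.injective e
    exact (h1 ((h σ).trans hσ.symm)).symm

/-- A subspace of a base change which is stable under a set of automorphisms is spanned by its vectors
with fixed coordinates. -/
theorem le_span_fixed {V : Type v} [AddCommGroup V] [Module k V] {ι : Type v} (b : Module.Basis ι k V)
    (W : Submodule K (K ⊗[k] V))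
    (h : ∀ σ : K ≃ₐ[k] K, ∀ w ∈ W, LinearMap.rTensor V σ.toLinearMap w ∈ W) :
    W ≤ Submodule.span K {w | w ∈ W ∧ ∀ σ : K ≃ₐ[k] K, LinearMap.rTensor V σ.toLinearMap w = w} := by
  classical
  let B := Algebra.TensorProduct.basis K b
  let mk := W.mkQ
  have hsp : Submodule.span K (Set.range (mk ∘ B)) = ⊤ := by
    rw [Set.range_comp, Submodule.span_image, B.span_eq, Submodule.map_top, Submodule.range_mkQ]
  obtain ⟨s, hs, hli⟩ : ∃ s ⊆ Set.range (mk ∘ B), (⊤ : Submodule K _) ≤ Submodule.span K s ∧
      LinearIndepOn K id s := by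
    obtain ⟨s, hs1, hs2, hs3⟩ := exists_linearIndependent K (Set.range (mk ∘ B))
    exact ⟨s, hs1, by rw [hs2, hsp], hs3⟩
  choose r hr using fun y : s => hs y.2
  let Bs : Module.Basis s K _ := Module.Basis.mk (v := fun y : s => (y : (K ⊗[k] V) ⧸ W)) hli.2 (by
    rw [Subtype.range_coe]; exact hli.1)
  have hBs : ∀ y : s, Bs y = mk (B (r y)) := fun y => by
    exact (Module.Basis.mk_apply _ _ y).trans (hr y).symm
  let S : Submodule K (K ⊗[k] V) :=
    Submodule.span K {w | w ∈ W ∧ ∀ σ : K ≃ₐ[k] K, LinearMap.rTensor V σ.toLinearMap w = w}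
  have hfix : ∀ (σ : K ≃ₐ[k] K) (i : ι), LinearMap.rTensor V σ.toLinearMap (B i) = B i := fun σ i => by
    simp [B]
  have hsmul : ∀ (σ : K ≃ₐ[k] K) (c : K) (z : K ⊗[k] V),
      LinearMap.rTensor V σ.toLinearMap (c • z) = σ c • LinearMap.rTensor V σ.toLinearMap z := fun σ c z => by
    induction z with
    | zero => simp
    | add x y hx hy => simp [smul_add, hx, hy]
    | tmul x y => simp [TensorProduct.smul_tmul', map_mul]
  let d : ι → K ⊗[k] V := fun i => B i - (Bs.repr (mk (B i))).sum fun y c => c • B (r y)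
  have hd : ∀ i, d i ∈ W := fun i => by
    rw [← Submodule.Quotient.mk_eq_zero]
    show mk (d i) = 0
    simp only [d, map_sub, map_finsuppSum, map_smul]
    rw [sub_eq_zero]
    conv_lhs => rw [← Bs.linearCombination_repr (mk (B i))]
    rw [Finsupp.linearCombination_apply]
    exact Finsupp.sum_congr fun y _ => by rw [hBs]
  have hcoef : ∀ (σ : K ≃ₐ[k] K) (i : ι) (y : s), σ (Bs.repr (mk (B i)) y) = Bs.repr (mk (B i)) y := by
    intro σ i
    let c := Bs.repr (mk (B i))
    have h1 := h σ _ (hd i)
    simp only [d, map_sub, map_finsuppSum, hsmul, hfix] at h1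
    have h2 : mk (B i) = Finsupp.linearCombination K Bs (c.mapRange σ (map_zero σ)) := by
      rw [Finsupp.linearCombination_apply, Finsupp.sum_mapRange_index (fun y => zero_smul K (Bs y))]
      have h3 : mk (B i - c.sum fun y e => σ e • B (r y)) = 0 := (Submodule.Quotient.mk_eq_zero W).2 h1
      rw [map_sub, sub_eq_zero, map_finsuppSum] at h3
      rw [h3]
      exact Finsupp.sum_congr fun y _ => by rw [map_smul, hBs]
    intro y
    have h4 := DFunLike.congr_fun (congrArg Bs.repr h2) y
    rw [Bs.repr_linearCombination, Finsupp.mapRange_apply] at h4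
    exact h4.symm
  have hdS : ∀ i, d i ∈ S := fun i => Submodule.subset_span ⟨hd i, fun σ => by
    simp only [d, map_sub, map_finsuppSum, hsmul, hfix]
    congr 1
    exact Finsupp.sum_congr fun y _ => by rw [hcoef]⟩
  intro w hw
  show w ∈ S
  let e : K ⊗[k] V →ₗ[K] K ⊗[k] V := B.constr K fun i => (Bs.repr (mk (B i))).sum fun y c => c • B (r y)
  have key : ∀ z, z - e z ∈ S := fun z => by
    have hz : z ∈ Submodule.span K (Set.range B) := B.mem_span z
    induction hz using Submodule.span_induction with
    | mem z hz =>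
      obtain ⟨i, rfl⟩ := hz
      simp only [e, Module.Basis.constr_basis]
      exact hdS i
    | zero => simp
    | add x y _ _ hx hy => rw [map_add, add_sub_add_comm]; exact S.add_mem hx hy
    | smul c x _ hx => rw [map_smul, ← smul_sub]; exact S.smul_mem c hx
  have he : e w = 0 := by
    have : e = (Finsupp.linearCombination K fun y => B (r y)).comp (Bs.repr.toLinearMap.comp mk) := by
      refine B.ext fun i => ?_
      simp only [e, Module.Basis.constr_basis, LinearMap.comp_apply, Finsupp.linearCombination_apply]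
      rfl
    rw [this, LinearMap.comp_apply, LinearMap.comp_apply,
      show mk w = 0 from (Submodule.Quotient.mk_eq_zero W).2 hw, map_zero, map_zero]
  simpa [he] using key w

/-- A finitely generated ideal stable under all automorphisms of an algebraic closure is, after
raising it to powers of the characteristic exponent, defined over the base. -/
theorem exists_pow_mem_contracted (q : ℕ) [ExpChar k q] [IsAlgClosed K] [Algebra.IsAlgebraic k K]
    {A : Type u} [CommRing A] [Algebra k A] (I : Ideal (K ⊗[k] A)) (hI : I.FG)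
    (h : ∀ σ : K ≃ₐ[k] K, ∀ f ∈ I, Algebra.TensorProduct.map σ.toAlgHom (AlgHom.id k A) f ∈ I) :
    ∃ n₀ : ℕ, ∀ n ≥ n₀, ∀ f ∈ I,
      f ^ q ^ n ∈ ((Ideal.span ((fun f => f ^ q ^ n) '' (I : Set (K ⊗[k] A)))).comap
        (Algebra.TensorProduct.includeRight : A →ₐ[k] K ⊗[k] A)).map
        (Algebra.TensorProduct.includeRight : A →ₐ[k] K ⊗[k] A) := by
  classical
  rcases subsingleton_or_nontrivial (K ⊗[k] A) with hs | hn
  · exact ⟨0, fun n _ f _ => by rw [Subsingleton.elim (f ^ q ^ n) 0]; exact zero_mem _⟩
  haveI : ExpChar (K ⊗[k] A) q := expChar_of_injective_ringHom (algebraMap k (K ⊗[k] A)).injective q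
  let S : Set (K ⊗[k] A) := {w | w ∈ I ∧ ∀ σ : K ≃ₐ[k] K, LinearMap.rTensor A σ.toLinearMap w = w}
  have hr : ∀ (σ : K ≃ₐ[k] K) (z : K ⊗[k] A),
      LinearMap.rTensor A σ.toLinearMap z = Algebra.TensorProduct.map σ.toAlgHom (AlgHom.id k A) z := fun σ z => by
    induction z with
    | zero => simp
    | add x y hx hy => simp [hx, hy]
    | tmul x y => simp
  have hle : I ≤ Ideal.span S := by
    intro f hf
    have h1 := le_span_fixed (Module.Free.chooseBasis k A) (I.restrictScalars K) (fun σ w hw => by
      rw [hr]; exact h σ w hw) hf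
    exact Submodule.span_subset_span K (K ⊗[k] A) _ h1
  have hge : Ideal.span S ≤ I := Ideal.span_le.2 fun w hw => hw.1
  obtain ⟨T, hT⟩ := hI
  -- each fixed vector becomes rational after a power
  have hfix : ∀ w ∈ S, ∃ m, ∀ n ≥ m, ∃ a : A, (Algebra.TensorProduct.includeRight : A →ₐ[k] K ⊗[k] A) a = w ^ q ^ n := by
    intro w hw
    let b := Module.Free.chooseBasis k A
    let c := (Algebra.TensorProduct.basis K b).repr w
    have hc : ∀ i (σ : K ≃ₐ[k] K), σ (c i) = c i := fun i σ => by
      have hz : ∀ z : K ⊗[k] A, (Algebra.TensorProduct.basis K b).repr (LinearMap.rTensor A σ.toLinearMap z) i =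
          σ ((Algebra.TensorProduct.basis K b).repr z i) := fun z => by
        induction z with
        | zero => simp
        | add x y hx hy => simp [hx, hy]
        | tmul x y => simp [Algebra.TensorProduct.basis_repr_tmul]
      have h2 := hz w
      rw [hw.2 σ] at h2
      exact h2.symm
    choose m hm using fun i => pow_mem_of_fixed q (fun σ => hc i σ)
    refine ⟨c.support.sup m, fun n hn => ?_⟩
    have hw' : w = ∑ i ∈ c.support, c i ⊗ₜ[k] b i := by
      conv_lhs => rw [← (Algebra.TensorProduct.basis K b).linearCombination_repr w]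
      rw [Finsupp.linearCombination_apply, Finsupp.sum]
      refine Finset.sum_congr rfl fun i _ => ?_
      simp [c, TensorProduct.smul_tmul']
    have hmem : ∀ i ∈ c.support, ∃ e : k, algebraMap k K e = c i ^ q ^ n := fun i hi => by
      obtain ⟨e, he⟩ := hm i
      refine ⟨e ^ q ^ (n - m i), ?_⟩
      rw [map_pow, he, ← pow_mul, ← pow_add, Nat.add_sub_cancel' ((Finset.le_sup hi).trans hn)]
    choose! e he using hmem
    refine ⟨∑ i ∈ c.support, e i • b i ^ q ^ n, ?_⟩
    rw [map_sum, hw', sum_pow_char_pow]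
    refine Finset.sum_congr rfl fun i hi => ?_
    rw [Algebra.TensorProduct.tmul_pow, ← he i hi, map_smul, Algebra.TensorProduct.includeRight_apply,
      TensorProduct.smul_tmul', Algebra.algebraMap_eq_smul_one]
  choose! m hm using hfix
  have hfin : ∀ f ∈ T, ∃ s : Finset (K ⊗[k] A), ↑s ⊆ S ∧ f ∈ Ideal.span (s : Set (K ⊗[k] A)) := fun f hf =>
    Submodule.mem_span_finite_of_mem_span (hle (hT ▸ Submodule.subset_span hf))
  choose! s hsS hsf using hfin
  refine ⟨(T.biUnion s).sup m, fun n hn f hf => ?_⟩
  have hf' : f ∈ Ideal.span (↑(T.biUnion s) : Set (K ⊗[k] A)) := by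
    have : I ≤ Ideal.span (↑(T.biUnion s) : Set (K ⊗[k] A)) := by
      rw [← hT]
      refine Submodule.span_le.2 fun g hg => ?_
      refine Ideal.span_mono ?_ (hsf g hg)
      exact Finset.coe_subset.2 (Finset.subset_biUnion_of_mem s hg)
    exact this hf
  let J := ((Ideal.span ((fun f => f ^ q ^ n) '' (I : Set (K ⊗[k] A)))).comap
        (Algebra.TensorProduct.includeRight : A →ₐ[k] K ⊗[k] A)).map
    (Algebra.TensorProduct.includeRight : A →ₐ[k] K ⊗[k] A)
  show iterateFrobenius (K ⊗[k] A) q n f ∈ J
  have : Ideal.span (↑(T.biUnion s) : Set (K ⊗[k] A)) ≤ J.comap (iterateFrobenius (K ⊗[k] A) q n) := by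
    refine Ideal.span_le.2 fun w hw => ?_
    obtain ⟨g, hg, hwg⟩ := Finset.mem_biUnion.1 hw
    have hwS := hsS g hg hwg
    obtain ⟨a, ha⟩ := hm w hwS n ((Finset.le_sup hw).trans hn)
    show iterateFrobenius (K ⊗[k] A) q n w ∈ J
    rw [iterateFrobenius_def, ← ha]
    refine Ideal.mem_map_of_mem _ ?_
    rw [Ideal.mem_comap, ha]
    exact Ideal.subset_span ⟨w, hwS.1, rfl⟩
  exact this hf'

end Groth.Agent.H19Chev.FixedDescent
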