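import Groth.Agent.H19Chev.Twist
import Groth.Agent.H19Chev.FixedDescent
import Groth.Agent.H19Grp.FrobPow
import Groth.Agent.H19Chev.IdComp
import Groth.Agent.H26Sym.BC
import Groth.Agent.H18Descent.Basic
import Groth.Agent.H19Grp.NeutralOpen

/-!
# Descending normal subgroups from the algebraic closure, up to a power of Frobenius
-/

set_option autoImplicit false
set_option linter.style.haveILetI false
set_option backward.isDefEq.respectTransparency false
set_option maxHeartbeats 1000000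
set_option synthInstance.maxHeartbeats 100000
universe u

open CategoryTheory CategoryTheory.Limits MonoidalCategory CartesianMonoidalCategory MonObj AlgebraicGeometry
  TensorProduct
open Groth.Agent Groth.Agent.H25AbCube

noncomputable section

namespace Groth.Agent.H19Chev.FrobDescent

attribute [local instance] Functor.grpObjObj

variable {k : Type u} [Field k] {K : Type u} [Field K] [Algebra k K]

/-- Transport of membership in the kernel of a composite. -/
theorem mem_ker_comp {X Y : Scheme.{u}} (f : X ⟶ Y) (τ : Y ⟶ Y) [QuasiCompact τ] (V : Y.affineOpens)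
    (h : τ ⁻¹ᵁ V.1 = V.1) (x : Γ(Y, V.1)) (hx : (τ.appLE V.1 V.1 h.ge).hom x ∈ f.ker.ideal V) :
    x ∈ (f ≫ τ).ker.ideal V := by
  have H : IsAffineOpen (τ ⁻¹ᵁ V.1) := h.symm ▸ V.2
  rw [Scheme.Hom.ker_comp, Scheme.IdealSheafData.ideal_map f.ker τ V H, Ideal.mem_comap]
  have h2 := Ideal.mem_map_of_mem (Y.presheaf.map (homOfLE h.le).op).hom hx
  replace h2 := (f.ker.map_ideal (U := ⟨_, H⟩) (V := V) h.le).le h2
  have e : τ.appLE V.1 V.1 h.ge ≫ Y.presheaf.map (homOfLE h.le).op = τ.app V.1 := by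
    rw [Scheme.Hom.appLE_map, Scheme.Hom.app_eq_appLE]
  rw [← e]
  exact h2

/-- A family of endomorphisms raising functions to a given power. -/
structure PowEnd (K : Type u) [Field K] (m : ℕ) where
  /-- the endomorphism -/
  Φ : ∀ X : Over (Spec (CommRingCat.of K)), X.left ⟶ X.left
  nat : ∀ {X Y : Over (Spec (CommRingCat.of K))} (f : X ⟶ Y), Φ X ≫ f.left = f.left ≫ Φ Y
  affine : ∀ X, IsAffineHom (Φ X)
  app : ∀ (X : Over (Spec (CommRingCat.of K))) (U : X.left.Opens),
    ∃ e : U = Φ X ⁻¹ᵁ U, ∀ s : Γ(X.left, U), (Φ X).app U s = X.left.presheaf.map (eqToHom e.symm).op (s ^ m)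
  surj : ∀ X, Surjective (Φ X)
  inj : ∀ X, Function.Injective (Φ X)

/-- Powers of the characteristic exponent are realised by endomorphisms. -/
theorem exists_powEnd (q : ℕ) [ExpChar K q] (n : ℕ) : Nonempty (PowEnd K (q ^ n)) := by
  cases ‹ExpChar K q› with
  | zero =>
    refine ⟨⟨fun X => 𝟙 X.left, fun f => by rw [Category.id_comp, Category.comp_id], fun X => inferInstance,
      fun X U => ⟨rfl, fun s => ?_⟩, fun X => inferInstance, fun X => fun a b h => h⟩⟩
    erw [CategoryTheory.Functor.map_id]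
    simp
  | prime hq =>
    haveI : Fact q.Prime := ⟨hq⟩
    haveI hc : ∀ X : Over (Spec (CommRingCat.of K)), FrobSch.IsCharP X.left q := fun X =>
      FrobSch.IsCharP.of_hom X.hom q
    refine ⟨⟨fun X => H19Grp.FrobPow.frobN q n X.left, fun f => H19Grp.FrobPow.frobN_comp q n f.left,
      fun X => inferInstance, fun X U => ⟨(H19Grp.FrobPow.frobN_preimage q n _ U).symm, fun s => ?_⟩,
      fun X => ⟨fun x => ⟨x, rfl⟩⟩, fun X => fun a b h => h⟩⟩
    rw [H19Grp.FrobPow.frobN_app]
    erw [CategoryTheory.Functor.map_id]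
    rfl

variable {G : Over (Spec (CommRingCat.of k))}

set_option quotPrecheck false
local notation "Gbar" => (Functor.obj (GeomTate.bc k K) G)
local notation "πG" => pullback.fst G.hom (GeomTate.σ k K)

set_option maxHeartbeats 3000000 in
/-- The equation in rings behind the descent. -/
theorem pow_mem_on_chart [IsAlgClosed K] [Algebra.IsAlgebraic k K] (q : ℕ) [ExpChar k q]
    [LocallyOfFiniteType G.hom] {L : Over (Spec (CommRingCat.of K))} (l : L ⟶ Gbar) [QuasiCompact l.left]
    (hst : ∀ s : K ≃ₐ[k] K, (l.left ≫ Twist.τ s G).ker ≤ l.left.ker) (U : G.left.affineOpens) :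
    ∃ (hV : IsAffineOpen (πG ⁻¹ᵁ U.1)) (n₀ : ℕ), ∀ n ≥ n₀, ∀ f ∈ l.left.ker.ideal ⟨_, hV⟩,
      f ^ q ^ n ∈ ((Ideal.span ((fun g => g ^ q ^ n) '' (l.left.ker.ideal ⟨_, hV⟩ : Set Γ((Gbar).left, πG ⁻¹ᵁ U.1)))).comap
        ((πG).app U.1).hom).map ((πG).app U.1).hom := by
  haveI : IsAffineHom (GeomTate.σ k K) := inferInstance
  haveI : IsAffineHom πG := MorphismProperty.pullback_fst (P := @IsAffineHom) _ _ inferInstance
  have hV : IsAffineOpen (πG ⁻¹ᵁ U.1) := U.2.preimage _
  refine ⟨hV, ?_⟩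
  let A := Γ(G.left, U.1)
  let B := Γ((Gbar).left, πG ⁻¹ᵁ U.1)
  let V := πG ⁻¹ᵁ U.1
  have H : IsPullback πG (pullback.snd G.hom (GeomTate.σ k K)) G.hom (GeomTate.σ k K) :=
    IsPullback.of_hasPullback _ _
  have hPO := H26Sym.isPushout_appLE H (US := ⊤) (UT := ⊤) (UX := U.1) (UY := V) (isAffineOpen_top _)
    (isAffineOpen_top _) U.2 le_top le_top (by simp [V])
  let αA : CommRingCat.of k ⟶ A := (Scheme.ΓSpecIso (CommRingCat.of k)).inv ≫ G.hom.appLE ⊤ U.1 le_top
  let κ : CommRingCat.of K ⟶ B :=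
    (Scheme.ΓSpecIso (CommRingCat.of K)).inv ≫ (pullback.snd G.hom (GeomTate.σ k K)).appLE ⊤ V le_top
  let π' : A ⟶ B := (πG).app U.1
  have hPO' : IsPushout αA (CommRingCat.ofHom (algebraMap k K)) π' κ := by
    refine hPO.of_iso (Scheme.ΓSpecIso (CommRingCat.of k)) (Iso.refl _) (Scheme.ΓSpecIso (CommRingCat.of K))
      (Iso.refl _) ?_ ?_ ?_ ?_
    · simp [αA, A]
    · show (GeomTate.σ k K).appLE ⊤ ⊤ _ ≫ _ = _ ≫ CommRingCat.ofHom (algebraMap k K)
      have h0 : (GeomTate.σ k K).appTop = (GeomTate.σ k K).appLE ⊤ ⊤ le_top := Scheme.Hom.app_eq_appLE _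
      rw [← h0]
      exact Scheme.ΓSpecIso_naturality _
    · simp [π', V, Scheme.Hom.app_eq_appLE]
    · simp [κ, B, V]
  letI : Algebra k A := αA.hom.toAlgebra
  haveI : Algebra.FiniteType k A := by
    have h1 : αA.hom.FiniteType := RingHom.FiniteType.comp (G.hom.finiteType_appLE (isAffineOpen_top _) U.2 le_top)
      (RingHom.FiniteType.of_surjective _
        (ConcreteCategory.bijective_of_isIso (Scheme.ΓSpecIso (CommRingCat.of k)).inv).2)
    exact h1
  let e := ((CommRingCat.isPushout_tensorProduct k K A).isoIsPushout _ _ hPO'.flip).commRingCatIsoToRingEquiv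
  have he1 : ∀ c : K, e (Algebra.TensorProduct.includeLeftRingHom (B := A) c) = κ.hom c := fun c =>
    congr($((CommRingCat.isPushout_tensorProduct k K A).inl_isoIsPushout_hom _ _ hPO'.flip).hom c)
  have he2 : ∀ a : A, e ((Algebra.TensorProduct.includeRight : A →ₐ[k] K ⊗[k] A) a) = π'.hom a := fun a =>
    congr($((CommRingCat.isPushout_tensorProduct k K A).inr_isoIsPushout_hom _ _ hPO'.flip).hom a)
  let I := (l.left.ker.ideal ⟨V, hV⟩).comap (e : K ⊗[k] A →+* B)
  haveI : IsNoetherianRing (K ⊗[k] A) := by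
    haveI : Algebra.FiniteType K (K ⊗[k] A) := inferInstance
    exact Algebra.FiniteType.isNoetherianRing K _
  -- stability under the automorphisms
  have hstab : ∀ s : K ≃ₐ[k] K, ∀ f ∈ I, Algebra.TensorProduct.map s.toAlgHom (AlgHom.id k A) f ∈ I := by
    intro s f hf
    let τ := Twist.τ s.symm G
    have hVle : V ≤ τ ⁻¹ᵁ V := by
      show V ≤ τ ⁻¹ᵁ (πG ⁻¹ᵁ U.1)
      rw [← Scheme.Hom.comp_preimage, Twist.τ_fst]
    let g := Algebra.TensorProduct.map s.toAlgHom (AlgHom.id k A) f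
    have hcomp : (τ.appLE V V hVle).hom (e g) = e f := by
      have : (τ.appLE V V hVle).hom.comp ((e : K ⊗[k] A →+* B).comp
          (Algebra.TensorProduct.map s.toAlgHom (AlgHom.id k A)).toRingHom) = (e : K ⊗[k] A →+* B) := by
        refine Algebra.TensorProduct.ringHom_ext (RingHom.ext fun c => ?_) (RingHom.ext fun a => ?_)
        · show (τ.appLE V V hVle).hom (e (Algebra.TensorProduct.map s.toAlgHom (AlgHom.id k A) (c ⊗ₜ[k] (1 : A)))) =
            e (c ⊗ₜ[k] (1 : A))
          rw [Algebra.TensorProduct.map_tmul, map_one]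
          refine (congrArg (τ.appLE V V hVle).hom (he1 (s c))).trans (Eq.trans ?_ (he1 c).symm)
          show ((Scheme.ΓSpecIso (CommRingCat.of K)).inv ≫
            (pullback.snd G.hom (GeomTate.σ k K)).appLE ⊤ V le_top ≫ τ.appLE V V hVle).hom (s c) = κ.hom c
          rw [Scheme.Hom.appLE_comp_appLE]
          simp only [τ, Twist.τ_snd]
          rw [← Scheme.Hom.appLE_comp_appLE (pullback.snd G.hom (GeomTate.σ k K)) (Twist.sMap s.symm) ⊤ ⊤ V
            le_top le_top, ← Category.assoc]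
          have h0 : (Twist.sMap s.symm).appTop = (Twist.sMap s.symm).appLE ⊤ ⊤ le_top := Scheme.Hom.app_eq_appLE _
          rw [← h0]
          erw [← Scheme.ΓSpecIso_inv_naturality s.symm.toRingEquiv.toCommRingCatIso.hom]
          show κ.hom (s.symm (s c)) = κ.hom c
          rw [AlgEquiv.symm_apply_apply]
        · show (τ.appLE V V hVle).hom (e (Algebra.TensorProduct.map s.toAlgHom (AlgHom.id k A) ((1 : K) ⊗ₜ[k] a))) =
            e ((1 : K) ⊗ₜ[k] a)
          rw [Algebra.TensorProduct.map_tmul, map_one]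
          refine (congrArg (τ.appLE V V hVle).hom (he2 a)).trans (Eq.trans ?_ (he2 a).symm)
          show ((πG).app U.1 ≫ τ.appLE V V hVle).hom a = ((πG).app U.1).hom a
          rw [Scheme.Hom.app_eq_appLE, Scheme.Hom.appLE_comp_appLE]
          simp only [τ, Twist.τ_fst]
          rfl
      exact DFunLike.congr_fun this f
    have h2 : (τ.appLE V V hVle).hom (e g) ∈ l.left.ker.ideal ⟨V, hV⟩ := by rw [hcomp]; exact hf
    have hτV : τ ⁻¹ᵁ V = V := by
      show τ ⁻¹ᵁ (πG ⁻¹ᵁ U.1) = V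
      rw [← Scheme.Hom.comp_preimage, Twist.τ_fst]
    have h3 : e g ∈ (l.left ≫ τ).ker.ideal ⟨V, hV⟩ := mem_ker_comp l.left τ ⟨V, hV⟩ hτV (e g) h2
    exact hst s.symm ⟨V, hV⟩ h3
  obtain ⟨n₀, hn⟩ := FixedDescent.exists_pow_mem_contracted q I (IsNoetherian.noetherian I) hstab
  refine ⟨n₀, fun n hn' f hf => ?_⟩
  have hf' : e.symm f ∈ I := Ideal.mem_comap.2 (by
    show e (e.symm f) ∈ l.left.ker.ideal ⟨V, hV⟩
    rw [e.apply_symm_apply]; exact hf)
  have hm := Ideal.mem_map_of_mem (e : K ⊗[k] A →+* B) (hn n hn' _ hf')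
  rw [map_pow, show (e : K ⊗[k] A →+* B) (e.symm f) = f from e.apply_symm_apply f] at hm
  erw [Ideal.map_map] at hm
  rw [show (e : K ⊗[k] A →+* B).comp
    (Algebra.TensorProduct.includeRight : A →ₐ[k] K ⊗[k] A).toRingHom = π'.hom from RingHom.ext he2] at hm
  refine Ideal.map_mono (fun a ha => ?_) hm
  rw [Ideal.mem_comap] at ha ⊢
  have h2 := Ideal.mem_map_of_mem (e : K ⊗[k] A →+* B) ha
  rw [show (e : K ⊗[k] A →+* B) _ = π'.hom a from he2 a] at h2
  refine Ideal.map_le_iff_le_comap.2 (Ideal.span_le.2 ?_) h2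
  rintro _ ⟨g, hg, rfl⟩
  exact Ideal.subset_span ⟨e g, hg, (map_pow (e : K ⊗[k] A →+* B) g _).symm⟩

/-- Membership in the Frobenius preimage of a subscheme. -/
def Mem {m : ℕ} (P : PowEnd K m) {L H T : Over (Spec (CommRingCat.of K))} (l : L ⟶ H) (x : T ⟶ H) : Prop :=
  ∃ z : Over.mk (P.Φ T ≫ T.hom) ⟶ L,
    z ≫ l = (Over.homMk (P.Φ T) rfl : Over.mk (P.Φ T ≫ T.hom) ⟶ T) ≫ x

section Mem

variable {m : ℕ} (P : PowEnd K m) {L H T : Over (Spec (CommRingCat.of K))} [GrpObj L] [GrpObj H] (l : L ⟶ H) [IsMonHom l]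

theorem mem_one : Mem P l (1 : T ⟶ H) := ⟨1, by rw [MonObj.one_comp, MonObj.comp_one]⟩

theorem mem_mul {x y : T ⟶ H} (hx : Mem P l x) (hy : Mem P l y) : Mem P l (x * y) := by
  obtain ⟨z, hz⟩ := hx
  obtain ⟨w, hw⟩ := hy
  exact ⟨z * w, by rw [MonObj.mul_comp, MonObj.comp_mul, hz, hw]⟩

theorem mem_inv {x : T ⟶ H} (hx : Mem P l x) : Mem P l x⁻¹ := by
  obtain ⟨z, hz⟩ := hx
  exact ⟨z⁻¹, by rw [GrpObj.inv_comp, GrpObj.comp_inv, hz]⟩

omit [IsMonHom l] in
theorem mem_conj (hN : AlgGrp.IsNormalHom l) {g x : T ⟶ H} (hx : Mem P l x) : Mem P l (g * x * g⁻¹) := by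
  obtain ⟨z, hz⟩ := hx
  obtain ⟨w, hw⟩ := hN _ ((Over.homMk (P.Φ T) rfl : Over.mk (P.Φ T ≫ T.hom) ⟶ T) ≫ g) z
  exact ⟨w, by rw [MonObj.comp_mul, MonObj.comp_mul, GrpObj.comp_inv, ← hz]; exact hw.symm⟩

end Mem

theorem mem_iff_ker {m : ℕ} (P : PowEnd K m) {L H T : Over (Spec (CommRingCat.of K))} (l : L ⟶ H)
    [IsClosedImmersion l.left] (x : T ⟶ H) :
    Mem P l x ↔ (pullback.fst (P.Φ H) l.left).ker ≤ x.left.ker := by
  constructor
  · rintro ⟨z, hz⟩
    have hz' : z.left ≫ l.left = P.Φ T ≫ x.left := congrArg (·.left) hz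
    have hw : x.left ≫ P.Φ H = z.left ≫ l.left := by rw [hz', P.nat x]
    rw [← pullback.lift_fst x.left z.left hw]
    exact Scheme.Hom.le_ker_comp _ _
  · intro hle
    haveI : IsClosedImmersion (pullback.fst (P.Φ H) l.left) :=
      MorphismProperty.pullback_fst (P := @IsClosedImmersion) _ _ inferInstance
    let y := IsClosedImmersion.lift (pullback.fst (P.Φ H) l.left) x.left hle
    have hy : (y ≫ pullback.snd (P.Φ H) l.left) ≫ l.left = P.Φ T ≫ x.left := by
      rw [P.nat x, Category.assoc, ← pullback.condition, ← Category.assoc, IsClosedImmersion.lift_fac]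
    refine ⟨Over.homMk (y ≫ pullback.snd (P.Φ H) l.left) ?_, Over.OverMorphism.ext hy⟩
    show (y ≫ pullback.snd (P.Φ H) l.left) ≫ L.hom = P.Φ T ≫ T.hom
    rw [← Over.w l, ← Category.assoc, hy, Category.assoc, Over.w x]

/-- A closed subgroup over an algebraic closure which is stable under the automorphisms of the field,
and whose Frobenius preimages are eventually normal, descends up to a power of Frobenius. -/
theorem exists_descended_of_stable [IsAlgClosed K] [Algebra.IsAlgebraic k K] [GrpObj G] [LocallyOfFiniteType G.hom]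
    [QuasiCompact G.hom] (q₀ : ℕ) [ExpChar k q₀] [ExpChar K q₀]
    {L : Over (Spec (CommRingCat.of K))} [GrpObj L] (l : L ⟶ Gbar) [IsMonHom l]
    [IsClosedImmersion l.left] [IsAffine L.left]
    (hst : ∀ s : K ≃ₐ[k] K, (l.left ≫ Twist.τ s G).ker ≤ l.left.ker) (n₁ : ℕ)
    (hconj : ∀ n ≥ n₁, ∀ (P : PowEnd K (q₀ ^ n)) (T : Over (Spec (CommRingCat.of K))) (g x : T ⟶ Gbar),
      Mem P l x → Mem P l (g * x * g⁻¹)) :
    ∃ (N : Over (Spec (CommRingCat.of k))) (_ : GrpObj N) (i : N ⟶ G), IsMonHom i ∧ IsClosedImmersion i.left ∧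
      IsAffine N.left ∧ AlgGrp.IsNormalHom i ∧
      ∃ y : L ⟶ (GeomTate.bc k K).obj N, y ≫ (GeomTate.bc k K).map i = l ∧ Surjective y.left := by
  classical
  haveI := GeomTate.flat_σ k K
  haveI := GeomTate.surjective_σ k K
  haveI : IsAffineHom πG := MorphismProperty.pullback_fst (P := @IsAffineHom) _ _ inferInstance
  -- finitely many charts and a common exponent
  haveI : CompactSpace G.left := QuasiCompact.compactSpace_of_compactSpace G.hom
  obtain ⟨t, ht⟩ := isCompact_univ.elim_finite_subcover (fun U : G.left.affineOpens => (U.1 : Set G.left))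
    (fun U => U.1.2) (fun z _ => by
      obtain ⟨_, ⟨U, hU, rfl⟩, hz, -⟩ := G.left.isBasis_affineOpens.exists_subset_of_mem_open
        (Set.mem_univ z) isOpen_univ
      exact Set.mem_iUnion.2 ⟨⟨U, hU⟩, hz⟩)
  choose hV n₀ hn₀ using fun U : G.left.affineOpens => pow_mem_on_chart q₀ l hst U
  let n := max n₁ (t.sup n₀)
  obtain ⟨P⟩ := exists_powEnd (K := K) q₀ n
  haveI := P.affine Gbar
  haveI := P.surj Gbar
  let c := pullback.fst (P.Φ Gbar) l.left
  haveI : IsClosedImmersion c := MorphismProperty.pullback_fst (P := @IsClosedImmersion) _ _ inferInstance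
  let J := (c ≫ πG).ker
  let N : Over (Spec (CommRingCat.of k)) := Over.mk (J.subschemeι ≫ G.hom)
  let i : N ⟶ G := Over.homMk J.subschemeι rfl
  haveI : IsClosedImmersion i.left := inferInstanceAs (IsClosedImmersion J.subschemeι)
  haveI : Mono i := Over.mono_of_mono_left _
  have hJ : J.comap πG = c.ker := by
    have hJm : J = c.ker.map πG := Scheme.Hom.ker_comp c πG
    refine le_antisymm (by rw [hJm]; exact Scheme.IdealSheafData.comap_map_le _ _) ?_
    have hI : l.left.ker ≤ (J.comap πG).map (P.Φ Gbar) := by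
      refine Scheme.IdealSheafData.le_of_iSup_eq_top (fun U : t => (⟨_, hV U.1⟩ : (Gbar).left.affineOpens)) ?_ ?_
      · refine eq_top_iff.2 fun z _ => ?_
        obtain ⟨U, hU, hzU⟩ := Set.mem_iUnion₂.1 (ht (Set.mem_univ ((πG) z)))
        exact TopologicalSpace.Opens.mem_iSup.2 ⟨⟨U, hU⟩, hzU⟩
      · intro U f hf
        obtain ⟨e, he⟩ := P.app Gbar (πG ⁻¹ᵁ U.1.1)
        have H : IsAffineOpen (P.Φ Gbar ⁻¹ᵁ (πG ⁻¹ᵁ U.1.1)) := e ▸ hV U.1
        rw [Scheme.IdealSheafData.ideal_map _ _ ⟨_, hV U.1⟩ H, Ideal.mem_comap]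
        refine ((J.comap πG).map_ideal (U := ⟨_, H⟩) (V := ⟨_, hV U.1⟩) e.ge).le ?_
        rw [show (P.Φ Gbar).app (πG ⁻¹ᵁ U.1.1) f = (Gbar).left.presheaf.map (homOfLE e.ge).op (f ^ q₀ ^ n) from he f]
        refine Ideal.mem_map_of_mem _ ?_
        have hpow := hn₀ U.1 n ((Finset.le_sup U.2).trans (le_max_right _ _)) f hf
        refine Ideal.map_le_iff_le_comap.2 (fun a ha => ?_) hpow
        have h1 : a ∈ J.ideal U.1 := by
          rw [hJm, Scheme.IdealSheafData.ideal_map _ _ U.1 (hV U.1), Ideal.mem_comap]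
          refine Ideal.span_le.2 ?_ (Ideal.mem_comap.1 ha)
          rintro _ ⟨g, hg, rfl⟩
          have hg' : g ∈ (c.ker.map (P.Φ Gbar)).ideal ⟨_, hV U.1⟩ := by
            refine (Scheme.IdealSheafData.le_map_iff_comap_le.2 ?_ : l.left.ker ≤ c.ker.map (P.Φ Gbar)) _ hg
            rw [← Scheme.IdealSheafData.ker_fst_of_isClosedImmersion]
          rw [Scheme.IdealSheafData.ideal_map _ _ ⟨_, hV U.1⟩ H, Ideal.mem_comap] at hg'
          rw [show (P.Φ Gbar).app (πG ⁻¹ᵁ U.1.1) g = (Gbar).left.presheaf.map (homOfLE e.ge).op (g ^ q₀ ^ n) from he g]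
            at hg'
          have h2 := Ideal.mem_map_of_mem ((Gbar).left.presheaf.map (homOfLE e.le).op).hom hg'
          replace h2 := (c.ker.map_ideal (U := ⟨_, hV U.1⟩) (V := ⟨_, H⟩) e.le).le h2
          have hid2 : (Gbar).left.presheaf.map (homOfLE e.ge).op ≫ (Gbar).left.presheaf.map (homOfLE e.le).op = 𝟙 _ := by
            rw [← Functor.map_comp]
            exact (Gbar).left.presheaf.map_id _
          have h3 := congr($(hid2).hom (g ^ q₀ ^ n))
          rw [CommRingCat.comp_apply, CommRingCat.id_apply] at h3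
          exact h3.subst (motive := fun z => z ∈ c.ker.ideal ⟨_, hV U.1⟩) h2
        have h4 := (Scheme.IdealSheafData.le_map_comap (J := J) (f := πG)) U.1 h1
        rw [Scheme.IdealSheafData.ideal_map _ _ U.1 (hV U.1), Ideal.mem_comap] at h4
        exact h4
    rw [Scheme.IdealSheafData.ker_fst_of_isClosedImmersion]
    exact Scheme.IdealSheafData.le_map_iff_comap_le.1 hI
  -- membership
  let F := GeomTate.bc k K
  have hmem : ∀ {T : Over (Spec (CommRingCat.of k))} (x : T ⟶ G),
      (∃ y : T ⟶ N, y ≫ i = x) ↔ Mem P l (F.map x) := by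
    intro T x
    haveI : Flat T.hom := inferInstance
    haveI : IsSchemeTheoreticallyDominant (GeomTate.σ k K) := by
      haveI : IsDominant (GeomTate.σ k K) := inferInstance
      exact IsSchemeTheoreticallyDominant.of_isDominant _
    haveI : IsSchemeTheoreticallyDominant (pullback.fst T.hom (GeomTate.σ k K)) :=
      IsSchemeTheoreticallyDominant.of_isPullback (IsPullback.of_hasPullback _ _).flip
    have hker : (pullback.fst T.hom (GeomTate.σ k K) ≫ x.left).ker = x.left.ker := by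
      rw [Scheme.Hom.ker_comp, Scheme.Hom.ker_eq_bot, Scheme.IdealSheafData.map_bot]
    have hfst : (F.map x).left ≫ πG = pullback.fst T.hom (GeomTate.σ k K) ≫ x.left := pullback.lift_fst _ _ _
    have hgc : J ≤ x.left.ker ↔ c.ker ≤ (F.map x).left.ker := by
      rw [← hker, ← hfst, Scheme.Hom.ker_comp (F.map x).left πG, Scheme.IdealSheafData.le_map_iff_comap_le, hJ]
    rw [mem_iff_ker, ← hgc]
    constructor
    · rintro ⟨y, rfl⟩
      calc J = i.left.ker := (Scheme.IdealSheafData.ker_subschemeι J).symm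
        _ ≤ (y ≫ i).left.ker := Scheme.Hom.le_ker_comp _ _
    · intro h
      have h' : i.left.ker ≤ x.left.ker := (le_of_eq (Scheme.IdealSheafData.ker_subschemeι J)).trans h
      refine ⟨Over.homMk (IsClosedImmersion.lift i.left x.left h') ?_,
        Over.OverMorphism.ext (IsClosedImmersion.lift_fac _ _ _)⟩
      rw [← Over.w i, IsClosedImmersion.lift_fac_assoc, Over.w x]
  have hFmul : ∀ {T : Over (Spec (CommRingCat.of k))} (a b : T ⟶ G), F.map (a * b) = F.map a * F.map b :=
    fun a b => map_mul (Functor.homMonoidHom F) a b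
  have hFone : ∀ {T : Over (Spec (CommRingCat.of k))}, F.map (1 : T ⟶ G) = 1 :=
    map_one (Functor.homMonoidHom F)
  have hFinv : ∀ {T : Over (Spec (CommRingCat.of k))} (a : T ⟶ G), F.map a⁻¹ = (F.map a)⁻¹ := fun {T} a =>
    eq_inv_of_mul_eq_one_left (by rw [← hFmul, inv_mul_cancel, hFone])
  have hone : (1 : 𝟙_ _ ⟶ G) = η[G] := by
    rw [Hom.one_def, toUnit_unique (toUnit _) (𝟙 _), Category.id_comp]
  have hid : ∀ {T : Over (Spec (CommRingCat.of k))} (y : T ⟶ N), Mem P l (F.map (y ≫ i)) :=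
    fun y => (hmem _).1 ⟨y, rfl⟩
  obtain ⟨e₀, he₀⟩ := (hmem (1 : 𝟙_ _ ⟶ G)).2 (by rw [hFone]; exact mem_one P l)
  obtain ⟨m₀, hm₀⟩ := (hmem ((fst N N ≫ i) * (snd N N ≫ i))).2 (by
    rw [hFmul]; exact mem_mul P l (hid _) (hid _))
  obtain ⟨i₀, hi₀⟩ := (hmem (𝟙 N ≫ i)⁻¹).2 (by rw [hFinv]; exact mem_inv P l (hid _))
  obtain ⟨gN, hi⟩ := H19Grp.exists_grpObj_of_mono G i e₀ (he₀.trans hone) m₀
    (hm₀.trans (by rw [Hom.mul_def, lift_fst_comp_snd_comp])) i₀
    (hi₀.trans (by rw [Category.id_comp, Hom.inv_def]))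
  haveI := hi
  refine ⟨N, gN, i, hi, inferInstance, ?_, fun T g x => ?_, ?_⟩
  · -- affine
    haveI : IsAffineHom (pullback.snd (P.Φ Gbar) l.left) :=
      MorphismProperty.pullback_snd (P := @IsAffineHom) _ _ inferInstance
    haveI : IsAffine (pullback (P.Φ Gbar) l.left) := isAffine_of_isAffineHom (pullback.snd (P.Φ Gbar) l.left)
    let w : pullback (P.Φ Gbar) l.left ⟶ N.left := IsClosedImmersion.lift i.left (c ≫ πG)
      (le_of_eq (Scheme.IdealSheafData.ker_subschemeι J))
    have hw : w ≫ i.left = c ≫ πG := IsClosedImmersion.lift_fac _ _ _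
    have sq : IsPullback c w πG i.left :=
      isPullback_of_isClosedImmersion c i.left w πG hw.symm
        (by rw [show i.left.ker = J from Scheme.IdealSheafData.ker_subschemeι J]; exact hJ)
    have sq2 := sq.flip.paste_vert (IsPullback.of_hasPullback G.hom (GeomTate.σ k K))
    haveI : IsAffine (pullback N.hom (GeomTate.σ k K)) := IsAffine.of_isIso sq2.isoPullback.inv
    haveI : IsAffineHom (pullback.snd N.hom (GeomTate.σ k K)) := inferInstance
    haveI : IsAffineHom N.hom := MorphismProperty.of_pullback_snd_of_descendsAlong (P := @IsAffineHom)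
      (Q := H18Descent.fpqc) (g := GeomTate.σ k K) ⟨⟨inferInstance, inferInstance⟩, inferInstance⟩
      ‹IsAffineHom (pullback.snd N.hom (GeomTate.σ k K))›
    exact isAffine_of_isAffineHom N.hom
  · obtain ⟨z, hz⟩ := (hmem (g * (x ≫ i) * g⁻¹)).2 (by
      rw [hFmul, hFmul, hFinv]; exact hconj n (le_max_left _ _) P _ _ _ (hid x))
    exact ⟨z, hz.symm⟩
  · let u : L.left ⟶ pullback (P.Φ Gbar) l.left := pullback.lift l.left (P.Φ L) (P.nat l).symm
    have hu : u ≫ c = l.left := pullback.lift_fst _ _ _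
    let w : pullback (P.Φ Gbar) l.left ⟶ N.left := IsClosedImmersion.lift i.left (c ≫ πG)
      (le_of_eq (Scheme.IdealSheafData.ker_subschemeι J))
    have hw : w ≫ i.left = c ≫ πG := IsClosedImmersion.lift_fac _ _ _
    have sq : IsPullback c w πG i.left :=
      isPullback_of_isClosedImmersion c i.left w πG hw.symm
        (by rw [show i.left.ker = J from Scheme.IdealSheafData.ker_subschemeι J]; exact hJ)
    have sq2 := sq.flip.paste_vert (IsPullback.of_hasPullback G.hom (GeomTate.σ k K))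
    have he : sq2.isoPullback.hom ≫ ((GeomTate.bc k K).map i).left = c := by
      apply pullback.hom_ext
      · rw [Category.assoc, ← hw]
        erw [pullback.lift_fst]
        erw [← Category.assoc, sq2.isoPullback_hom_fst]
      · rw [Category.assoc]
        erw [pullback.lift_snd]
        erw [sq2.isoPullback_hom_snd]
    let y : L ⟶ (GeomTate.bc k K).obj N := Over.homMk (u ≫ sq2.isoPullback.hom) (by
      show (u ≫ sq2.isoPullback.hom) ≫ pullback.snd N.hom (GeomTate.σ k K) = L.hom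
      erw [Category.assoc, sq2.isoPullback_hom_snd, ← Category.assoc, hu]
      exact Over.w l)
    refine ⟨y, Over.OverMorphism.ext ?_, ?_⟩
    · show (u ≫ sq2.isoPullback.hom) ≫ ((GeomTate.bc k K).map i).left = l.left
      rw [Category.assoc, he, hu]
    · haveI : Surjective u := ⟨fun v => by
        obtain ⟨z, hz⟩ := (P.surj L).surj (pullback.snd (P.Φ Gbar) l.left v)
        refine ⟨z, c.isClosedEmbedding.injective (P.inj Gbar ?_)⟩
        rw [← Scheme.Hom.comp_apply u c, hu, ← Scheme.Hom.comp_apply l.left (P.Φ Gbar), ← P.nat l,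
          Scheme.Hom.comp_apply, hz, ← Scheme.Hom.comp_apply, ← Scheme.Hom.comp_apply, pullback.condition]⟩
      show Surjective (u ≫ sq2.isoPullback.hom)
      infer_instance

/-- A smooth connected group has a normal affine subgroup, defined over the base field, which contains
the affine part of the structure theorem over an algebraic closure, on the same points. -/
theorem exists_descended [IsAlgClosed K] [Algebra.IsAlgebraic k K] [GrpObj G] [Smooth G.hom] [QuasiCompact G.hom]
    {L Q : Over (Spec (CommRingCat.of K))} [GrpObj L] [GrpObj Q] (l : L ⟶ Gbar) [IsMonHom l]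
    [IsClosedImmersion l.left] [IsAffine L.left] [Smooth L.hom] [ConnectedSpace L.left]
    (hn : AlgGrp.IsNormalHom l) (q : Gbar ⟶ Q) [IsMonHom q] [IsProper Q.hom] (hk : AlgGrp.IsKernel l q) :
    ∃ (N : Over (Spec (CommRingCat.of k))) (_ : GrpObj N) (i : N ⟶ G), IsMonHom i ∧ IsClosedImmersion i.left ∧
      IsAffine N.left ∧ AlgGrp.IsNormalHom i ∧
      ∃ y : L ⟶ (GeomTate.bc k K).obj N, y ≫ (GeomTate.bc k K).map i = l ∧ Surjective y.left := by
  obtain ⟨q₀, hq₀⟩ : ∃ q₀ : ℕ, ExpChar k q₀ := ExpChar.exists k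
  haveI : ExpChar K q₀ := expChar_of_injective_ringHom (algebraMap k K).injective q₀
  refine exists_descended_of_stable q₀ l (fun s => ?_) 0 fun n _ P T g x hx => mem_conj P l hn hx
  obtain ⟨f, hf⟩ := Twist.exists_twist s l q hk
  refine (Scheme.Hom.le_ker_comp f _).trans (le_of_eq ?_)
  rw [hf]

end Groth.Agent.H19Chev.FrobDescent
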