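import Groth.Agent.H19Chev.UnirationalAffine
import Groth.Agent.H19Grp.SmoothLocus

/-!
# The affine subgroup generated by a unirational family
-/

set_option autoImplicit false
set_option linter.style.haveILetI false
set_option backward.isDefEq.respectTransparency false
set_option maxHeartbeats 1000000
set_option synthInstance.maxHeartbeats 100000
universe u

open CategoryTheory CategoryTheory.Limits MonoidalCategory CartesianMonoidalCategory MonObj AlgebraicGeometry
open Groth.Agent Groth.Agent.H25AbCube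

noncomputable section

namespace Groth.Agent.H19Chev

variable {k : Type u} [Field k] [IsAlgClosed k]

local notation "Pts" X => 𝟙_ (Over (Spec (CommRingCat.of k))) ⟶ X

omit [IsAlgClosed k] in
/-- The morphism of affine spaces of a renaming of coordinates. -/
def affMap {m n : ℕ} (σ : Fin m → Fin n) : aff k n ⟶ aff k m :=
  Over.homMk (Spec.map (CommRingCat.ofHom (MvPolynomial.rename (R := k) σ).toRingHom)) (by
    show Spec.map _ ≫ Spec.map _ = Spec.map _
    rw [← Spec.map_comp, ← CommRingCat.ofHom_comp]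
    exact congrArg (fun g => Spec.map (CommRingCat.ofHom g)) (MvPolynomial.rename (R := k) σ).comp_algebraMap)

omit [IsAlgClosed k] in
/-- Points of affine space are given by coordinates. -/
theorem exists_coords {m : ℕ} (a : Pts (aff k m)) :
    ∃ x : Fin m → k, a.left = Spec.map (CommRingCat.ofHom (MvPolynomial.aeval (R := k) x).toRingHom) := by
  let ψ := Spec.preimage a.left
  have hψ : Spec.map ψ = a.left := Spec.map_preimage _
  refine ⟨fun i => ψ (MvPolynomial.X i), ?_⟩
  rw [← hψ]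
  congr 1
  ext1
  refine MvPolynomial.ringHom_ext (fun c => ?_) fun i => ?_
  · have h := Over.w a
    rw [← hψ] at h
    change Spec.map ψ ≫ Spec.map _ = 𝟙 _ at h
    rw [← Spec.map_comp, ← Spec.map_id] at h
    show ψ.hom _ = MvPolynomial.aeval (R := k) (fun i => ψ (MvPolynomial.X i)) (MvPolynomial.C c)
    rw [MvPolynomial.aeval_C]
    exact congr($(Spec.map_injective h) c)
  · exact (MvPolynomial.aeval_X (R := k) (fun i => ψ (MvPolynomial.X i)) i).symm

omit [IsAlgClosed k] in
/-- The product of two cells as a cell. -/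
theorem exists_cell_prod {m n : ℕ} (V : (aff k m).left.Opens) (W : (aff k n).left.Opens) :
    ∃ (U : (aff k (m + n)).left.Opens) (p : cell U ⟶ cell V) (q : cell U ⟶ cell W),
      ∀ (a : Pts (cell V)) (b : Pts (cell W)), ∃ c : Pts (cell U), c ≫ p = a ∧ c ≫ q = b := by
  let P := affMap (k := k) (Fin.castAdd n : Fin m → Fin (m + n))
  let Q := affMap (k := k) (Fin.natAdd m : Fin n → Fin (m + n))
  let U : (aff k (m + n)).left.Opens := P.left ⁻¹ᵁ V ⊓ Q.left ⁻¹ᵁ W
  have hP : Set.range (U.ι ≫ P.left) ⊆ Set.range V.ι := by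
    rintro _ ⟨x, rfl⟩
    rw [Scheme.Opens.range_ι]
    exact x.2.1
  have hQ : Set.range (U.ι ≫ Q.left) ⊆ Set.range W.ι := by
    rintro _ ⟨x, rfl⟩
    rw [Scheme.Opens.range_ι]
    exact x.2.2
  let p : cell U ⟶ cell V := Over.homMk (IsOpenImmersion.lift V.ι (U.ι ≫ P.left) hP) (by
    show _ ≫ V.ι ≫ _ = U.ι ≫ _
    rw [IsOpenImmersion.lift_fac_assoc, Category.assoc, Over.w P])
  let q : cell U ⟶ cell W := Over.homMk (IsOpenImmersion.lift W.ι (U.ι ≫ Q.left) hQ) (by
    show _ ≫ W.ι ≫ _ = U.ι ≫ _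
    rw [IsOpenImmersion.lift_fac_assoc, Category.assoc, Over.w Q])
  refine ⟨U, p, q, fun a b => ?_⟩
  let iV : cell V ⟶ aff k m := Over.homMk V.ι rfl
  let iW : cell W ⟶ aff k n := Over.homMk W.ι rfl
  obtain ⟨x, hx⟩ := exists_coords (a ≫ iV)
  obtain ⟨y, hy⟩ := exists_coords (b ≫ iW)
  let z : Fin (m + n) → k := Fin.addCases x y
  let c' : Pts (aff k (m + n)) := Over.homMk (Spec.map (CommRingCat.ofHom (MvPolynomial.aeval (R := k) z).toRingHom)) (by
    show Spec.map _ ≫ Spec.map _ = 𝟙 _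
    rw [← Spec.map_comp, ← CommRingCat.ofHom_comp, ← Spec.map_id]
    exact congrArg (fun g => Spec.map (CommRingCat.ofHom g)) (MvPolynomial.aeval (R := k) z).comp_algebraMap)
  have hcP : c' ≫ P = a ≫ iV := Over.OverMorphism.ext (by
    rw [hx]
    show Spec.map _ ≫ Spec.map _ = _
    rw [← Spec.map_comp, ← CommRingCat.ofHom_comp]
    refine congrArg (fun g => Spec.map (CommRingCat.ofHom g)) (MvPolynomial.ringHom_ext (fun r => ?_) fun i => ?_)
    · simp
    · simp [z])
  have hcQ : c' ≫ Q = b ≫ iW := Over.OverMorphism.ext (by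
    rw [hy]
    show Spec.map _ ≫ Spec.map _ = _
    rw [← Spec.map_comp, ← CommRingCat.ofHom_comp]
    refine congrArg (fun g => Spec.map (CommRingCat.ofHom g)) (MvPolynomial.ringHom_ext (fun r => ?_) fun i => ?_)
    · simp
    · simp [z])
  have hU : Set.range c'.left ⊆ Set.range U.ι := by
    rintro _ ⟨t, rfl⟩
    rw [Scheme.Opens.range_ι]
    refine ⟨?_, ?_⟩
    · show P.left (c'.left t) ∈ V
      rw [← Scheme.Hom.comp_apply, ← Over.comp_left, hcP]
      exact (a.left t).2
    · show Q.left (c'.left t) ∈ W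
      rw [← Scheme.Hom.comp_apply, ← Over.comp_left, hcQ]
      exact (b.left t).2
  let c : Pts (cell U) := Over.homMk (IsOpenImmersion.lift U.ι c'.left hU) (by
    show _ ≫ U.ι ≫ _ = _
    rw [IsOpenImmersion.lift_fac_assoc]
    exact Over.w c')
  refine ⟨c, Over.OverMorphism.ext ((cancel_mono V.ι).1 ?_), Over.OverMorphism.ext ((cancel_mono W.ι).1 ?_)⟩
  · show (IsOpenImmersion.lift U.ι c'.left hU ≫ IsOpenImmersion.lift V.ι (U.ι ≫ P.left) hP) ≫ V.ι = a.left ≫ V.ι
    rw [Category.assoc, IsOpenImmersion.lift_fac, IsOpenImmersion.lift_fac_assoc]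
    exact congrArg CommaMorphism.left hcP
  · show (IsOpenImmersion.lift U.ι c'.left hU ≫ IsOpenImmersion.lift W.ι (U.ι ≫ Q.left) hQ) ≫ W.ι = b.left ≫ W.ι
    rw [Category.assoc, IsOpenImmersion.lift_fac, IsOpenImmersion.lift_fac_assoc]
    exact congrArg CommaMorphism.left hcQ

variable {G : Over (Spec (CommRingCat.of k))} [GrpObj G]

/-- A closed set of which the rational points form a subgroup underlies a subgroup. -/
theorem exists_subgroup_of_closed [LocallyOfFiniteType G.hom] (Z : Set G.left) (hZ : IsClosed Z)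
    (hirr : IsIrreducible Z) (h1 : Stab.pnt (1 : Pts G) ∈ Z)
    (hmul : ∀ a b : Pts G, Stab.pnt a ∈ Z → Stab.pnt b ∈ Z → Stab.pnt (a * b) ∈ Z)
    (hinv : ∀ a : Pts G, Stab.pnt a ∈ Z → Stab.pnt a⁻¹ ∈ Z) :
    ∃ (B : Over (Spec (CommRingCat.of k))) (_ : GrpObj B) (i : B ⟶ G), IsMonHom i ∧ IsClosedImmersion i.left ∧
      IsIntegral B.left ∧ GeometricallyIntegral B.hom ∧ Set.range i.left = Z := by
  obtain ⟨N, n, hn, hint, hgi, hrange⟩ := Stab.exists_closed_sub Z hZ hirr
  haveI := hn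
  haveI := hgi
  haveI : Mono n := (Over.forget _).mono_of_mono_map (inferInstanceAs (Mono n.left))
  haveI : LocallyOfFiniteType N.hom := by rw [← Over.w n]; infer_instance
  haveI := hint
  haveI : LocallyOfFiniteType (N ⊗ N).hom := by
    rw [Over.tensorObj_hom]
    haveI : LocallyOfFiniteType (pullback.fst N.hom N.hom) :=
      MorphismProperty.pullback_fst (P := @LocallyOfFiniteType) _ _ inferInstance
    infer_instance
  haveI : LocallyOfFiniteType (𝟙_ (Over (Spec (CommRingCat.of k)))).hom :=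
    inferInstanceAs (LocallyOfFiniteType (𝟙 _))
  haveI : IsReduced (𝟙_ (Over (Spec (CommRingCat.of k)))).left :=
    inferInstanceAs (IsReduced (Spec (CommRingCat.of k)))
  haveI : IsLocallyNoetherian (N ⊗ N).left := LocallyOfFiniteType.isLocallyNoetherian (N ⊗ N).hom
  haveI : IsIntegral (N ⊗ N).left := GeometricallyIntegral.isIntegral_of_subsingleton (N ⊗ N).hom
  have hmem : ∀ t : Pts N, Stab.pnt (t ≫ n) ∈ Z := fun t => hrange.le ⟨_, rfl⟩
  obtain ⟨e, he⟩ := Stab.exists_factor_of_points (T := 𝟙_ (Over (Spec (CommRingCat.of k)))) n 1 fun t => by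
    rw [MonObj.comp_one, hrange]; exact h1
  obtain ⟨m, hm⟩ := Stab.exists_factor_of_points n ((fst N N ≫ n) * (snd N N ≫ n)) fun t => by
    rw [MonObj.comp_mul, hrange, ← Category.assoc, ← Category.assoc]
    exact hmul _ _ (hmem _) (hmem _)
  obtain ⟨j, hj⟩ := Stab.exists_factor_of_points n n⁻¹ fun t => by
    rw [GrpObj.comp_inv, hrange]
    exact hinv _ (hmem _)
  obtain ⟨inst, hi⟩ := H19Grp.exists_grpObj_of_closed n ⟨e, he⟩
    (fun T a b => ⟨lift a b ≫ m, by
      rw [Category.assoc, hm, MonObj.comp_mul, lift_fst_assoc, lift_snd_assoc]⟩)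
    (fun T a => ⟨a ≫ j, by rw [Category.assoc, hj, GrpObj.comp_inv]⟩)
  exact ⟨N, inst, n, hi, hn, hint, hgi, hrange⟩

/-- A unirational family through the origin lies in a connected affine subgroup. -/
theorem exists_affine_subgroup [LocallyOfFiniteType G.hom] [QuasiCompact G.hom] {m : ℕ}
    (V : (aff k m).left.Opens) (π : cell V ⟶ G) (v₀ : Pts (cell V)) (hv₀ : v₀ ≫ π = 1) :
    ∃ (B : Over (Spec (CommRingCat.of k))) (_ : GrpObj B) (i : B ⟶ G), IsMonHom i ∧ IsClosedImmersion i.left ∧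
      IsIntegral B.left ∧ Smooth B.hom ∧ IsAffine B.left ∧ ∃ π' : cell V ⟶ B, π' ≫ i = π := by
  haveI : JacobsonSpace G.left := LocallyOfFiniteType.jacobsonSpace G.hom
  haveI : Nonempty G.left := ⟨Stab.pnt (1 : Pts G)⟩
  let P : Set G.left → Prop := fun Z => ∃ (n : ℕ) (U : (aff k n).left.Opens) (f : cell U ⟶ G),
    (∃ t : Pts (cell U), t ≫ f = 1) ∧ closure (Set.range f.left) = Z
  have hirr : ∀ Z, P Z → IsIrreducible Z := by
    rintro _ ⟨n, U, f, ⟨t, -⟩, rfl⟩
    haveI : Nonempty U := ⟨t.left (IsLocalRing.closedPoint k)⟩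
    haveI := geometricallyIntegral_cell U
    haveI : IsIntegral (cell U).left := GeometricallyIntegral.isIntegral_of_subsingleton (cell U).hom
    exact ((Set.image_univ (f := f.left)) ▸
      (IrreducibleSpace.isIrreducible_univ (cell U).left).image f.left f.left.continuous.continuousOn).closure
  -- combining two families
  have hmk : ∀ (n : ℕ) (U : (aff k n).left.Opens) (f : cell U ⟶ G) (t₀ : Pts (cell U)) (n' : ℕ)
      (U' : (aff k n').left.Opens) (g : cell U' ⟶ G) (s₀ : Pts (cell U')), t₀ ≫ f = 1 → s₀ ≫ g = 1 →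
      ∃ Z, P Z ∧ closure (Set.range f.left) ⊆ Z ∧
        ∀ (t : Pts (cell U)) (s : Pts (cell U')), Stab.pnt ((t ≫ f) * (s ≫ g)⁻¹) ∈ Z := by
    intro n U f t₀ n' U' g s₀ ht₀ hs₀
    obtain ⟨W, p, q, hpq⟩ := exists_cell_prod U U'
    let d : cell W ⟶ G := (p ≫ f) * (q ≫ g)⁻¹
    have hd : ∀ c : Pts (cell W), c ≫ d = ((c ≫ p) ≫ f) * ((c ≫ q) ≫ g)⁻¹ := fun c => by
      rw [MonObj.comp_mul, GrpObj.comp_inv, Category.assoc, Category.assoc]
    have hpts : ∀ (t : Pts (cell U)) (s : Pts (cell U')),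
        Stab.pnt ((t ≫ f) * (s ≫ g)⁻¹) ∈ closure (Set.range d.left) := fun t s => by
      obtain ⟨c, hcp, hcq⟩ := hpq t s
      exact subset_closure ⟨Stab.pnt c, congrArg Stab.pnt (show c ≫ d = _ by rw [hd, hcp, hcq])⟩
    refine ⟨_, ⟨_, W, d, ?_, rfl⟩, ?_, hpts⟩
    · obtain ⟨c, hcp, hcq⟩ := hpq t₀ s₀
      exact ⟨c, by rw [hd, hcp, hcq, ht₀, hs₀, inv_one, _root_.mul_one]⟩
    · refine closure_minimal ?_ isClosed_closure
      rintro _ ⟨x, rfl⟩
      by_contra hx
      haveI : JacobsonSpace (cell U).left := LocallyOfFiniteType.jacobsonSpace (cell U).hom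
      obtain ⟨z, hz, hzc⟩ := nonempty_inter_closedPoints (Z := f.left ⁻¹' (closure (Set.range d.left))ᶜ)
        (X := (cell U).left) ⟨x, hx⟩ (isClosed_closure.isOpen_compl.preimage f.left.continuous).isLocallyClosed
      obtain ⟨t, rfl⟩ := Stab.exists_pnt hzc
      have := hpts t s₀
      rw [hs₀, inv_one, _root_.mul_one] at this
      exact hz this
  -- a maximal family
  obtain ⟨Z, hZ, hmax⟩ : ∃ Z, P Z ∧ ∀ Z', P Z' → Z ⊆ Z' → Z' = Z := by
    obtain ⟨z₀, -, hdim⟩ := H22Alg.FibreCount.exists_dim_eq G.hom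
    obtain ⟨d, hd⟩ := H22Alg.FibreCount.cdim_natCast G.hom z₀
    let S : Set ℕ := {l | ∃ C : TopologicalSpace.IrreducibleCloseds G.left, P C ∧ Order.height C = l}
    have hh : ∀ C : TopologicalSpace.IrreducibleCloseds G.left, ∃ l : ℕ, l ≤ d ∧ Order.height C = l := fun C => by
      have h := (Order.height_le_krullDim C).trans_eq ((show Order.krullDim (TopologicalSpace.IrreducibleCloseds
        G.left) = topologicalKrullDim G.left from rfl).trans (hdim.trans hd))
      obtain ⟨l, hl⟩ : ∃ l : ℕ, Order.height C = l := by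
        refine ⟨(Order.height C).toNat, (ENat.coe_toNat fun htop => ?_).symm⟩
        rw [htop] at h
        exact (ENat.coe_lt_top d).not_ge (WithBot.coe_le_coe.1 h)
      rw [hl] at h
      exact ⟨l, by exact_mod_cast h, hl⟩
    have hic : ∀ Z, P Z → ∃ C : TopologicalSpace.IrreducibleCloseds G.left, (C : Set G.left) = Z := fun Z hZ => by
      obtain ⟨n, U, f, -, rfl⟩ := id hZ
      exact ⟨⟨_, hirr _ hZ, isClosed_closure⟩, rfl⟩
    obtain ⟨C₀, hC₀⟩ := hic _ ⟨m, V, π, ⟨v₀, hv₀⟩, rfl⟩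
    have hS : S.Nonempty := by
      obtain ⟨l, -, hl⟩ := hh C₀
      exact ⟨l, C₀, hC₀ ▸ ⟨m, V, π, ⟨v₀, hv₀⟩, rfl⟩, hl⟩
    have hSb : BddAbove S := ⟨d, by
      rintro l ⟨C, -, hC⟩
      obtain ⟨l', hl', hl''⟩ := hh C
      rw [hC] at hl''
      exact (show l = l' by exact_mod_cast hl'') ▸ hl'⟩
    obtain ⟨C, hC, hCl⟩ := Nat.sSup_mem hS hSb
    refine ⟨C, hC, fun Z' hZ' hle => ?_⟩
    obtain ⟨C', rfl⟩ := hic Z' hZ'
    by_contra hne
    obtain ⟨l', hl', hl''⟩ := hh C'
    have hlt := Order.height_strictMono (lt_of_le_of_ne (show C ≤ C' from hle) fun e => hne (e ▸ rfl))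
      (by rw [hCl]; exact ENat.coe_lt_top _)
    rw [hCl, hl''] at hlt
    exact absurd (le_csSup hSb ⟨C', hZ', hl''⟩) (not_le.2 (by exact_mod_cast hlt))
  have hZirr := hirr Z hZ
  obtain ⟨n, U, f, ⟨t₀, ht₀⟩, rfl⟩ := id hZ
  haveI : JacobsonSpace (cell U).left := LocallyOfFiniteType.jacobsonSpace (cell U).hom
  haveI : JacobsonSpace (cell V).left := LocallyOfFiniteType.jacobsonSpace (cell V).hom
  obtain ⟨Z', hZ', hle, hmul⟩ := hmk n U f t₀ n U f t₀ ht₀ ht₀
  rw [hmax Z' hZ' hle] at hmul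
  obtain ⟨Z'', hZ'', hle', hmul'⟩ := hmk n U f t₀ m V π v₀ ht₀ hv₀
  rw [hmax Z'' hZ'' hle'] at hmul'
  -- differences of points of the closure stay inside
  have hext : ∀ (τ : G ⟶ G), (∀ t : Pts (cell U), Stab.pnt ((t ≫ f) ≫ τ) ∈ closure (Set.range f.left)) →
      ∀ a : Pts G, Stab.pnt a ∈ closure (Set.range f.left) → Stab.pnt (a ≫ τ) ∈ closure (Set.range f.left) := by
    intro τ hτ a ha
    have hsub : Set.range f.left ⊆ τ.left ⁻¹' closure (Set.range f.left) := by
      rintro _ ⟨x, rfl⟩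
      by_contra hx
      obtain ⟨z, hz, hzc⟩ := nonempty_inter_closedPoints
        (Z := f.left ⁻¹' (τ.left ⁻¹' closure (Set.range f.left))ᶜ) ⟨x, hx⟩
        ((isClosed_closure.preimage τ.left.continuous).isOpen_compl.preimage f.left.continuous).isLocallyClosed
      obtain ⟨t, rfl⟩ := Stab.exists_pnt hzc
      exact hz (hτ t)
    exact closure_minimal hsub (isClosed_closure.preimage τ.left.continuous) ha
  have hc : ∀ (a c : Pts G), c ≫ (toUnit G ≫ a) = a := fun a c => by
    rw [← Category.assoc, comp_toUnit, toUnit_unique (toUnit (𝟙_ _)) (𝟙 _), Category.id_comp]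
  have hdiv : ∀ a b : Pts G, Stab.pnt a ∈ closure (Set.range f.left) → Stab.pnt b ∈ closure (Set.range f.left) →
      Stab.pnt (a * b⁻¹) ∈ closure (Set.range f.left) := fun a b ha hb => by
    have h1 : ∀ t : Pts (cell U), Stab.pnt ((t ≫ f) * b⁻¹) ∈ closure (Set.range f.left) := fun t => by
      have h := hext ((toUnit G ≫ (t ≫ f)) * (𝟙 G)⁻¹) (fun s => by
        rw [MonObj.comp_mul, GrpObj.comp_inv, hc, Category.comp_id]; exact hmul t s) b hb
      rwa [MonObj.comp_mul, GrpObj.comp_inv, hc, Category.comp_id] at h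
    have h := hext (𝟙 G * (toUnit G ≫ b⁻¹)) (fun t => by
      rw [MonObj.comp_mul, hc, Category.comp_id]; exact h1 t) a ha
    rwa [MonObj.comp_mul, hc, Category.comp_id] at h
  have hone : Stab.pnt (1 : Pts G) ∈ closure (Set.range f.left) :=
    subset_closure ⟨Stab.pnt t₀, congrArg Stab.pnt ht₀⟩
  have hinv : ∀ a : Pts G, Stab.pnt a ∈ closure (Set.range f.left) → Stab.pnt a⁻¹ ∈ closure (Set.range f.left) :=
    fun a ha => by simpa using hdiv 1 a hone ha
  obtain ⟨B, instB, i, hi, hci, hBint, hBgi, hBrange⟩ := exists_subgroup_of_closed _ isClosed_closure hZirr hone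
    (fun a b ha hb => by simpa using hdiv a b⁻¹ ha (hinv b hb)) hinv
  haveI := hci
  haveI := hBint
  haveI : LocallyOfFiniteType B.hom := by rw [← Over.w i]; infer_instance
  haveI : QuasiCompact B.hom := by rw [← Over.w i]; infer_instance
  haveI : Smooth B.hom := H19Grp.smooth_of_isReduced_perfect B
  haveI : Nonempty U := ⟨t₀.left (IsLocalRing.closedPoint k)⟩
  haveI := geometricallyIntegral_cell U
  haveI : IsIntegral (cell U).left := GeometricallyIntegral.isIntegral_of_subsingleton (cell U).hom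
  haveI : Nonempty V := ⟨v₀.left (IsLocalRing.closedPoint k)⟩
  haveI := geometricallyIntegral_cell V
  haveI : IsIntegral (cell V).left := GeometricallyIntegral.isIntegral_of_subsingleton (cell V).hom
  obtain ⟨g, hg⟩ := Stab.exists_factor_of_points i f fun t => hBrange.symm ▸ subset_closure ⟨Stab.pnt t, rfl⟩
  have hdense : DenseRange g.left := by
    refine i.left.isClosedEmbedding.isInducing.dense_iff.2 fun y => ?_
    rw [← Set.range_comp]
    have h : i.left y ∈ closure (Set.range f.left) := hBrange.le ⟨y, rfl⟩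
    rw [← hg] at h
    exact h
  refine ⟨B, instB, i, hi, hci, hBint, inferInstance, isAffine_of_dominant_cell U g hdense,
    Stab.exists_factor_of_points i π fun s => hBrange.symm ▸ ?_⟩
  have h := hinv _ (hmul' t₀ s)
  rwa [ht₀, _root_.one_mul, inv_inv] at h

end Groth.Agent.H19Chev
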