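import Groth.Agent.H19Chev.ProperQuotient
import Groth.Agent.H25AbCube.Ample
import Groth.Agent.H8Props.ProjFieldDescent.Basic
import Groth.Agent.H10Coh.AmpleDevissage
import Groth.Agent.H12Pic.InvDesc.DisjointUnion
import Groth.Agent.H11Ample.ImmersionPn

/-!
# Group schemes of finite type over a field carry ample invertible modules
-/

set_option autoImplicit false
set_option linter.style.haveILetI false
set_option backward.isDefEq.respectTransparency false
set_option maxHeartbeats 1000000
set_option synthInstance.maxHeartbeats 400000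
universe u

open CategoryTheory MonoidalCategory CartesianMonoidalCategory MonObj AlgebraicGeometry CategoryTheory.Limits
open Groth.Agent Groth.Agent.H25AbCube Groth.Agent.H19Quot Groth.Agent.H11Ample

noncomputable section

namespace Groth.Agent.H19Chev

attribute [local instance] Functor.grpObjObj

variable {k : Type u} [Field k]

local notation "Pts" X => 𝟙_ (Over (Spec (CommRingCat.of k))) ⟶ X

/-- A proper scheme covered by finitely many clopen connected pieces with ample modules has one. -/
theorem exists_isAmple_of_clopen_pieces {X : Scheme.{u}} (p : X ⟶ Spec (CommRingCat.of k)) [IsProper p]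
    {J : Type u} (H : J → Scheme.{u}) (f : ∀ i, H i ⟶ X) [∀ i, IsOpenImmersion (f i)] [∀ i, IsClosedImmersion (f i)]
    [∀ i, ConnectedSpace (H i)] (hamp : ∀ i, ∃ L : (H i).Modules, CohB1.IsAmple L)
    (hcov : ∀ x : X, ∃ i, x ∈ Set.range (f i)) : ∃ L : X.Modules, CohB1.IsAmple L := by
  classical
  let κ := {U : X.Opens // ∃ i, (f i).opensRange = U}
  have hcc : ∀ (U : κ) (x : X), x ∈ U.1 → (U.1 : Set X) = connectedComponent x := by
    rintro ⟨_, i, rfl⟩ x hx
    refine Set.Subset.antisymm ?_ (IsClopen.connectedComponent_subset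
      ⟨(f i).isClosedEmbedding.isClosed_range, (f i).isOpenEmbedding.isOpen_range⟩ hx)
    have hpc : _root_.IsPreconnected (Set.range (f i)) :=
      Set.image_univ ▸ isPreconnected_univ.image (f i) (f i).continuous.continuousOn
    exact hpc.subset_connectedComponent hx
  have hdis : ∀ U V : κ, U ≠ V → U.1 ⊓ V.1 = ⊥ := fun U V h => by
    refine TopologicalSpace.Opens.ext (Set.eq_empty_iff_forall_notMem.2 fun x hx => h ?_)
    exact Subtype.ext (TopologicalSpace.Opens.ext ((hcc U x hx.1).trans (hcc V x hx.2).symm))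
  have hcov' : ∀ x, ∃ U : κ, x ∈ U.1 := fun x => by
    obtain ⟨i, hi⟩ := hcov x
    exact ⟨⟨_, i, rfl⟩, hi⟩
  have hL : ∀ U : κ, ∃ L : U.1.toScheme.Modules, CohB1.IsAmple L := by
    rintro ⟨_, i, rfl⟩
    obtain ⟨L, hL⟩ := hamp i
    exact ⟨_, isAmple_pullback_of_isAffineHom (f i).isoOpensRange.inv hL⟩
  choose L hL using hL
  obtain ⟨M, hM, hiso⟩ := H12Pic.InvDesc.Eff.exists_line_of_disjoint (fun U : κ => U.1) hcov' hdis L
    fun U => (hL U).1
  haveI : ∀ U : κ, IsClosedImmersion U.1.ι := by
    rintro ⟨_, i, rfl⟩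
    rw [← MorphismProperty.cancel_left_of_respectsIso @IsClosedImmersion (f i).isoOpensRange.hom,
      Scheme.Hom.isoOpensRange_hom_ι]
    infer_instance
  refine ⟨M, H10Coh.Tw.isAmple_of_closed_cover p hM (fun U : κ => U.1.toScheme) (fun U => U.1.ι) ?_ fun U =>
    isAmple_of_iso (hiso U).some.symm (hL U)⟩
  intro x
  obtain ⟨U, hU⟩ := hcov' x
  exact ⟨U, ⟨x, hU⟩, rfl⟩

/-- A smooth proper group over an algebraically closed field has an ample invertible module. -/
theorem exists_isAmple_smooth_proper [IsAlgClosed k] (R : Over (Spec (CommRingCat.of k))) [GrpObj R]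
    [Smooth R.hom] [IsProper R.hom] : ∃ L : R.left.Modules, CohB1.IsAmple L := by
  classical
  obtain ⟨H, gH, j, hj, hjc, hjo, hHn, hHs, hHq, h1⟩ := exists_smooth_idComp R
  haveI := hj; haveI := hjc; haveI := hjo; haveI := hHn; haveI := hHs; haveI := hHq
  haveI : IsProper H.hom := by rw [← Over.w j]; infer_instance
  haveI := geometricallyIntegral_av H
  haveI : CompactSpace R.left := QuasiCompact.compactSpace_of_compactSpace R.hom
  haveI : JacobsonSpace R.left := LocallyOfFiniteType.jacobsonSpace R.hom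
  obtain ⟨s, hs⟩ := finite_classes j h1
  let t : (Pts R) → (R ⟶ R) := fun g => 𝟙 R * (toUnit R ≫ g)
  have htt : ∀ g h : (Pts R), t g ≫ t h = t (g * h) := fun g h => by
    show t g ≫ (𝟙 R * (toUnit R ≫ h)) = 𝟙 R * (toUnit R ≫ (g * h))
    rw [MonObj.comp_mul, Category.comp_id, ← Category.assoc, comp_toUnit, MonObj.comp_mul, ← _root_.mul_assoc]
  have ht1 : t 1 = 𝟙 R := by
    show 𝟙 R * (toUnit R ≫ (1 : Pts R)) = 𝟙 R
    rw [MonObj.comp_one, _root_.mul_one]
  have hiso : ∀ g : (Pts R), IsIso (t g) := fun g =>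
    ⟨t g⁻¹, by rw [htt, mul_inv_cancel, ht1], by rw [htt, inv_mul_cancel, ht1]⟩
  let f : (g : (s : Set (Pts R))) → H.left ⟶ R.left := fun g => (j ≫ t g.1).left
  haveI : ∀ g, IsOpenImmersion (f g) := fun g => by
    haveI := hiso g.1
    show IsOpenImmersion (j.left ≫ (t g.1).left); infer_instance
  haveI : ∀ g, IsClosedImmersion (f g) := fun g => by
    haveI := hiso g.1
    show IsClosedImmersion (j.left ≫ (t g.1).left); infer_instance
  refine exists_isAmple_of_clopen_pieces R.hom (fun _ => H.left) f (fun _ => H25AbCube.exists_isAmple H) ?_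
  intro x
  by_contra hx
  have hop : IsClosed (⋃ g, Set.range (f g)) :=
    isClosed_iUnion_of_finite fun g => (f g).isClosedEmbedding.isClosed_range
  have hsub : closedPoints R.left ⊆ ⋃ g, Set.range (f g) := fun z hz => by
    obtain ⟨w, rfl⟩ := Stab.exists_pnt hz
    obtain ⟨g, hg, a, ha⟩ := hs w
    refine Set.mem_iUnion.2 ⟨⟨g, hg⟩, Stab.pnt a, ?_⟩
    show (j ≫ t g).left (a.left _) = w.left _
    rw [← Scheme.Hom.comp_apply, ← Over.comp_left, ← Category.assoc, ha,
      show (w * g⁻¹) ≫ t g = (w * g⁻¹) ≫ (𝟙 R * (toUnit R ≫ g)) from rfl, MonObj.comp_mul, Category.comp_id,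
      pts_comp_toUnit, inv_mul_cancel_right]
  have := closure_minimal hsub hop
  rw [closure_closedPoints] at this
  exact hx ((Set.mem_iUnion.1 (this (Set.mem_univ x))).imp fun _ h => h)

/-- A proper group over an algebraically closed field has an ample invertible module. -/
theorem exists_isAmple_proper [IsAlgClosed k] (Q : Over (Spec (CommRingCat.of k))) [GrpObj Q]
    [IsProper Q.hom] : ∃ L : Q.left.Modules, CohB1.IsAmple L := by
  classical
  obtain ⟨q₀, hq₀⟩ : ∃ q₀ : ℕ, ExpChar k q₀ := ExpChar.exists k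
  cases hq₀ with
  | zero =>
    haveI : Smooth Q.hom := H19Grp.smooth_of_charZero Q
    exact exists_isAmple_smooth_proper Q
  | prime hp =>
    haveI : ExpChar k q₀ := ExpChar.prime hp
    obtain ⟨gR, hrr⟩ := H19Grp.GroupCI.exists_grpObj_reduced Q
    let R : Over (Spec (CommRingCat.of k)) := Over.mk (Q.left.nilradical.subschemeι ≫ Q.hom)
    haveI : IsReduced R.left := inferInstanceAs (IsReduced Q.left.nilradical.subscheme)
    haveI : IsProper R.hom := inferInstanceAs (IsProper (Q.left.nilradical.subschemeι ≫ Q.hom))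
    haveI : Smooth R.hom := H19Grp.smooth_of_isReduced_perfect R
    obtain ⟨L, hL⟩ := exists_isAmple_smooth_proper R
    obtain ⟨N, hN⟩ := exists_nilradical_le Q
    obtain ⟨P⟩ := FrobDescent.exists_powEnd (K := k) q₀ N
    have hle : Q.left.nilradical.subschemeι.ker ≤ (P.Φ Q).ker := by
      rw [Scheme.IdealSheafData.ker_subschemeι]
      exact hN _ (Nat.lt_pow_self hp.one_lt).le P
    let φ : Q.left ⟶ R.left := IsClosedImmersion.lift Q.left.nilradical.subschemeι (P.Φ Q) hle
    haveI : IsAffineHom φ := by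
      haveI : IsAffineHom (φ ≫ Q.left.nilradical.subschemeι) := by
        rw [IsClosedImmersion.lift_fac]; exact P.affine Q
      exact IsAffineHom.of_comp φ Q.left.nilradical.subschemeι
    exact ⟨_, isAmple_pullback_of_isAffineHom φ hL⟩

/-- A group scheme of finite type over a field has an ample invertible module. -/
theorem exists_isAmple_grp (G : Over (Spec (CommRingCat.of k))) [GrpObj G] [LocallyOfFiniteType G.hom]
    [QuasiCompact G.hom] : ∃ L : G.left.Modules, CohB1.IsAmple L := by
  obtain ⟨N, gN, i, Q, gQ, q, hi, hic, hNa, hNn, hq, hqs, hqf, hqp, hk, hQp⟩ := exists_affine_proper_quotient G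
  haveI := hi; haveI := hic; haveI := hNa; haveI := hq; haveI := hqs; haveI := hqf; haveI := hqp; haveI := hQp
  have hsq := H19Grp.isPullback_kernel q i hk
  have e : (G ◁ i) ≫ μ[G] = fst G N * (snd G N ≫ i) := by rw [Hom.mul_def]; congr 1
  have hsq' : IsPullback ((G ◁ i) ≫ μ[G]) (fst G N) q q := by rw [e]; exact hsq.flip
  haveI : IsAffineHom N.hom := inferInstance
  haveI : IsAffineHom q.left := descend_proj (P := @IsAffineHom) (hasFpqcSection_of_lfp q) hsq' inferInstance
  let K := AlgebraicClosure k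
  let F := GeomTate.bc k K
  letI : GrpObj (F.obj Q) := Functor.grpObjObj
  haveI : IsProper (F.obj Q).hom := inferInstanceAs (IsProper (pullback.snd Q.hom (GeomTate.σ k K)))
  obtain ⟨L, hL⟩ := exists_isAmple_proper (F.obj Q)
  haveI : CompactSpace (F.obj Q).left := compactSpace_of_isAmple hL
  haveI : QuasiSeparatedSpace (F.obj Q).left := quasiSeparatedSpace_of_isAmple hL
  obtain ⟨n, ι₀, hι, hι₀⟩ := exists_immersion_projSpaceOver (F.obj Q).hom hL
  haveI := hι
  obtain ⟨-, -, M, hM⟩ := H8Props.ProjFieldDescent.exists_isAmple Q.hom K n ι₀ hι₀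
  exact ⟨_, isAmple_pullback_of_isAffineHom q.left hM⟩

end Groth.Agent.H19Chev
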