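import Groth.Agent.H19Chev.QuasiComplement
import Groth.Prelude.Def_SGA7IX

/-!
# Abelian subvarieties against affine kernels
-/

set_option autoImplicit false
set_option linter.style.haveILetI false
set_option backward.isDefEq.respectTransparency false
set_option maxHeartbeats 1000000
set_option synthInstance.maxHeartbeats 100000
universe u

open CategoryTheory CategoryTheory.Limits MonoidalCategory CartesianMonoidalCategory MonObj AlgebraicGeometry
open Groth.Agent Groth.Agent.H25AbCube Groth.Agent.H19Quot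

noncomputable section

namespace Groth.Agent.H19Chev

variable {k : Type u} [Field k]

/-- A proper subgroup meets an affine normal subgroup in a finite group, and the product map and
the composite to the quotient are isogenies as soon as the product map is surjective. -/
theorem isogeny_of_affine_proper {G N A Q : Over (Spec (CommRingCat.of k))} [GrpObj G] [GrpObj N] [GrpObj A] [GrpObj Q]
    [LocallyOfFiniteType G.hom] [ConnectedSpace G.left]
    (i : N ⟶ G) [IsMonHom i] [IsClosedImmersion i.left] [IsAffine N.left]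
    (π : G ⟶ Q) [IsMonHom π] (hker : AlgGrp.IsKernel i π)
    (j : A ⟶ G) [IsMonHom j] [IsClosedImmersion j.left] [Smooth A.hom] [ConnectedSpace A.left] [IsProper A.hom]
    [IsSeparated Q.hom] [Surjective π.left] (hsurj : Surjective ((j ⊗ₘ i) ≫ μ[G]).left) :
    IsMonHom ((j ⊗ₘ i) ≫ μ[G]) ∧ SGA7.IsIsogenyOver ((j ⊗ₘ i) ≫ μ[G]) ∧ SGA7.IsIsogenyOver (j ≫ π) := by
  haveI := isMonHom_mul_map j i fun T a x => central_av j a (x ≫ i)
  haveI : Mono i := Over.mono_of_mono_left _
  haveI : Mono j := Over.mono_of_mono_left _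
  have hm : ∀ {T : Over (Spec (CommRingCat.of k))} (w : T ⟶ A ⊗ N),
      w ≫ (j ⊗ₘ i) ≫ μ[G] = (w ≫ fst A N ≫ j) * (w ≫ snd A N ≫ i) := fun w => by
    rw [Hom.mul_def, ← comp_lift, lift_fst_comp_snd_comp, Category.assoc]
  -- the canonical kernel is finite
  obtain ⟨K₂, gK₂, κ, hκ, hκc, hk₂⟩ := H19Grp.AffineQuotient.exists_kernel (j ≫ π)
  haveI := hκ; haveI := hκc
  haveI : Mono κ := H19Grp.kernel_mono hk₂
  obtain ⟨x, hx⟩ := H19Grp.kernel_lift hker (κ ≫ j) (by
    rw [Category.assoc]; exact H19Grp.kernel_comp_eq_one hk₂)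
  haveI : IsFinite K₂.hom := by
    haveI : IsClosedImmersion (x.left ≫ i.left) := by rw [← Over.comp_left, hx, Over.comp_left]; infer_instance
    haveI : IsClosedImmersion x.left := IsClosedImmersion.of_comp x.left i.left
    haveI : IsAffine K₂.left := isAffine_of_isAffineHom x.left
    haveI : IsProper K₂.hom := by rw [← Over.w κ]; infer_instance
    exact IsFinite.iff_isProper_and_isAffineHom.2 ⟨inferInstance, inferInstance⟩
  have hiso : ∀ {K : Over (Spec (CommRingCat.of k))} (a : K ⟶ K₂) (b : K₂ ⟶ K), a ≫ b = 𝟙 K → b ≫ a = 𝟙 K₂ →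
      IsFinite K.hom := fun {K} a b h1 h2 => by
    haveI : IsIso a := ⟨b, h1, h2⟩
    haveI : IsIso a.left := inferInstanceAs (IsIso ((Over.forget _).map a))
    rw [← Over.w a]; infer_instance
  have hcomp : ((j ⊗ₘ i) ≫ μ[G]) ≫ π = fst A N ≫ j ≫ π := by
    have h := hm (𝟙 (A ⊗ N))
    rw [Category.id_comp, Category.id_comp, Category.id_comp] at h
    rw [h, MonObj.mul_comp, Category.assoc _ i, H19Grp.kernel_comp_eq_one hker, MonObj.comp_one, _root_.mul_one,
      Category.assoc]
  refine ⟨inferInstance, ⟨hsurj, fun K κ' hK => ?_⟩, ?_, fun K κ' hK => ?_⟩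
  · haveI : Mono κ' := H19Grp.kernel_mono hK
    have h0 : κ' ≫ fst A N ≫ j ≫ π = 1 := by
      rw [← hcomp, ← Category.assoc, H19Grp.kernel_comp_eq_one hK, MonObj.one_comp]
    obtain ⟨a, ha⟩ := H19Grp.kernel_lift hk₂ (κ' ≫ fst A N) (by rw [Category.assoc]; exact h0)
    obtain ⟨b, hb⟩ := H19Grp.kernel_lift hK (lift κ x⁻¹) (by
      rw [hm, lift_fst_assoc, lift_snd_assoc, GrpObj.inv_comp, hx, mul_inv_cancel])
    refine hiso a b ?_ ?_
    · rw [← cancel_mono κ', Category.id_comp, Category.assoc, hb, comp_lift, ha]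
      have hs : κ' ≫ snd A N = a ≫ x⁻¹ := by
        rw [← cancel_mono i, GrpObj.comp_inv, GrpObj.inv_comp, Category.assoc a x, hx, ← Category.assoc a κ, ha,
          Category.assoc, Category.assoc, eq_inv_iff_mul_eq_one]
        have h := (hm κ').symm.trans (H19Grp.kernel_comp_eq_one hK)
        rwa [mul_eq_one_comm] at h
      rw [← hs, ← comp_lift, lift_fst_snd, Category.comp_id]
    · rw [← cancel_mono κ, Category.id_comp, Category.assoc, ha, ← Category.assoc, hb, lift_fst]
  · haveI := hsurj
    haveI : Surjective ((fst A N).left ≫ (j ≫ π).left) := by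
      rw [← Over.comp_left, ← hcomp, Over.comp_left]; infer_instance
    exact Surjective.of_comp (fst A N).left (j ≫ π).left
  · haveI : Mono κ' := H19Grp.kernel_mono hK
    obtain ⟨a, ha⟩ := H19Grp.kernel_lift hk₂ κ' (H19Grp.kernel_comp_eq_one hK)
    obtain ⟨b, hb⟩ := H19Grp.kernel_lift hK κ (H19Grp.kernel_comp_eq_one hk₂)
    refine hiso a b ?_ ?_
    · rw [← cancel_mono κ', Category.id_comp, Category.assoc, hb, ha]
    · rw [← cancel_mono κ, Category.id_comp, Category.assoc, ha, hb]

end Groth.Agent.H19Chev
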