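import Groth.Agent.H19Chev.Structure
import Groth.Agent.H19Grp.PointsSeries
import Groth.Agent.H19Grp.PointsEq
import Groth.Agent.H19Grp.GoodQuot
import Groth.Agent.H19Grp.HomFlat
import Groth.Agent.H19Grp.IdentityComponent
import Groth.Agent.H19Grp.Neutral
import Groth.Agent.H19Quot.LargestNormal
import Groth.Agent.H19Quot.AbelianCat
import Groth.Agent.H20Borel.PointsSub
import Groth.Agent.H22Alg.FibreCount
import Groth.Agent.H17.Dim
import Groth.Agent.LeadAff.Chevalley

/-!
# Smooth connected solvable subgroups along isogenies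
-/

set_option autoImplicit false
set_option linter.style.haveILetI false
set_option backward.isDefEq.respectTransparency false
set_option maxHeartbeats 1000000
set_option synthInstance.maxHeartbeats 400000
universe u

open CategoryTheory CategoryTheory.Limits MonoidalCategory CartesianMonoidalCategory MonObj AlgebraicGeometry
open Groth.Agent Groth.Agent.H19Quot
open Groth.Agent.H20Comod.LieKolchin (commSet commSet_le_derivedSeries)
open scoped commutatorElement

noncomputable section

namespace Groth.Agent.H19Chev.SolvableIsogeny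

variable {K : Type u} [Field K] [IsAlgClosed K]

local notation "Pts" X => 𝟙_ (Over (Spec (CommRingCat.of K))) ⟶ X

/-- Morphisms from a smooth scheme to a separated one agree when they agree on rational points. -/
theorem ext_pts {W U : Over (Spec (CommRingCat.of K))} [Smooth W.hom] [IsSeparated U.hom] (f g : W ⟶ U)
    (h : ∀ p : Pts W, p ≫ f = p ≫ g) : f = g := by
  refine H19Grp.PointsDense.hom_eq (K := K) f g fun w => ?_
  let T0 : Over (Spec (CommRingCat.of K)) := Over.mk (Spec.map (CommRingCat.ofHom (algebraMap K K)))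
  let e : 𝟙_ (Over (Spec (CommRingCat.of K))) ≅ T0 := Over.isoMk (Iso.refl _) (by
    show 𝟙 _ ≫ Spec.map (CommRingCat.ofHom (algebraMap K K)) = 𝟙 _
    rw [Category.id_comp, Algebra.algebraMap_self, show CommRingCat.ofHom (RingHom.id K) = 𝟙 (CommRingCat.of K) from rfl,
      Spec.map_id])
  rw [← cancel_epi e.hom, ← Category.assoc, ← Category.assoc]
  exact h _

/-- Solvability of the group of rational points gives solvability of a smooth group. -/
theorem isSolvableGrp_of_points (U : Over (Spec (CommRingCat.of K))) [GrpObj U] [Smooth U.hom]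
    [QuasiCompact U.hom] (n : ℕ) (h : derivedSeries (Pts U) n = ⊥) : Red.IsSolvableGrp U := by
  haveI : IsSeparated U.hom := H19Grp.AffineQuotient.isSeparated_of_grp U
  have key : ∀ m : ℕ, ∃ W : Over (Spec (CommRingCat.of K)), Smooth W.hom ∧ ∃ w : W ⟶ U,
      (∀ (X : Over (Spec (CommRingCat.of K))) (x : X ⟶ U), x ∈ commSet (G := X ⟶ U) m → ∃ v : X ⟶ W, v ≫ w = x) ∧
        ∀ p : Pts W, p ≫ w ∈ commSet (G := Pts U) m := by
    intro m
    induction m with
    | zero => exact ⟨U, inferInstance, 𝟙 U, fun X x _ => ⟨x, Category.comp_id x⟩, fun p => trivial⟩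
    | succ m ih =>
      obtain ⟨W, hW, w, hw₁, hw₂⟩ := ih
      haveI := hW
      refine ⟨W ⊗ W, H19Grp.PointsDense.smooth_tensor W W, ⁅fst W W ≫ w, snd W W ≫ w⁆, ?_, ?_⟩
      · rintro X x ⟨a, ha, b, hb, rfl⟩
        obtain ⟨va, rfl⟩ := hw₁ X a ha
        obtain ⟨vb, rfl⟩ := hw₁ X b hb
        refine ⟨lift va vb, ?_⟩
        simp only [commutatorElement_def, MonObj.comp_mul, GrpObj.comp_inv, lift_fst_assoc, lift_snd_assoc]
      · intro p
        refine ⟨(p ≫ fst W W) ≫ w, hw₂ _, (p ≫ snd W W) ≫ w, hw₂ _, ?_⟩
        simp only [commutatorElement_def, MonObj.comp_mul, GrpObj.comp_inv, Category.assoc]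
  obtain ⟨W, hW, w, hw₁, hw₂⟩ := key n
  haveI := hW
  have hw : w = 1 := ext_pts w 1 fun p => by
    rw [MonObj.comp_one]
    have := commSet_le_derivedSeries n (hw₂ p)
    rw [h] at this
    exact this
  refine ⟨n, fun X => le_bot_iff.1 ((H20Borel.derivedSeries_le_closure_commSet n).trans
    ((Subgroup.closure_le ⊥).2 fun x hx => ?_))⟩
  obtain ⟨v, rfl⟩ := hw₁ X x hx
  rw [hw, MonObj.comp_one]
  exact Subgroup.one_mem _

/-- Rational points of the kernel of a finite homomorphism from a connected group are central. -/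
theorem central_of_finite_hom {U V : Over (Spec (CommRingCat.of K))} [GrpObj U] [GrpObj V]
    [LocallyOfFiniteType U.hom] [ConnectedSpace U.left] (p : U ⟶ V) [IsMonHom p] [IsFinite p.left]
    (z g : Pts U) (hz : z ≫ p = 1) : g * z = z * g := by
  let c : U ⟶ U := 𝟙 U * (toUnit U ≫ z) * (𝟙 U)⁻¹
  have hc : ∀ x : Pts U, x ≫ c = x * z * x⁻¹ := fun x => by
    simp only [c, MonObj.comp_mul, GrpObj.comp_inv, Category.comp_id]
    rw [← Category.assoc x (toUnit U), toUnit_unique (x ≫ toUnit U) (𝟙 _), Category.id_comp]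
  let pt := IsLocalRing.closedPoint K
  let F : Set U.left := {x | IsClosed ({x} : Set U.left) ∧ p.left x = (1 : Pts V).left pt}
  have hFfin : F.Finite := (p.left.finite_preimage_singleton _).subset fun x hx => hx.2
  have hclosed : ∀ x : Pts U, IsClosed ({x.left pt} : Set U.left) := fun x =>
    H19Grp.isClosed_range_of_section x.left (Over.w x)
  have hmem : ∀ x : Pts U, c.left (x.left pt) ∈ F := fun x => by
    rw [← Scheme.Hom.comp_apply, ← Over.comp_left, hc]
    refine ⟨hclosed _, ?_⟩
    rw [← Scheme.Hom.comp_apply, ← Over.comp_left, MonObj.mul_comp, MonObj.mul_comp, hz, _root_.mul_one,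
      GrpObj.inv_comp, mul_inv_cancel]
  have hS : ∀ F' ⊆ F, IsClosed (c.left ⁻¹' F') := fun F' hF' => by
    refine IsClosed.preimage c.left.continuous ?_
    rw [← Set.biUnion_of_singleton F']
    exact (hFfin.subset hF').isClosed_biUnion fun x hx => (hF' hx).1
  haveI : JacobsonSpace U.left := by
    haveI : JacobsonSpace ↥(Spec (CommRingCat.of K)) := inferInstanceAs (JacobsonSpace (PrimeSpectrum K))
    exact LocallyOfFiniteType.jacobsonSpace U.hom
  have hall : c.left ⁻¹' F = Set.univ := by
    refine Set.univ_subset_iff.1 ?_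
    rw [← closure_closedPoints (X := U.left)]
    refine closure_minimal (fun x hx => ?_) (hS F subset_rfl)
    let q : Pts U := Over.homMk (pointOfClosedPoint U.hom x hx) (pointOfClosedPoint_comp _ _ _)
    have hq : q.left pt = x := pointOfClosedPoint_apply _ _ _ _
    rw [← hq]; exact hmem q
  let x₀ := c.left ((1 : Pts U).left pt)
  have hx₀ : x₀ ∈ F := hmem 1
  have hclop : IsClopen (c.left ⁻¹' {x₀}) := by
    refine ⟨hS _ (Set.singleton_subset_iff.2 hx₀), ?_⟩
    rw [← isClosed_compl_iff, show (c.left ⁻¹' {x₀})ᶜ = c.left ⁻¹' (F \ {x₀}) by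
      rw [Set.preimage_sdiff, hall, Set.compl_eq_univ_sdiff]]
    exact hS _ Set.sdiff_subset
  have huniv := hclop.eq_univ ⟨_, (rfl : c.left ((1 : Pts U).left pt) = x₀)⟩
  have h1 : c.left (g.left pt) = c.left ((1 : Pts U).left pt) := huniv.ge (Set.mem_univ (g.left pt))
  rw [← Scheme.Hom.comp_apply, ← Scheme.Hom.comp_apply, ← Over.comp_left, ← Over.comp_left, hc, hc,
    _root_.one_mul, inv_one, _root_.mul_one] at h1
  have h2 : g * z * g⁻¹ = z := Over.OverMorphism.ext (H19Grp.section_ext (Over.w _) (Over.w _) h1)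
  exact mul_inv_eq_iff_eq_mul.1 h2

/-- A smooth connected group finite over a solvable group is solvable. -/
theorem isSolvableGrp_of_finite_hom {U V : Over (Spec (CommRingCat.of K))} [GrpObj U] [GrpObj V]
    [Smooth U.hom] [QuasiCompact U.hom] [ConnectedSpace U.left] (p : U ⟶ V) [IsMonHom p] [IsFinite p.left]
    (h : Red.IsSolvableGrp V) : Red.IsSolvableGrp U := by
  obtain ⟨n, hn⟩ := h
  let ψ : (Pts U) →* (Pts V) := MonoidHom.mk' (fun a => a ≫ p) fun a b => MonObj.mul_comp a b p
  refine isSolvableGrp_of_points U (n + 1) ?_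
  have h1 : derivedSeries (Pts U) n ≤ ψ.ker := fun x hx => by
    have := map_derivedSeries_le_derivedSeries ψ n ⟨x, hx, rfl⟩
    rwa [hn, Subgroup.mem_bot] at this
  rw [derivedSeries_succ, eq_bot_iff, Subgroup.commutator_le]
  intro a ha b _
  rw [Subgroup.mem_bot, commutatorElement_eq_one_iff_mul_comm]
  exact (central_of_finite_hom p a b (h1 ha)).symm

/-- Finite surjective morphisms preserve the dimension. -/
theorem dim_eq_of_finite_surjective {U V : Over (Spec (CommRingCat.of K))} [LocallyOfFiniteType U.hom]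
    [LocallyOfFiniteType V.hom] [QuasiCompact V.hom] (p : U ⟶ V) [IsFinite p.left] [Surjective p.left] :
    topologicalKrullDim ↥U.left = topologicalKrullDim ↥V.left := by
  refine le_antisymm (H17.topologicalKrullDim_le_of_noSpecializationsInFibres p.left p.left.continuous
    fun x y hxy he => ?_) ?_
  · by_contra hne
    obtain ⟨O, hO, hOy⟩ := isDiscrete_iff_forall_mem_exists_isOpen.1 (p.left.isDiscrete_preimage_singleton (p.left y)) y rfl
    have hy : y ∈ O ∩ p.left ⁻¹' {p.left y} := hOy.symm ▸ rfl
    exact hne (hOy.subset ⟨hxy.mem_open hO hy.1, he⟩)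
  · have h := H22Alg.FibreCount.add_dim_le U.hom V.hom p.left (Over.w p) 0 fun ξ _ => by
      obtain ⟨x, hx⟩ := p.left.surjective ξ
      haveI : Nonempty (TopologicalSpace.IrreducibleCloseds ↥(p.left ⁻¹' {ξ})) :=
        ⟨⟨closure {⟨x, hx⟩}, isIrreducible_singleton.closure, isClosed_closure⟩⟩
      exact (Nat.cast_zero (R := WithBot ℕ∞)).trans_le (Order.krullDim_nonneg)
    simpa using h

/-- Isogenies push smooth connected subgroups forward. -/
theorem exists_image_isogeny {G H U : Over (Spec (CommRingCat.of K))} [GrpObj G] [GrpObj H] [GrpObj U]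
    [LocallyOfFiniteType H.hom] [QuasiCompact H.hom] (f : G ⟶ H) [IsMonHom f] [IsFinite f.left]
    (i : U ⟶ G) [IsMonHom i] [IsClosedImmersion i.left] [Smooth U.hom] [ConnectedSpace U.left] :
    ∃ (V : Over (Spec (CommRingCat.of K))) (_ : GrpObj V) (j : V ⟶ H), IsMonHom j ∧ IsClosedImmersion j.left ∧
      Smooth V.hom ∧ ConnectedSpace V.left ∧ ∃ p : U ⟶ V, IsMonHom p ∧ IsFinite p.left ∧ Surjective p.left ∧
      topologicalKrullDim ↥U.left = topologicalKrullDim ↥V.left ∧ (IsAffine U.left → IsAffine V.left) := by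
  haveI : IsFinite (i ≫ f).left := by rw [Over.comp_left]; infer_instance
  haveI : QuasiCompact U.hom := by rw [← Over.w (i ≫ f)]; infer_instance
  obtain ⟨V, gV, p, j, hp, hj, hpj, hpf, hps, hpp, hjc⟩ :=
    AbelianCat.exists_image (i ≫ f) ⟨inferInstance, inferInstance⟩ ⟨inferInstance, inferInstance⟩
  haveI := hp; haveI := hj; haveI := hpf; haveI := hps; haveI := hjc
  haveI : LocallyOfFiniteType V.hom := by rw [← Over.w j]; infer_instance
  haveI : QuasiCompact V.hom := by rw [← Over.w j]; infer_instance
  haveI : IsFinite (p.left ≫ j.left) := by rw [← Over.comp_left, hpj]; infer_instance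
  haveI : IsFinite p.left := IsFinite.of_comp p.left j.left
  obtain ⟨hVs, hVc⟩ := smooth_connected_image p
  haveI : IsNoetherianRing (CommRingCat.of K) := inferInstanceAs (IsNoetherianRing K)
  haveI : IsLocallyNoetherian V.left := LocallyOfFiniteType.isLocallyNoetherian V.hom
  haveI : CompactSpace V.left := QuasiCompact.compactSpace_of_compactSpace V.hom
  haveI : IsNoetherian V.left := {}
  exact ⟨V, gV, j, hj, hjc, hVs, hVc, p, hp, inferInstance, inferInstance,
    dim_eq_of_finite_surjective p, fun h => LeadAff.isAffine_of_finite_surjective p.left⟩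

/-- Isogenies push smooth connected solvable subgroups forward. -/
theorem exists_image {G H U : Over (Spec (CommRingCat.of K))} [GrpObj G] [GrpObj H] [GrpObj U]
    [LocallyOfFiniteType H.hom] [QuasiCompact H.hom] (f : G ⟶ H) [IsMonHom f] [IsFinite f.left]
    (i : U ⟶ G) [IsMonHom i] [IsClosedImmersion i.left] [Smooth U.hom] [ConnectedSpace U.left]
    (hsol : Red.IsSolvableGrp U) :
    ∃ (V : Over (Spec (CommRingCat.of K))) (_ : GrpObj V) (j : V ⟶ H), IsMonHom j ∧ IsClosedImmersion j.left ∧
      Smooth V.hom ∧ ConnectedSpace V.left ∧ Red.IsSolvableGrp V ∧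
      topologicalKrullDim ↥U.left = topologicalKrullDim ↥V.left ∧ (IsAffine U.left → IsAffine V.left) := by
  obtain ⟨V, gV, j, hj, hjc, hVs, hVc, p, hp, hpf, hps, hdim, haff⟩ := exists_image_isogeny f i
  haveI := hp; haveI := hps; haveI := hVs; haveI := hpf
  haveI : Flat p.left := H19Grp.flat_of_surjective p
  exact ⟨V, gV, j, hj, hjc, hVs, hVc, H19Grp.PointsSeries.isSolvableGrp_of_surjective p hsol, hdim, haff⟩

/-- Isogenies pull smooth connected subgroups back. -/
theorem exists_preimage_isogeny {G H V : Over (Spec (CommRingCat.of K))} [GrpObj G] [GrpObj H] [GrpObj V]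
    [LocallyOfFiniteType G.hom] [QuasiCompact G.hom] (f : G ⟶ H) [IsMonHom f] [IsFinite f.left] [Surjective f.left]
    (j : V ⟶ H) [IsMonHom j] [IsClosedImmersion j.left] [Smooth V.hom] [ConnectedSpace V.left] :
    ∃ (U : Over (Spec (CommRingCat.of K))) (_ : GrpObj U) (i : U ⟶ G), IsMonHom i ∧ IsClosedImmersion i.left ∧
      Smooth U.hom ∧ ConnectedSpace U.left ∧ ∃ p : U ⟶ V, IsMonHom p ∧ IsFinite p.left ∧ Surjective p.left ∧
      topologicalKrullDim ↥U.left = topologicalKrullDim ↥V.left ∧ (IsAffine V.left → IsAffine U.left) := by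
  obtain ⟨E, gE, jE, q', hjE, hq', hjEc, hsq⟩ := H19Quot.exists_preimageGroup f j
  haveI := hjE; haveI := hq'; haveI := hjEc
  have hsq' := hsq.map (Over.forget _)
  haveI : IsFinite q'.left := MorphismProperty.of_isPullback (P := @IsFinite) hsq'.flip ‹IsFinite f.left›
  haveI : Surjective q'.left := MorphismProperty.of_isPullback (P := @Surjective) hsq'.flip ‹Surjective f.left›
  haveI : LocallyOfFiniteType E.hom := by rw [← Over.w jE]; infer_instance
  -- reduced subgroup
  obtain ⟨gR, hr⟩ := H19Grp.GroupCI.exists_grpObj_reduced E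
  let R : Over (Spec (CommRingCat.of K)) := Over.mk (E.left.nilradical.subschemeι ≫ E.hom)
  let r : R ⟶ E := Over.homMk E.left.nilradical.subschemeι rfl
  haveI : IsMonHom r := hr
  haveI : IsClosedImmersion r.left := inferInstanceAs (IsClosedImmersion E.left.nilradical.subschemeι)
  haveI : Surjective r.left := ⟨fun x => by
    have : Set.range E.left.nilradical.subschemeι = Set.univ := by
      rw [Scheme.IdealSheafData.range_subschemeι, Scheme.support_nilradical]
      rfl
    exact this.ge trivial⟩
  haveI : IsReduced R.left := inferInstanceAs (IsReduced E.left.nilradical.subscheme)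
  haveI : LocallyOfFiniteType R.hom := by rw [← Over.w r]; infer_instance
  haveI : Smooth R.hom := H19Grp.smooth_of_isReduced_perfect R
  haveI : IsFinite (r ≫ q').left := by rw [Over.comp_left]; infer_instance
  haveI : Surjective (r ≫ q').left := by rw [Over.comp_left]; infer_instance
  haveI : Flat (r ≫ q').left := H19Grp.flat_of_surjective (r ≫ q')
  -- its identity component
  obtain ⟨gL, hι⟩ := H19Grp.exists_grpObj_idComp R
  let L := H19Grp.idComp R
  let l : L ⟶ R := H19Grp.idCompι R
  haveI : IsMonHom l := hι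
  haveI : IsClosedImmersion l.left := inferInstanceAs (IsClosedImmersion (H19Grp.idCompι R).left)
  haveI : IsOpenImmersion l.left := by
    haveI : Flat l.left := H19Grp.flat_clopenIdeal_subschemeι _
    haveI : IsNoetherianRing (CommRingCat.of K) := inferInstanceAs (IsNoetherianRing K)
    haveI : IsLocallyNoetherian R.left := LocallyOfFiniteType.isLocallyNoetherian R.hom
    haveI : LocallyOfFinitePresentation l.left := inferInstance
    exact IsOpenImmersion.of_flat_of_mono l.left
  haveI : ConnectedSpace L.left := by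
    have hc : _root_.IsConnected (Set.range l.left) := (H19Grp.range_idCompι R) ▸ isConnected_connectedComponent
    haveI : ConnectedSpace (Set.range l.left) := isConnected_iff_connectedSpace.1 hc
    exact l.left.isClosedEmbedding.isEmbedding.toHomeomorph.symm.surjective.connectedSpace
      l.left.isClosedEmbedding.isEmbedding.toHomeomorph.symm.continuous
  haveI : Smooth L.hom := by rw [← Over.w l]; infer_instance
  let p : L ⟶ V := l ≫ r ≫ q'
  haveI : IsFinite p.left := by
    show IsFinite (l.left ≫ (r ≫ q').left); infer_instance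
  haveI : LocallyOfFinitePresentation (r ≫ q').left := by
    haveI : IsNoetherianRing (CommRingCat.of K) := inferInstanceAs (IsNoetherianRing K)
    haveI : IsLocallyNoetherian V.left := LocallyOfFiniteType.isLocallyNoetherian V.hom
    infer_instance
  haveI : UniversallyOpen (r ≫ q').left := UniversallyOpen.of_flat _
  haveI : Surjective p.left := by
    have hop : IsOpen (Set.range p.left) := by
      show IsOpen (Set.range (l.left ≫ (r ≫ q').left))
      rw [Scheme.Hom.comp_base, TopCat.coe_comp, Set.range_comp]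
      exact (r ≫ q').left.isOpenMap _ l.left.isOpenEmbedding.isOpen_range
    have hcl : IsClosed (Set.range p.left) := p.left.isClosedMap.isClosed_range
    have h := IsClopen.eq_univ ⟨hcl, hop⟩ ⟨_, ⟨(η[L]).left (IsLocalRing.closedPoint K), rfl⟩⟩
    exact ⟨fun y => h.ge (Set.mem_univ y)⟩
  haveI : IsMonHom (l ≫ r ≫ jE) := inferInstance
  haveI : IsClosedImmersion (l ≫ r ≫ jE).left := by rw [Over.comp_left, Over.comp_left]; infer_instance
  haveI : QuasiCompact L.hom := by rw [← Over.w (l ≫ r ≫ jE)]; infer_instance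
  haveI : QuasiCompact V.hom := by
    haveI : CompactSpace L.left := QuasiCompact.compactSpace_of_compactSpace L.hom
    haveI : CompactSpace V.left := p.left.surjective.compactSpace p.left.continuous
    exact (quasiCompact_iff_compactSpace V.hom).2 inferInstance
  haveI : IsMonHom p := inferInstanceAs (IsMonHom (l ≫ r ≫ q'))
  exact ⟨L, gL, l ≫ r ≫ jE, inferInstance, inferInstance, inferInstance, inferInstance, p, inferInstance,
    inferInstance, inferInstance, dim_eq_of_finite_surjective p,
    fun h => isAffine_of_isAffineHom p.left⟩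

/-- Isogenies pull smooth connected solvable subgroups back. -/
theorem exists_preimage {G H V : Over (Spec (CommRingCat.of K))} [GrpObj G] [GrpObj H] [GrpObj V]
    [LocallyOfFiniteType G.hom] [QuasiCompact G.hom] (f : G ⟶ H) [IsMonHom f] [IsFinite f.left] [Surjective f.left]
    (j : V ⟶ H) [IsMonHom j] [IsClosedImmersion j.left] [Smooth V.hom] [ConnectedSpace V.left]
    (hsol : Red.IsSolvableGrp V) :
    ∃ (U : Over (Spec (CommRingCat.of K))) (_ : GrpObj U) (i : U ⟶ G), IsMonHom i ∧ IsClosedImmersion i.left ∧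
      Smooth U.hom ∧ ConnectedSpace U.left ∧ Red.IsSolvableGrp U ∧
      topologicalKrullDim ↥U.left = topologicalKrullDim ↥V.left ∧ (IsAffine V.left → IsAffine U.left) := by
  obtain ⟨U, gU, i, hi, hic, hUs, hUc, p, hp, hpf, hps, hdim, haff⟩ := exists_preimage_isogeny f j
  haveI := hp; haveI := hps; haveI := hpf; haveI := hUs; haveI := hUc; haveI := hic
  haveI : LocallyOfFiniteType V.hom := inferInstance
  haveI : QuasiCompact U.hom := by rw [← Over.w i]; infer_instance
  exact ⟨U, gU, i, hi, hic, hUs, hUc, isSolvableGrp_of_finite_hom p hsol, hdim, haff⟩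

end Groth.Agent.H19Chev.SolvableIsogeny
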