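import Groth.Prelude.Def_AGF
import Groth.Agent.H19Chev.SolvableIsogeny
import Groth.Agent.H21Diag.SmoothLift
import Groth.Agent.H19Grp.PointsSeries

/-!
# Solvability, nilpotence and commutativity through isogenies
-/

set_option autoImplicit false
set_option linter.style.haveILetI false
set_option synthInstance.maxHeartbeats 400000

universe u

open CategoryTheory MonoidalCategory CartesianMonoidalCategory MonObj GrpObj AlgebraicGeometry
open CategoryTheory.Limits

noncomputable section

namespace Groth.Agent.H19Chev.IsogenyProperties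

attribute [local instance 2000] Hom.group Hom.monoid

section Groups

variable {G H : Type*} [Group G] [Group H]

/-- A central extension of a nilpotent group is nilpotent of class one more. -/
theorem upperCentralSeries_comap_le (ψ : G →* H) (h : ψ.ker ≤ Subgroup.center G) (n : ℕ) :
    (Subgroup.upperCentralSeries H n).comap ψ ≤ Subgroup.upperCentralSeries G (n + 1) := by
  induction n with
  | zero =>
    intro x hx
    rw [Subgroup.mem_comap, Subgroup.upperCentralSeries_zero, Subgroup.mem_bot] at hx
    exact (Subgroup.upperCentralSeries_one G).ge (h hx)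
  | succ n ih =>
    intro x hx
    rw [Subgroup.mem_comap, Subgroup.mem_upperCentralSeries_succ_iff] at hx
    refine Subgroup.mem_upperCentralSeries_succ_iff.2 fun y => ih ?_
    rw [Subgroup.mem_comap, map_commutatorElement]
    exact hx (ψ y)

/-- Nilpotence passes to subgroups. -/
theorem upperCentralSeries_comap_le_of_injective (ψ : G →* H) (hψ : Function.Injective ψ) (n : ℕ) :
    (Subgroup.upperCentralSeries H n).comap ψ ≤ Subgroup.upperCentralSeries G n := by
  induction n with
  | zero =>
    intro x hx
    rw [Subgroup.mem_comap, Subgroup.upperCentralSeries_zero, Subgroup.mem_bot] at hx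
    rw [Subgroup.upperCentralSeries_zero, Subgroup.mem_bot]
    exact hψ (hx.trans (map_one ψ).symm)
  | succ n ih =>
    intro x hx
    rw [Subgroup.mem_comap, Subgroup.mem_upperCentralSeries_succ_iff] at hx
    refine Subgroup.mem_upperCentralSeries_succ_iff.2 fun y => ih ?_
    rw [Subgroup.mem_comap, map_commutatorElement]
    exact hx (ψ y)

theorem nilpotent_of_injective (ψ : G →* H) (hψ : Function.Injective ψ) {n : ℕ}
    (h : Subgroup.upperCentralSeries H n = ⊤) : Subgroup.upperCentralSeries G n = ⊤ :=
  eq_top_iff.2 fun x _ => upperCentralSeries_comap_le_of_injective ψ hψ n (by simp [h])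

theorem solvable_of_injective (ψ : G →* H) (hψ : Function.Injective ψ) {n : ℕ}
    (h : derivedSeries H n = ⊥) : derivedSeries G n = ⊥ := by
  rw [eq_bot_iff]
  intro x hx
  have := map_derivedSeries_le_derivedSeries ψ n ⟨x, hx, rfl⟩
  rw [h, Subgroup.mem_bot] at this
  exact hψ (this.trans (map_one ψ).symm)

end Groups

section AlgClosed

set_option backward.isDefEq.respectTransparency false
open scoped commutatorElement

variable {K : Type u} [Field K] [IsAlgClosed K]

local notation "Pts" X => 𝟙_ (Over (Spec (CommRingCat.of K))) ⟶ X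

open H19Chev.SolvableIsogeny

/-- Nilpotence of the group of rational points gives nilpotence of a smooth group. -/
theorem isNilpotentGrp_of_points (U : Over (Spec (CommRingCat.of K))) [GrpObj U] [Smooth U.hom]
    [QuasiCompact U.hom] (n : ℕ) (h : Subgroup.upperCentralSeries (Pts U) n = ⊤) : AGF.IsNilpotentGrp U := by
  haveI : IsSeparated U.hom := H19Grp.AffineQuotient.isSeparated_of_grp U
  have key : ∀ (m : ℕ) (W : Over (Spec (CommRingCat.of K))), Smooth W.hom → ∀ c : W ⟶ U,
      (∀ p : Pts W, p ≫ c ∈ Subgroup.upperCentralSeries (Pts U) m) →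
      ∀ (X : Over (Spec (CommRingCat.of K))) (φ : X ⟶ W), φ ≫ c ∈ Subgroup.upperCentralSeries (X ⟶ U) m := by
    intro m
    induction m with
    | zero =>
      intro W hW c hc X φ
      haveI := hW
      rw [Subgroup.upperCentralSeries_zero, Subgroup.mem_bot, ext_pts c 1 fun p => by
        rw [MonObj.comp_one]
        exact Subgroup.mem_bot.1 (hc p), MonObj.comp_one]
    | succ m ih =>
      intro W hW c hc X φ
      haveI := hW
      refine Subgroup.mem_upperCentralSeries_succ_iff.2 fun y => ?_
      have h1 := ih (W ⊗ U) (H19Grp.PointsDense.smooth_tensor W U) ⁅fst W U ≫ c, snd W U⁆ (fun p => ?_) X (lift φ y)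
      · simp only [commutatorElement_def, MonObj.comp_mul, GrpObj.comp_inv, lift_fst_assoc, lift_snd] at h1
        simpa only [commutatorElement_def] using h1
      · have h2 := Subgroup.mem_upperCentralSeries_succ_iff.1 (hc (p ≫ fst W U)) (p ≫ snd W U)
        simp only [commutatorElement_def, MonObj.comp_mul, GrpObj.comp_inv] at h2 ⊢
        simpa only [Category.assoc] using h2
  refine ⟨n, fun X => eq_top_iff.2 fun x _ => ?_⟩
  have := key n U inferInstance (𝟙 U) (fun p => by rw [h]; trivial) X x
  rwa [Category.comp_id] at this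

/-- A morphism from a connected group landing pointwise in a finite kernel is constant. -/
theorem const_of_finite_hom {U V W : Over (Spec (CommRingCat.of K))} [GrpObj U] [GrpObj V] [GrpObj W]
    [LocallyOfFiniteType W.hom] [ConnectedSpace W.left] (p : U ⟶ V) [IsMonHom p] [IsFinite p.left]
    (c : W ⟶ U) (hc : ∀ x : Pts W, (x ≫ c) ≫ p = 1) (g : Pts W) : g ≫ c = (1 : Pts W) ≫ c := by
  let pt := IsLocalRing.closedPoint K
  let F : Set U.left := {x | IsClosed ({x} : Set U.left) ∧ p.left x = (1 : Pts V).left pt}
  have hFfin : F.Finite := (p.left.finite_preimage_singleton _).subset fun x hx => hx.2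
  have hmem : ∀ x : Pts W, c.left (x.left pt) ∈ F := fun x => by
    refine ⟨?_, ?_⟩
    · rw [← Scheme.Hom.comp_apply, ← Over.comp_left]
      exact H19Grp.isClosed_range_of_section (x ≫ c).left (Over.w (x ≫ c))
    · rw [← Scheme.Hom.comp_apply, ← Over.comp_left, ← Scheme.Hom.comp_apply, ← Over.comp_left, ← Category.assoc, hc]
  have hS : ∀ F' ⊆ F, IsClosed (c.left ⁻¹' F') := fun F' hF' => by
    refine IsClosed.preimage c.left.continuous ?_
    rw [← Set.biUnion_of_singleton F']
    exact (hFfin.subset hF').isClosed_biUnion fun x hx => (hF' hx).1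
  haveI : JacobsonSpace W.left := by
    haveI : JacobsonSpace ↥(Spec (CommRingCat.of K)) := inferInstanceAs (JacobsonSpace (PrimeSpectrum K))
    exact LocallyOfFiniteType.jacobsonSpace W.hom
  have hall : c.left ⁻¹' F = Set.univ := by
    refine Set.univ_subset_iff.1 ?_
    rw [← closure_closedPoints (X := W.left)]
    refine closure_minimal (fun x hx => ?_) (hS F subset_rfl)
    let q : Pts W := Over.homMk (pointOfClosedPoint W.hom x hx) (pointOfClosedPoint_comp _ _ _)
    have hq : q.left pt = x := pointOfClosedPoint_apply _ _ _ _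
    rw [← hq]; exact hmem q
  let x₀ := c.left ((1 : Pts W).left pt)
  have hclop : IsClopen (c.left ⁻¹' {x₀}) := by
    refine ⟨hS _ (Set.singleton_subset_iff.2 (hmem 1)), ?_⟩
    rw [← isClosed_compl_iff, show (c.left ⁻¹' {x₀})ᶜ = c.left ⁻¹' (F \ {x₀}) by
      rw [Set.preimage_sdiff, hall, Set.compl_eq_univ_sdiff]]
    exact hS _ Set.sdiff_subset
  have huniv := hclop.eq_univ ⟨_, (rfl : c.left ((1 : Pts W).left pt) = x₀)⟩
  have h1 : c.left (g.left pt) = c.left ((1 : Pts W).left pt) := huniv.ge (Set.mem_univ (g.left pt))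
  rw [← Scheme.Hom.comp_apply, ← Scheme.Hom.comp_apply, ← Over.comp_left, ← Over.comp_left] at h1
  exact Over.OverMorphism.ext (H19Grp.section_ext (Over.w _) (Over.w _) h1)

/-- A smooth connected group finite over a commutative one has commutative points. -/
theorem comm_pts_of_finite_hom {U V : Over (Spec (CommRingCat.of K))} [GrpObj U] [GrpObj V]
    [LocallyOfFiniteType U.hom] [ConnectedSpace U.left] (p : U ⟶ V) [IsMonHom p] [IsFinite p.left]
    (h : ∀ a b : Pts V, a * b = b * a) (a b : Pts U) : a * b = b * a := by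
  let c : U ⟶ U := 𝟙 U * (toUnit U ≫ b) * (𝟙 U)⁻¹ * (toUnit U ≫ b)⁻¹
  have hc : ∀ x : Pts U, x ≫ c = x * b * x⁻¹ * b⁻¹ := fun x => by
    simp only [c, MonObj.comp_mul, GrpObj.comp_inv, Category.comp_id]
    rw [← Category.assoc x (toUnit U), toUnit_unique (x ≫ toUnit U) (𝟙 _), Category.id_comp]
  have h1 := const_of_finite_hom p c (fun x => by
    rw [hc, MonObj.mul_comp, MonObj.mul_comp, MonObj.mul_comp, GrpObj.inv_comp, GrpObj.inv_comp,
      h (x ≫ p) (b ≫ p)]
    group) a
  rw [hc, hc] at h1
  simp only [_root_.one_mul, inv_one, _root_.mul_one, mul_inv_cancel] at h1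
  exact mul_inv_eq_iff_eq_mul.1 (mul_inv_eq_one.1 h1)

end AlgClosed

section Descent

variable {k : Type u} [Field k] (K : Type u) [Field K] [Algebra k K]

/-- The base change of points is an injective homomorphism. -/
theorem exists_injective_bc (G : Over (Spec (CommRingCat.of k))) [GrpObj G]
    (X : Over (Spec (CommRingCat.of k))) :
    ∃ ψ : (X ⟶ G) →* ((Over.pullback (Spec.map (CommRingCat.ofHom (algebraMap k K)))).obj X ⟶
      Red.bc (Spec.map (CommRingCat.ofHom (algebraMap k K))) G), Function.Injective ψ := by
  let e := Spec.map (CommRingCat.ofHom (algebraMap k K))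
  let ε := (Over.mapPullbackAdj e).counit.app X
  refine ⟨MonoidHom.mk' (fun x => (Over.pullback e).map x) fun a b => ?_, fun a b hab => ?_⟩
  · refine (H21Diag.bcEquiv e G ((Over.pullback e).obj X)).symm.injective ?_
    show (H21Diag.bcHom e G _) ((Over.pullback e).map (a * b)) =
      (H21Diag.bcHom e G _) ((Over.pullback e).map a * (Over.pullback e).map b)
    have hn : ∀ z : X ⟶ G, (H21Diag.bcHom e G _) ((Over.pullback e).map z) = ε ≫ z := fun z => by
      show ((Over.mapPullbackAdj e).homEquiv _ _).symm ((Over.pullback e).map z) = _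
      rw [Adjunction.homEquiv_symm_apply]
      exact (Over.mapPullbackAdj e).counit.naturality z
    rw [map_mul, hn, hn, hn, MonObj.comp_mul]
  · have hε : Epi ε := by
      have hfl : ε.left = pullback.fst X.hom e := by simp [ε, Over.mapPullbackAdj]
      have hflat : Flat e := by
        refine HasRingHomProperty.Spec_iff.mpr ?_
        exact RingHom.flat_algebraMap_iff.mpr inferInstance
      have hsurj : Surjective e := ⟨fun y => ⟨IsLocalRing.closedPoint K, Subsingleton.elim _ _⟩⟩
      haveI := hflat
      haveI := hsurj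
      haveI : Flat ε.left := by rw [hfl]; infer_instance
      haveI : Surjective ε.left := by rw [hfl]; infer_instance
      haveI : Epi ε.left := Flat.epi_of_flat_of_surjective ε.left
      exact Over.epi_of_epi_left _
    have h1 := (Over.mapPullbackAdj e).counit.naturality a
    have h2 := (Over.mapPullbackAdj e).counit.naturality b
    replace hab : (Over.pullback e).map a = (Over.pullback e).map b := hab
    simp only [Functor.comp_map, Functor.id_map] at h1 h2
    rw [hab] at h1
    exact (cancel_epi ε).1 (h1.symm.trans h2)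

theorem isNilpotentGrp_bc (G : Over (Spec (CommRingCat.of k))) [GrpObj G] (h : AGF.IsNilpotentGrp G) :
    AGF.IsNilpotentGrp (Red.bc (Spec.map (CommRingCat.ofHom (algebraMap k K))) G) := by
  obtain ⟨n, hn⟩ := h
  exact ⟨n, fun Y => nilpotent_of_injective (H21Diag.bcHom _ G Y) (H21Diag.bcEquiv _ G Y).symm.injective (hn _)⟩

theorem isNilpotentGrp_of_bc (G : Over (Spec (CommRingCat.of k))) [GrpObj G]
    (h : AGF.IsNilpotentGrp (Red.bc (Spec.map (CommRingCat.ofHom (algebraMap k K))) G)) : AGF.IsNilpotentGrp G := by
  obtain ⟨n, hn⟩ := h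
  refine ⟨n, fun X => ?_⟩
  obtain ⟨ψ, hψ⟩ := exists_injective_bc K G X
  exact nilpotent_of_injective ψ hψ (hn _)

theorem isSolvableGrp_bc (G : Over (Spec (CommRingCat.of k))) [GrpObj G] (h : Red.IsSolvableGrp G) :
    Red.IsSolvableGrp (Red.bc (Spec.map (CommRingCat.ofHom (algebraMap k K))) G) := by
  obtain ⟨n, hn⟩ := h
  exact ⟨n, fun Y => solvable_of_injective (H21Diag.bcHom _ G Y) (H21Diag.bcEquiv _ G Y).symm.injective (hn _)⟩

theorem isSolvableGrp_of_bc (G : Over (Spec (CommRingCat.of k))) [GrpObj G]
    (h : Red.IsSolvableGrp (Red.bc (Spec.map (CommRingCat.ofHom (algebraMap k K))) G)) : Red.IsSolvableGrp G := by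
  obtain ⟨n, hn⟩ := h
  refine ⟨n, fun X => ?_⟩
  obtain ⟨ψ, hψ⟩ := exists_injective_bc K G X
  exact solvable_of_injective ψ hψ (hn _)

theorem comm_of_bc (G : Over (Spec (CommRingCat.of k))) [GrpObj G]
    (h : ∀ {Y : Over (Spec (CommRingCat.of K))} (a b : Y ⟶ Red.bc (Spec.map (CommRingCat.ofHom (algebraMap k K))) G),
      a * b = b * a)
    {X : Over (Spec (CommRingCat.of k))} (a b : X ⟶ G) : a * b = b * a := by
  obtain ⟨ψ, hψ⟩ := exists_injective_bc K G X
  exact hψ (by rw [map_mul, map_mul, h])

end Descent

end Groth.Agent.H19Chev.IsogenyProperties
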