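import Groth.Agent.H19Chev.CoradUnique
import Groth.Agent.H19Mult.GroupLikeBC
import Groth.Agent.H19Mult.Field
import Groth.Agent.H20Comod.UniExt
import Mathlib.FieldTheory.Galois.Infinite
import Mathlib.RingTheory.HopfAlgebra.Convolution

/-!
# The Jordan splitting of a cocommutative Hopf algebra over a perfect field

Over a perfect field a commutative cocommutative Hopf algebra carries an idempotent endomorphism `π` killing the
coconnected part and fixing the geometric group-like elements; `1 = π * υ` in the convolution group, with `υ`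
taking values in the coconnected part.
-/

set_option autoImplicit false
set_option linter.style.haveILetI false
set_option synthInstance.maxHeartbeats 100000
set_option maxHeartbeats 1000000

universe u v w

open TensorProduct HopfRep WithConv
open scoped Groth.Agent.H20Comod

namespace Groth.Agent.H19Chev.JordanSplit

open Groth.Agent.H20Comod Groth.Agent.H19Chev.CoradSplit Groth.Agent.H19Mult

noncomputable section

section Injective

theorem one_tmul_inj {k : Type u} [Field k] {A : Type v} [CommRing A] [Algebra k A] (K : Type w) [Field K]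
    [Algebra k K] : Function.Injective fun a : A => (1 : K) ⊗ₜ[k] a :=
  Algebra.TensorProduct.includeRight_injective (algebraMap k K).injective

end Injective

section Converse

variable {k : Type u} [Field k] {A : Type v} [CommRing A] [Bialgebra k A] (K : Type w) [Field K] [Algebra k K]

theorem apply_one_tmul_eq_zero {n : ℕ} : ∀ {a : A}, a ∈ coFil k A n → ∀ {m : ℕ}, n ≤ m →
    ∀ p ∈ augPow K (K ⊗[k] A) (m + 1), p ((1 : K) ⊗ₜ[k] a) = 0 := by
  classical
  induction n using Nat.strong_induction_on with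
  | _ n ih =>
    intro a ha m hnm p hp
    obtain ⟨f, hf, q, hq, rfl⟩ := hp
    have hle := comul_coFil_le n (Submodule.mem_map_of_mem (f := CoalgebraStruct.comul (R := k) (A := A)) ha)
    show LinearMap.mul' K K (TensorProduct.map f q (CoalgebraStruct.comul (R := K) ((1 : K) ⊗ₜ[k] a))) = 0
    rw [comul_one_tmul]
    let Θ : A ⊗[k] A →ₗ[k] K := TensorProduct.lift (((LinearMap.mul k K).compl₁₂
      ((f.restrictScalars k) ∘ₗ TensorProduct.mk k K A 1) ((q.restrictScalars k) ∘ₗ TensorProduct.mk k K A 1)))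
    have hΘ : ∀ x y : A, Θ (x ⊗ₜ y) = f ((1 : K) ⊗ₜ[k] x) * q ((1 : K) ⊗ₜ[k] y) := fun x y => rfl
    have key : ∀ z ∈ ⨆ i ∈ Finset.range (n + 1), LinearMap.range (TensorProduct.mapIncl (coFil k A i) (coFil k A (n - i))),
        Θ z = 0 := by
      intro z hz
      refine (iSup₂_le fun i hi => ?_ : _ ≤ LinearMap.ker Θ) hz
      rintro _ ⟨t, rfl⟩
      induction t using TensorProduct.induction_on with
      | zero => simp
      | add u v hu hv => rw [map_add]; exact add_mem hu hv
      | tmul x y =>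
        show Θ ((x : A) ⊗ₜ[k] (y : A)) = 0
        rw [hΘ]
        rcases Nat.eq_zero_or_pos i with rfl | hi0
        · obtain ⟨c, hc⟩ := Submodule.mem_span_singleton.1 (coFil_zero.le x.2)
          rw [← hc, TensorProduct.tmul_smul, ← algebraMap_smul K c ((1 : K) ⊗ₜ[k] (1 : A)), map_smul,
            ← Algebra.TensorProduct.one_def, hf, smul_zero, MulZeroClass.zero_mul]
        · have hni : n - i ≤ m - 1 := by omega
          have hi' := Finset.mem_range.1 hi
          rw [ih (n - i) (by omega) y.2 hni q ?_, MulZeroClass.mul_zero]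
          rwa [Nat.sub_add_cancel (by omega : 1 ≤ m)]
    refine Eq.trans ?_ (key _ hle)
    generalize CoalgebraStruct.comul (R := k) a = z
    induction z using TensorProduct.induction_on with
    | zero => simp
    | tmul x y => simp [hΘ]
    | add x y hx hy => simp only [map_add, hx, hy]

/-- Coconnected elements stay coconnected after extending the field. -/
theorem one_tmul_mem_coFil {n : ℕ} {a : A} (ha : a ∈ coFil k A n) : (1 : K) ⊗ₜ[k] a ∈ coFil K (K ⊗[k] A) n :=
  mem_coFil.2 (apply_one_tmul_eq_zero K ha le_rfl)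

theorem mem_coFil_of_one_tmul {n : ℕ} {a : A} (ha : (1 : K) ⊗ₜ[k] a ∈ coFil K (K ⊗[k] A) n) : a ∈ coFil k A n := by
  refine mem_coFil.2 fun p hp => ?_
  have h := mem_coFil.1 ha _ (extK_mem_augPow K hp)
  rw [extK_tmul] at h
  exact (smul_eq_zero.1 h).resolve_right one_ne_zero

/-- The only coconnected group-like element is the unit. -/
theorem eq_one_of_groupLike_mem_coFil {g : A} (hg : IsGroupLikeElem k g) {n : ℕ} (hn : g ∈ coFil k A n) : g = 1 := by
  by_cases hspan : g ∈ Submodule.span k {(1 : A)}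
  · obtain ⟨c, hc⟩ := Submodule.mem_span_singleton.1 hspan
    have h := hg.counit_eq_one
    rw [← hc, map_smul, Bialgebra.counit_one, smul_eq_mul, _root_.mul_one] at h
    rw [← hc, h, one_smul]
  · exfalso
    obtain ⟨f, hfg, hf⟩ := Submodule.exists_le_ker_of_notMem hspan
    have hf1 : f 1 = 0 := LinearMap.mem_ker.1 (hf (Submodule.mem_span_singleton_self 1))
    have : ∀ m, ∃ p ∈ augPow k A m, p g ≠ 0 := by
      intro m
      induction m with
      | zero => exact ⟨_, Set.mem_singleton _, by rw [hg.counit_eq_one]; exact one_ne_zero⟩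
      | succ m ih =>
        obtain ⟨p, hp, hpg⟩ := ih
        refine ⟨conv f p, ⟨f, hf1, p, hp, rfl⟩, ?_⟩
        show LinearMap.mul' k k (TensorProduct.map f p (CoalgebraStruct.comul (R := k) g)) ≠ 0
        rw [hg.comul_eq_tmul_self, TensorProduct.map_tmul, LinearMap.mul'_apply]
        exact mul_ne_zero hfg hpg
    obtain ⟨p, hp, hpg⟩ := this (n + 1)
    exact hpg (mem_coFil.1 hn p hp)

end Converse

section Proj

variable {L : Type u} [Field L] [IsAlgClosed L] {H : Type v} [CommRing H] [HopfAlgebra L H] [Coalgebra.IsCocomm L H]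

/-- Two linear maps agreeing on translates of coconnected elements by group-like elements are equal. -/
theorem ext_on {N : Type w} [AddCommGroup N] [Module L N] {F F' : H →ₗ[L] N}
    (h : ∀ g b, IsGroupLikeElem L g → b ∈ uni L H → F (g * b) = F' (g * b)) : F = F' :=
  LinearMap.ext fun a => by
    refine (Submodule.span_le.2 ?_ : _ ≤ LinearMap.eqLocus F F') (exists_decomp (k := L) a)
    rintro _ ⟨g, b, hg, hb, rfl⟩
    exact h g b hg hb

theorem exists_linProj : ∃ Φ : H →ₗ[L] H, ∀ g b, IsGroupLikeElem L g → b ∈ uni L H →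
    Φ (g * b) = (CoalgebraStruct.counit (R := L) b) • g := by
  classical
  let P : Submodule L (H →₀ H) :=
    { carrier := {f | ∀ g, f g ∈ uni L H ∧ (f g ≠ 0 → IsGroupLikeElem L g)}
      add_mem' := fun {f f'} hf hf' g => ⟨by rw [Finsupp.add_apply]; exact add_mem (hf g).1 (hf' g).1, fun h => by
        by_cases h1 : f g = 0
        · refine (hf' g).2 fun h2 => h ?_
          rw [Finsupp.add_apply, h1, h2, _root_.add_zero]
        · exact (hf g).2 h1⟩
      zero_mem' := fun g => ⟨zero_mem _, fun h => absurd rfl h⟩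
      smul_mem' := fun c {f} hf g => ⟨by rw [Finsupp.smul_apply]; exact Subalgebra.smul_mem _ (hf g).1 c,
        fun h => (hf g).2 fun h0 => h (by rw [Finsupp.smul_apply, h0, smul_zero])⟩ }
  let F₁ : P →ₗ[L] H := (Finsupp.lsum ℕ fun g : H => LinearMap.mulLeft L g) ∘ₗ P.subtype
  let F₂ : P →ₗ[L] H :=
    (Finsupp.lsum ℕ fun g : H => (CoalgebraStruct.counit (R := L) (A := H)).smulRight g) ∘ₗ P.subtype
  have hsingle : ∀ {g b : H}, IsGroupLikeElem L g → b ∈ uni L H → Finsupp.single g b ∈ P := fun {g b} hg hb x => by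
    rw [Finsupp.single_apply]
    split_ifs with hx
    · exact ⟨hb, fun _ => hx ▸ hg⟩
    · exact ⟨zero_mem _, fun h => absurd rfl h⟩
  have hinj : Function.Injective F₁ := (injective_iff_map_eq_zero _).2 fun f hf => by
    refine Subtype.ext (Finsupp.ext fun g => ?_)
    by_cases hg : g ∈ (f : H →₀ H).support
    · exact eq_zero_of_sum_groupLike_mul (k := L) (f : H →₀ H).support
        (fun x hx => (f.2 x).2 (Finsupp.mem_support_iff.1 hx)) (fun x => (f : H →₀ H) x) (fun x _ => (f.2 x).1) hf g hg
    · exact Finsupp.notMem_support_iff.1 hg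
  have hsurj : Function.Surjective F₁ := fun a => by
    refine (Submodule.span_le.2 ?_ : _ ≤ LinearMap.range F₁) (exists_decomp (k := L) a)
    rintro _ ⟨g, b, hg, hb, rfl⟩
    exact ⟨⟨_, hsingle hg hb⟩, by simp [F₁]⟩
  refine ⟨F₂ ∘ₗ (LinearEquiv.ofBijective F₁ ⟨hinj, hsurj⟩).symm.toLinearMap, fun g b hg hb => ?_⟩
  have h1 : g * b = LinearEquiv.ofBijective F₁ ⟨hinj, hsurj⟩ ⟨_, hsingle hg hb⟩ := by simp [F₁]
  rw [LinearMap.comp_apply, h1, LinearEquiv.coe_coe, LinearEquiv.symm_apply_apply]
  simp [F₂]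

/-- The projection onto the span of the group-like elements. -/
theorem exists_proj : ∃ Φ : H →ₐc[L] H, ∀ g b, IsGroupLikeElem L g → b ∈ uni L H →
    Φ (g * b) = (CoalgebraStruct.counit (R := L) b) • g := by
  obtain ⟨Φ, hΦ⟩ := exists_linProj (L := L) (H := H)
  have h1 : Φ 1 = 1 := by
    have := hΦ 1 1 IsGroupLikeElem.one (one_mem _)
    rwa [one_mul, Bialgebra.counit_one, one_smul] at this
  have hmul : ∀ x y, Φ (x * y) = Φ x * Φ y := by
    have : (LinearMap.mul L H).compr₂ Φ = (LinearMap.mul L H).compl₁₂ Φ Φ := by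
      refine ext_on fun g b hg hb => ext_on fun g' b' hg' hb' => ?_
      show Φ (g * b * (g' * b')) = Φ (g * b) * Φ (g' * b')
      rw [mul_mul_mul_comm, hΦ _ _ (hg.mul hg') (mul_mem hb hb'), hΦ g b hg hb, hΦ g' b' hg' hb', Bialgebra.counit_mul,
        smul_mul_smul_comm]
    exact fun x y => LinearMap.congr_fun₂ this x y
  let ΦA : H →ₐ[L] H := AlgHom.ofLinearMap Φ h1 hmul
  refine ⟨BialgHom.ofAlgHom ΦA (AlgHom.toLinearMap_injective (ext_on fun g b hg hb => ?_))
    (AlgHom.toLinearMap_injective (ext_on fun g b hg hb => ?_)), fun g b hg hb => hΦ g b hg hb⟩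
  · show CoalgebraStruct.counit (R := L) (Φ (g * b)) = CoalgebraStruct.counit (R := L) (g * b)
    rw [hΦ g b hg hb, map_smul, hg.counit_eq_one, Bialgebra.counit_mul, hg.counit_eq_one, one_mul, smul_eq_mul,
      _root_.mul_one]
  · show TensorProduct.map Φ Φ (CoalgebraStruct.comul (R := L) (g * b)) = CoalgebraStruct.comul (R := L) (Φ (g * b))
    rw [hΦ g b hg hb, map_smul, hg.comul_eq_tmul_self, Bialgebra.comul_mul, hg.comul_eq_tmul_self]
    obtain ⟨t, ht⟩ := (isHopfSub_uni (k := L) (A := H)).1 b hb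
    have key : ∀ t : (uni L H) ⊗[L] (uni L H),
        TensorProduct.map Φ Φ ((g ⊗ₜ[L] g) * TensorProduct.map (uni L H).val.toLinearMap (uni L H).val.toLinearMap t) =
        LinearMap.mul' L L (TensorProduct.map (CoalgebraStruct.counit (R := L) (A := H))
          (CoalgebraStruct.counit (R := L) (A := H))
          (TensorProduct.map (uni L H).val.toLinearMap (uni L H).val.toLinearMap t)) • (g ⊗ₜ[L] g) := by
      intro t
      induction t using TensorProduct.induction_on with
      | zero => simp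
      | tmul x y => simp [hΦ g x hg x.2, hΦ g y hg y.2, TensorProduct.smul_tmul', TensorProduct.tmul_smul, smul_smul, mul_comm]
      | add u v hu hv => simp only [map_add, mul_add, add_smul, hu, hv]
    rw [← ht]
    refine (key t).trans ?_
    congr 1
    rw [ht]
    show conv (CoalgebraStruct.counit (R := L)) (CoalgebraStruct.counit (R := L)) b = _
    rw [counit_conv]

end Proj

section Descent

variable {k : Type u} [Field k] {A : Type u} [CommRing A] [HopfAlgebra k A] [Coalgebra.IsCocomm k A]

local notation "K" => AlgebraicClosure k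

theorem mapA_smul (σ : K →ₐ[k] K) (c : K) (x : K ⊗[k] A) : mapA σ (c • x) = σ c • mapA σ x := by
  induction x using TensorProduct.induction_on with
  | zero => simp
  | tmul t a => simp [TensorProduct.smul_tmul']
  | add u w hu hw => simp only [smul_add, map_add, hu, hw]

theorem mapA_mem_uni (σ : K →ₐ[k] K) {b : K ⊗[k] A} (hb : b ∈ uni K (K ⊗[k] A)) :
    mapA σ b ∈ uni K (K ⊗[k] A) := by
  obtain ⟨n, hn⟩ := hb
  have h := mem_span_of_mem_coFil_baseChange K hn
  clear hn
  induction h using Submodule.span_induction with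
  | mem x hx =>
    obtain ⟨a, ha, rfl⟩ := hx
    rw [mapA_tmul, map_one]
    exact ⟨n, one_tmul_mem_coFil K ha⟩
  | zero => rw [map_zero]; exact zero_mem _
  | add x y _ _ hx hy => rw [map_add]; exact add_mem hx hy
  | smul c x _ hx => rw [mapA_smul]; exact Subalgebra.smul_mem _ hx _

theorem mem_range_of_fixed [PerfectField k] (z : K ⊗[k] A) (hz : ∀ σ : K ≃ₐ[k] K, mapA (σ : K →ₐ[k] K) z = z) :
    z ∈ (Algebra.TensorProduct.includeRight : A →ₐ[k] K ⊗[k] A).range := by
  haveI : IsGalois k K := ⟨⟩
  let b := Module.Basis.ofVectorSpace k A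
  let bK := Algebra.TensorProduct.basis K b
  have hrepr : ∀ (σ : K ≃ₐ[k] K) (z : K ⊗[k] A) i, bK.repr (mapA (σ : K →ₐ[k] K) z) i = σ (bK.repr z i) := by
    intro σ z i
    induction z using TensorProduct.induction_on with
    | zero => simp
    | add z z' hz hz' => simp only [map_add, Finsupp.add_apply, hz, hz']
    | tmul c w => simp [bK, Algebra.TensorProduct.basis_repr_tmul, Algebra.smul_def]
  rw [← bK.linearCombination_repr z]
  refine Subalgebra.sum_mem _ fun i _ => ?_
  obtain ⟨c, hc⟩ := (InfiniteGalois.mem_range_algebraMap_iff_fixed (bK.repr z i)).2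
    fun σ => by rw [← hrepr, hz]
  refine ⟨c • b i, ?_⟩
  simp [bK, ← hc, algebraMap_smul]

/-- The Jordan projection descends to a perfect field. -/
theorem exists_proj_descended [PerfectField k] : ∃ π : A →ₐc[k] A,
    (∀ b ∈ uni k A, π b = algebraMap k A (CoalgebraStruct.counit (R := k) b)) ∧
      ∀ g : K ⊗[k] A, IsGroupLikeElem K g → Algebra.TensorProduct.map (AlgHom.id K K) (π : A →ₐ[k] A) g = g := by
  obtain ⟨Φ, hΦ⟩ := exists_proj (L := K) (H := K ⊗[k] A)
  have heq : ∀ (σ : K ≃ₐ[k] K) (z : K ⊗[k] A), mapA (σ : K →ₐ[k] K) (Φ z) = Φ (mapA (σ : K →ₐ[k] K) z) := by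
    intro σ z
    have hz := exists_decomp (k := K) z
    induction hz using Submodule.span_induction with
    | mem x hx =>
      obtain ⟨g, b, hg, hb, rfl⟩ := hx
      rw [hΦ g b hg hb, mapA_smul, map_mul,
        hΦ _ _ ((isGL_iff _).1 (((isGL_iff g).2 hg).map (σ : K →ₐ[k] K))) (mapA_mem_uni _ hb)]
      congr 1
      exact (counit_mapA (σ : K →ₐ[k] K) b).symm
    | zero => simp only [map_zero]
    | add x y _ _ hx hy => simp only [map_add, hx, hy]
    | smul c x _ hx => rw [map_smul, mapA_smul, hx, mapA_smul, map_smul]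
  let ι : A →ₐ[k] K ⊗[k] A := Algebra.TensorProduct.includeRight
  have hι : Function.Injective ι := one_tmul_inj K
  have hfix : ∀ a, Φ (ι a) ∈ ι.range := fun a => mem_range_of_fixed _ fun σ => by
    rw [heq σ (ι a)]
    congr 1
    show mapA (σ : K →ₐ[k] K) ((1 : K) ⊗ₜ[k] a) = (1 : K) ⊗ₜ[k] a
    rw [mapA_tmul, map_one]
  let π₀ : A →ₐ[k] A := (AlgEquiv.ofInjective ι hι).symm.toAlgHom.comp
    ((((Φ : K ⊗[k] A →ₐ[K] K ⊗[k] A).restrictScalars k).comp ι).codRestrict ι.range hfix)
  have hπ : ∀ a, (1 : K) ⊗ₜ[k] π₀ a = Φ ((1 : K) ⊗ₜ[k] a) := fun a =>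
    congrArg Subtype.val ((AlgEquiv.ofInjective ι hι).apply_symm_apply ⟨Φ (ι a), hfix a⟩)
  let π : A →ₐc[k] A := BialgHom.ofAlgHom π₀ (AlgHom.ext fun a => (algebraMap k K).injective (by
      have h := CoalgHomClass.counit_comp_apply Φ ((1 : K) ⊗ₜ[k] a)
      rw [← hπ a] at h
      simpa [Algebra.algebraMap_eq_smul_one] using h))
    (AlgHom.ext fun a => one_tmul_inj (A := A ⊗[k] A) K (by
      show (1 : K) ⊗ₜ[k] (TensorProduct.map π₀.toLinearMap π₀.toLinearMap (CoalgebraStruct.comul (R := k) a)) =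
        comulT K ((1 : K) ⊗ₜ[k] π₀ a)
      rw [← psi_comul, hπ a, ← CoalgHomClass.map_comp_comul_apply Φ ((1 : K) ⊗ₜ[k] a), comul_one_tmul]
      generalize CoalgebraStruct.comul (R := k) a = z
      induction z using TensorProduct.induction_on with
      | zero => simp
      | tmul x y => simp [psi_tmul, inl2, inr2, ← hπ]
      | add x y hx hy => simp only [TensorProduct.tmul_add, map_add, hx, hy]))
  have hK : ∀ z, Algebra.TensorProduct.map (AlgHom.id K K) (π : A →ₐ[k] A) z = Φ z := by
    intro z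
    induction z using TensorProduct.induction_on with
    | zero => simp
    | add x y hx hy => simp only [map_add, hx, hy]
    | tmul s a =>
      show s ⊗ₜ[k] π₀ a = Φ (s ⊗ₜ[k] a)
      rw [show s ⊗ₜ[k] π₀ a = s • ((1 : K) ⊗ₜ[k] π₀ a) by rw [TensorProduct.smul_tmul', smul_eq_mul, _root_.mul_one],
        hπ, ← map_smul, TensorProduct.smul_tmul', smul_eq_mul, _root_.mul_one]
  refine ⟨π, fun b ⟨n, hn⟩ => hι ?_, fun g hg => ?_⟩
  · show (1 : K) ⊗ₜ[k] π₀ b = ι (algebraMap k A _)
    rw [AlgHom.commutes, hπ, ← one_mul ((1 : K) ⊗ₜ[k] b), hΦ 1 _ IsGroupLikeElem.one ⟨n, one_tmul_mem_coFil K hn⟩,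
      IsScalarTower.algebraMap_apply k K, Algebra.algebraMap_eq_smul_one (A := K ⊗[k] A)]
    simp [Algebra.algebraMap_eq_smul_one]
  · rw [hK]
    conv_lhs => rw [← _root_.mul_one g]
    rw [hΦ g 1 hg (one_mem _), Bialgebra.counit_one, one_smul]

end Descent

section Split

variable {k : Type u} [Field k] {A : Type u} [CommRing A] [HopfAlgebra k A]

local notation "K" => AlgebraicClosure k

/-- Convolution evaluated at a geometric group-like element. -/
theorem map_convMul_groupLike (f₁ f₂ : WithConv (A →ₐ[k] A)) {g : K ⊗[k] A} (hg : IsGroupLikeElem K g) :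
    Algebra.TensorProduct.map (AlgHom.id K K) (f₁ * f₂).ofConv g =
      Algebra.TensorProduct.map (AlgHom.id K K) f₁.ofConv g * Algebra.TensorProduct.map (AlgHom.id K K) f₂.ofConv g := by
  let M : K ⊗[k] (A ⊗[k] A) →ₐ[K] K ⊗[k] A := Algebra.TensorProduct.map (AlgHom.id K K)
    ((Algebra.TensorProduct.lmul' k).comp (Algebra.TensorProduct.map f₁.ofConv f₂.ofConv))
  have h1 : ∀ x, M (comulT K x) = Algebra.TensorProduct.map (AlgHom.id K K) (f₁ * f₂).ofConv x := by
    intro x
    induction x using TensorProduct.induction_on with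
    | zero => simp
    | tmul t a => rfl
    | add u w hu hw => simp only [map_add, hu, hw]
  have h2 : ∀ x, M (inl2 K x) = Algebra.TensorProduct.map (AlgHom.id K K) f₁.ofConv x := by
    intro x
    induction x using TensorProduct.induction_on with
    | zero => simp
    | tmul t a => simp [M, inl2]
    | add u w hu hw => simp only [map_add, hu, hw]
  have h3 : ∀ x, M (inr2 K x) = Algebra.TensorProduct.map (AlgHom.id K K) f₂.ofConv x := by
    intro x
    induction x using TensorProduct.induction_on with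
    | zero => simp
    | tmul t a => simp [M, inr2]
    | add u w hu hw => simp only [map_add, hu, hw]
  rw [← h1, ((isGL_iff g).2 hg).2, map_mul, h2, h3]

theorem map_one_apply (z : K ⊗[k] A) :
    Algebra.TensorProduct.map (AlgHom.id K K) (1 : WithConv (A →ₐ[k] A)).ofConv z =
      algebraMap K _ (CoalgebraStruct.counit (R := K) z) := by
  induction z using TensorProduct.induction_on with
  | zero => simp
  | add u w hu hw => simp only [map_add, hu, hw]
  | tmul t a =>
    show t ⊗ₜ[k] algebraMap k A (CoalgebraStruct.counit (R := k) a) = _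
    rw [TensorProduct.counit_tmul, CommSemiring.counit_apply, Algebra.algebraMap_eq_smul_one (A := A),
      TensorProduct.tmul_smul, TensorProduct.smul_tmul', Algebra.TensorProduct.algebraMap_apply]
    rfl

variable [Coalgebra.IsCocomm k A]

variable (k A) in
/-- The antipode of a cocommutative commutative Hopf algebra as a bialgebra map. -/
def antipodeHom : A →ₐc[k] A :=
  BialgHom.ofAlgHom (HopfAlgebra.antipodeAlgHom k A) AlgHom.counitAlgHom_comp_antipodeAlgHom
    (AlgHom.ext fun a => by
      show TensorProduct.map (HopfAlgebra.antipode k) (HopfAlgebra.antipode k) (CoalgebraStruct.comul (R := k) a) =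
        CoalgebraStruct.comul (R := k) (HopfAlgebra.antipode k a)
      rw [comul_antipode, Coalgebra.comm_comul])

/-- The complement of a projection. -/
def compl (π : A →ₐc[k] A) : A →ₐc[k] A :=
  (Bialgebra.mulBialgHom k A).comp
    ((Bialgebra.TensorProduct.map (π.comp (antipodeHom k A)) (BialgHom.id k A)).comp (Bialgebra.comulBialgHom k A))

theorem compl_toConv (π : A →ₐc[k] A) :
    toConv (compl π : A →ₐ[k] A) = (toConv (π : A →ₐ[k] A))⁻¹ * toConv (AlgHom.id k A) := rfl

/-- The Jordan splitting. -/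
theorem exists_split [PerfectField k] : ∃ π υ : A →ₐc[k] A,
    toConv (π : A →ₐ[k] A) * toConv (υ : A →ₐ[k] A) = toConv (AlgHom.id k A) ∧
    (∀ b ∈ uni k A, π b = algebraMap k A (CoalgebraStruct.counit (R := k) b)) ∧
    (∀ b ∈ uni k A, υ b = b) ∧ (∀ a, υ a ∈ uni k A) ∧
    (∀ a, υ (π a) = algebraMap k A (CoalgebraStruct.counit (R := k) a)) ∧
    (∀ g : K ⊗[k] A, IsGroupLikeElem K g → Algebra.TensorProduct.map (AlgHom.id K K) (π : A →ₐ[k] A) g = g) := by
  obtain ⟨π, hπu, hπg⟩ := exists_proj_descended (k := k) (A := A)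
  let P : WithConv (A →ₐ[k] A) := toConv (π : A →ₐ[k] A)
  let I : WithConv (A →ₐ[k] A) := toConv (AlgHom.id k A)
  let υ := compl π
  have hυ : toConv (υ : A →ₐ[k] A) = P⁻¹ * I := compl_toConv π
  have hυ' : ∀ a, υ a = (P⁻¹ * I).ofConv a := fun a => congrArg (fun f : WithConv (A →ₐ[k] A) => f.ofConv a) hυ
  have hPi : ∀ x ∈ uni k A, (P⁻¹).ofConv x = algebraMap k A (CoalgebraStruct.counit (R := k) x) := fun x hx => by
    show π (HopfAlgebra.antipode k x) = _
    rw [hπu _ ((isHopfSub_uni (k := k) (A := A)).2 x hx), HopfAlgebra.counit_antipode]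
  have hυu : ∀ b ∈ uni k A, υ b = b := by
    intro b hb
    rw [hυ' b]
    obtain ⟨t, ht⟩ := (isHopfSub_uni (k := k) (A := A)).1 b hb
    have h1 : (P⁻¹ * I).ofConv b = ((1 : WithConv (A →ₐ[k] A)) * I).ofConv b := by
      show LinearMap.mul' k A (TensorProduct.map (P⁻¹).ofConv.toLinearMap I.ofConv.toLinearMap (CoalgebraStruct.comul (R := k) b)) =
        LinearMap.mul' k A (TensorProduct.map (1 : WithConv (A →ₐ[k] A)).ofConv.toLinearMap I.ofConv.toLinearMap
          (CoalgebraStruct.comul (R := k) b))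
      rw [← ht]
      clear ht
      induction t using TensorProduct.induction_on with
      | zero => simp
      | add u v hu hv => simp only [map_add, hu, hv]
      | tmul x y =>
        simp only [TensorProduct.map_tmul, LinearMap.mul'_apply]
        congr 1
        exact hPi x x.2
    rw [h1, one_mul]
    rfl
  have hgl : ∀ g : K ⊗[k] A, IsGroupLikeElem K g →
      Algebra.TensorProduct.map (AlgHom.id K K) (υ : A →ₐ[k] A) g = 1 := fun g hg => by
    have h1 : Algebra.TensorProduct.map (AlgHom.id K K) (P⁻¹).ofConv g * g = 1 := by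
      have h := map_convMul_groupLike P⁻¹ P hg
      rw [inv_mul_cancel, map_one_apply, hg.counit_eq_one, map_one] at h
      rw [show Algebra.TensorProduct.map (AlgHom.id K K) P.ofConv g = g from hπg g hg] at h
      exact h.symm
    have h2 := map_convMul_groupLike P⁻¹ I hg
    rw [show (υ : A →ₐ[k] A) = (P⁻¹ * I).ofConv from congrArg WithConv.ofConv hυ, h2]
    refine Eq.trans ?_ h1
    congr 1
    simp [I]
  have hπK : ∀ b ∈ uni K (K ⊗[k] A), Algebra.TensorProduct.map (AlgHom.id K K) (π : A →ₐ[k] A) b =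
      algebraMap K _ (CoalgebraStruct.counit (R := K) b) := by
    rintro b ⟨n, hn⟩
    refine LinearMap.eqOn_span ?_ (mem_span_of_mem_coFil_baseChange K hn)
      (f := (Algebra.TensorProduct.map (AlgHom.id K K) (π : A →ₐ[k] A)).toLinearMap)
      (g := (Algebra.linearMap K (K ⊗[k] A)) ∘ₗ CoalgebraStruct.counit (R := K))
    rintro _ ⟨a, ha, rfl⟩
    show (1 : K) ⊗ₜ[k] π a = algebraMap K _ (CoalgebraStruct.counit (R := K) ((1 : K) ⊗ₜ[k] a))
    rw [hπu a ⟨n, ha⟩, TensorProduct.counit_tmul, CommSemiring.counit_apply, Algebra.algebraMap_eq_smul_one (A := A),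
      TensorProduct.tmul_smul, TensorProduct.smul_tmul', Algebra.TensorProduct.algebraMap_apply]
    rfl
  have hυK : ∀ b ∈ uni K (K ⊗[k] A), Algebra.TensorProduct.map (AlgHom.id K K) (υ : A →ₐ[k] A) b = b := by
    rintro b ⟨n, hn⟩
    refine LinearMap.eqOn_span ?_ (mem_span_of_mem_coFil_baseChange K hn)
      (f := (Algebra.TensorProduct.map (AlgHom.id K K) (υ : A →ₐ[k] A)).toLinearMap) (g := LinearMap.id)
    rintro _ ⟨a, ha, rfl⟩
    show (1 : K) ⊗ₜ[k] υ a = _
    rw [hυu a ⟨n, ha⟩]
    rfl
  have hππ : ∀ a, π (π a) = π a := by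
    intro a
    let T := Algebra.TensorProduct.map (AlgHom.id K K) (π : A →ₐ[k] A)
    have h : T.toLinearMap ∘ₗ T.toLinearMap = T.toLinearMap := ext_on fun g b hg hb => by
      show T (T (g * b)) = T (g * b)
      rw [map_mul T, hπg g hg, hπK b hb, map_mul T, hπg g hg, AlgHom.commutes]
    exact one_tmul_inj K
      (LinearMap.congr_fun h ((1 : K) ⊗ₜ[k] a))
  refine ⟨π, υ, ?_, hπu, hυu, fun a => ?_, fun a => ?_, hπg⟩
  · rw [hυ]
    exact mul_inv_cancel_left P I
  · have h := exists_decomp (k := K) ((1 : K) ⊗ₜ[k] a)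
    obtain ⟨n, hn⟩ : Algebra.TensorProduct.map (AlgHom.id K K) (υ : A →ₐ[k] A) ((1 : K) ⊗ₜ[k] a) ∈
        uni K (K ⊗[k] A) := by
      revert h
      generalize (1 : K) ⊗ₜ[k] a = z
      intro h
      induction h using Submodule.span_induction with
      | mem x hx =>
        obtain ⟨g, b, hg, hb, rfl⟩ := hx
        rw [map_mul, hgl g hg, one_mul, hυK b hb]
        exact hb
      | zero => rw [map_zero]; exact zero_mem _
      | add x y _ _ hx hy => rw [map_add]; exact add_mem hx hy
      | smul c x _ hx => rw [map_smul]; exact Subalgebra.smul_mem _ hx _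
    exact ⟨n, mem_coFil_of_one_tmul K hn⟩
  · have h1 := AlgHom.convMul_comp_bialgHom_distrib (P⁻¹) I π
    have h2 := AlgHom.convMul_comp_bialgHom_distrib (P⁻¹) P π
    have hPπ : P.ofConv.comp (π : A →ₐ[k] A) = (π : A →ₐ[k] A) := AlgHom.ext hππ
    rw [hPπ, inv_mul_cancel] at h2
    rw [hυ' (π a)]
    have h3 : (P⁻¹ * I).ofConv.comp (π : A →ₐ[k] A) = (1 : WithConv (A →ₐ[k] A)).ofConv.comp (π : A →ₐ[k] A) :=
      h1.trans h2.symm
    refine (AlgHom.congr_fun h3 a).trans ?_
    show algebraMap k A (CoalgebraStruct.counit (R := k) (π a)) = _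
    rw [CoalgHomClass.counit_comp_apply π a]

end Split

end

end Groth.Agent.H19Chev.JordanSplit
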