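import Groth.Agent.H19Chev.ProperQuotient
import Groth.Agent.S4656

/-!
# The smallest normal subgroup with proper quotient
-/

set_option autoImplicit false
set_option linter.style.haveILetI false
set_option backward.isDefEq.respectTransparency false
set_option maxHeartbeats 1000000
set_option synthInstance.maxHeartbeats 400000
universe u

open CategoryTheory CategoryTheory.Limits MonoidalCategory CartesianMonoidalCategory MonObj AlgebraicGeometry
open Groth.Agent Groth.Agent.H25AbCube Groth.Agent.H19Quot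

noncomputable section

namespace Groth.Agent.H19Chev

attribute [local instance] Functor.grpObjObj

variable {k : Type u} [Field k]

local notation "Pts" X => 𝟙_ (Over (Spec (CommRingCat.of k))) ⟶ X

/-- Ideal sheaves on a noetherian scheme of finite type over a field satisfy the ascending chain
condition. -/
theorem wellFounded_gt_idealSheaf (X : Over (Spec (CommRingCat.of k))) [LocallyOfFiniteType X.hom] [QuasiCompact X.hom] :
    WellFounded ((· > ·) : X.left.IdealSheafData → X.left.IdealSheafData → Prop) := by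
  classical
  haveI : IsNoetherianRing (CommRingCat.of k) := inferInstanceAs (IsNoetherianRing k)
  haveI : IsLocallyNoetherian X.left := LocallyOfFiniteType.isLocallyNoetherian X.hom
  haveI : CompactSpace X.left := QuasiCompact.compactSpace_of_compactSpace X.hom
  obtain ⟨t, ht⟩ := isCompact_univ.elim_finite_subcover (fun U : X.left.affineOpens => (U.1 : Set X.left))
    (fun U => U.1.2) (fun z _ => by
      obtain ⟨_, ⟨U, hU, rfl⟩, hz, -⟩ := X.left.isBasis_affineOpens.exists_subset_of_mem_open
        (Set.mem_univ z) isOpen_univ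
      exact Set.mem_iUnion.2 ⟨⟨U, hU⟩, hz⟩)
  haveI : ∀ U : t, IsNoetherianRing Γ(X.left, U.1.1) := fun U =>
    IsLocallyNoetherian.component_noetherian (X := X.left) U.1
  let f : X.left.IdealSheafData → Ideal (∀ U : t, Γ(X.left, U.1.1)) := fun I =>
    ⨅ U : t, (I.ideal U.1).comap (Pi.evalRingHom (fun U : t => Γ(X.left, U.1.1)) U)
  have hmem : ∀ (I : X.left.IdealSheafData) (U : t) (a : Γ(X.left, U.1.1)), Pi.single U a ∈ f I ↔ a ∈ I.ideal U.1 := by
    intro I U a
    simp only [f, Ideal.mem_iInf, Ideal.mem_comap, Pi.evalRingHom_apply]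
    constructor
    · intro h
      simpa using h U
    · intro h V
      rcases eq_or_ne V U with rfl | hne
      · simpa using h
      · rw [Pi.single_eq_of_ne hne]; exact zero_mem _
  have hinj : Function.Injective f := fun I J h => by
    refine Scheme.IdealSheafData.ext_of_iSup_eq_top (fun U : t => U.1) ?_ fun U => ?_
    · refine eq_top_iff.2 fun z _ => ?_
      obtain ⟨U, hU, hzU⟩ := Set.mem_iUnion₂.1 (ht (Set.mem_univ z))
      exact TopologicalSpace.Opens.mem_iSup.2 ⟨⟨U, hU⟩, hzU⟩
    · ext a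
      rw [← hmem I U a, h, hmem J U a]
  have hmono : Monotone f := fun I J h => iInf_mono fun U => Ideal.comap_mono (h U.1)
  haveI : WellFoundedGT (Ideal (∀ U : t, Γ(X.left, U.1.1))) := isNoetherian_iff'.1 inferInstance
  exact (InvImage.wf f (wellFounded_gt :
    WellFounded ((· > ·) : Ideal (∀ U : t, Γ(X.left, U.1.1)) → _ → Prop))).mono
    fun I J h => (hmono.strictMono_of_injective hinj) h

/-- There is a smallest normal subgroup with proper quotient, and it is affine. -/
theorem exists_min_proper_quotient (G : Over (Spec (CommRingCat.of k))) [GrpObj G] [LocallyOfFiniteType G.hom]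
    [QuasiCompact G.hom] :
    ∃ (N : Over (Spec (CommRingCat.of k))) (_ : GrpObj N) (i : N ⟶ G) (Q : Over (Spec (CommRingCat.of k)))
      (_ : GrpObj Q) (q : G ⟶ Q), IsMonHom i ∧ IsClosedImmersion i.left ∧ IsAffine N.left ∧
        AlgGrp.IsNormalHom i ∧ IsMonHom q ∧ Surjective q.left ∧ Flat q.left ∧
        LocallyOfFinitePresentation q.left ∧ AlgGrp.IsKernel i q ∧ IsProper Q.hom ∧
        ∀ (Q' : Over (Spec (CommRingCat.of k))) [GrpObj Q'] [IsProper Q'.hom] (q' : G ⟶ Q') [IsMonHom q'],
          i ≫ q' = 1 := by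
  let S : Set G.left.IdealSheafData := {I | ∃ (N : Over (Spec (CommRingCat.of k))) (_ : GrpObj N) (i : N ⟶ G)
      (Q : Over (Spec (CommRingCat.of k))) (_ : GrpObj Q) (q : G ⟶ Q), IsMonHom i ∧ IsClosedImmersion i.left ∧
        IsAffine N.left ∧ AlgGrp.IsNormalHom i ∧ IsMonHom q ∧ Surjective q.left ∧ Flat q.left ∧
        LocallyOfFinitePresentation q.left ∧ AlgGrp.IsKernel i q ∧ IsProper Q.hom ∧ i.left.ker = I}
  obtain ⟨N₁, gN₁, i₁, Q₁, gQ₁, q₁, h1, h2, h3, h4, h5, h6, h7, h8, h9, h10⟩ := exists_affine_proper_quotient G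
  obtain ⟨I, ⟨N, gN, i, Q, gQ, q, hi, hic, hNa, hNn, hq, hqs, hqf, hqp, hk, hQp, hI⟩, hmax⟩ :=
    (wellFounded_gt_idealSheaf G).has_min S ⟨_, N₁, gN₁, i₁, Q₁, gQ₁, q₁, h1, h2, h3, h4, h5, h6, h7, h8, h9, h10, rfl⟩
  haveI := hi; haveI := hic; haveI := hNa; haveI := hq; haveI := hQp
  refine ⟨N, gN, i, Q, gQ, q, hi, hic, hNa, hNn, hq, hqs, hqf, hqp, hk, hQp, fun Q' _ _ q' _ => ?_⟩
  let f : G ⟶ Q ⊗ Q' := lift q q'
  haveI : IsMonHom f := inferInstance
  haveI : IsProper (Q ⊗ Q').hom := by
    show IsProper (pullback.fst Q.hom Q'.hom ≫ Q.hom); infer_instance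
  obtain ⟨C, gC, p, iC, hp, hiC, hpi, hpf, hps, hpp, hiCc⟩ :=
    AbelianCat.exists_image f ⟨inferInstance, inferInstance⟩ ⟨inferInstance, inferInstance⟩
  haveI := hp; haveI := hiC; haveI := hpf; haveI := hps; haveI := hpp; haveI := hiCc
  haveI : Mono iC := Over.mono_of_mono_left _
  haveI hCp : IsProper C.hom := by rw [← Over.w iC]; infer_instance
  obtain ⟨M, gM, m, hm, hmc, hkM⟩ := H19Grp.AffineQuotient.exists_kernel p
  haveI := hm; haveI := hmc
  have hmn : AlgGrp.IsNormalHom m := fun T g x => by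
    obtain ⟨z, hz⟩ := H19Grp.kernel_lift hkM (g * (x ≫ m) * g⁻¹) (by
      rw [MonObj.mul_comp, MonObj.mul_comp, GrpObj.inv_comp, Category.assoc x m, H19Grp.kernel_comp_eq_one hkM,
        MonObj.comp_one, _root_.mul_one, mul_inv_cancel])
    exact ⟨z, hz.symm⟩
  have hmf : m ≫ q = 1 ∧ m ≫ q' = 1 := by
    have h0 : m ≫ f = 1 := by
      rw [← hpi, ← Category.assoc, H19Grp.kernel_comp_eq_one hkM, MonObj.one_comp]
    constructor
    · have := congrArg (· ≫ fst Q Q') h0
      simpa [f, MonObj.one_comp] using this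
    · have := congrArg (· ≫ snd Q Q') h0
      simpa [f, MonObj.one_comp] using this
  obtain ⟨y, hy⟩ := H19Grp.kernel_lift hk m hmf.1
  haveI : IsClosedImmersion y.left := by
    haveI : IsClosedImmersion (y.left ≫ i.left) := by rw [← Over.comp_left, hy]; infer_instance
    exact IsClosedImmersion.of_comp y.left i.left
  have hle : i.left.ker ≤ m.left.ker := by
    rw [← hy, Over.comp_left]; exact Scheme.Hom.le_ker_comp _ _
  have heq : i.left.ker = m.left.ker := by
    refine eq_of_le_of_not_lt hle fun hlt => hmax m.left.ker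
      ⟨M, gM, m, C, gC, p, hm, hmc, isAffine_of_isAffineHom y.left, hmn, hp, hps, hpf, hpp, hkM, hCp, rfl⟩ ?_
    rw [← hI]; exact hlt
  have hz : IsClosedImmersion.lift m.left i.left heq.ge ≫ m.left = i.left := IsClosedImmersion.lift_fac _ _ _
  let z : N ⟶ M := Over.homMk (IsClosedImmersion.lift m.left i.left heq.ge) (by
    rw [← Over.w m, ← Category.assoc, hz, Over.w i])
  rw [← show z ≫ m = i from Over.OverMorphism.ext hz, Category.assoc, hmf.2, MonObj.comp_one]

/-- A homomorphism with finite kernel onto a proper group has a proper source. -/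
theorem isProper_of_finite_kernel {G Q K : Over (Spec (CommRingCat.of k))} [GrpObj G] [GrpObj Q] [GrpObj K]
    [LocallyOfFiniteType G.hom] [IsProper Q.hom] (κ : K ⟶ G) [IsMonHom κ] (f : G ⟶ Q) [IsMonHom f] [Flat f.left]
    [Surjective f.left] [QuasiCompact f.left] (hk : AlgGrp.IsKernel κ f) [IsFinite K.hom] : IsProper G.hom := by
  have hsq := H19Grp.isPullback_kernel f κ hk
  haveI : IsFinite (fst G K).left := by
    show IsFinite (pullback.fst G.hom K.hom)
    exact MorphismProperty.pullback_fst (P := @IsFinite) _ _ inferInstance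
  haveI : IsFinite f.left := by
    have hsq' : IsPullback (fst G K).left (fst G K * (snd G K ≫ κ)).left f.left f.left := hsq.map (Over.forget _)
    exact MorphismProperty.of_isPullback_of_descendsAlong (P := @IsFinite) (Q := H18Descent.fpqc)
      hsq' ⟨⟨inferInstance, inferInstance⟩, inferInstance⟩ inferInstance
  rw [← Over.w f]; infer_instance

/-- Flatness cancels on the right of a faithfully flat morphism. -/
theorem flat_of_comp_faithfullyFlat {U V S : Scheme.{u}} (φ : U ⟶ V) (g : V ⟶ S) [Flat φ]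
    [Surjective φ] [Flat (φ ≫ g)] : Flat g := by
  rw [Flat.iff_flat_stalkMap]
  intro v
  obtain ⟨x, rfl⟩ := φ.surjective v
  exact (S4656.result φ g x (Flat.stalkMap φ x)).1 (Flat.stalkMap _ x)

/-- The identity component of a normal subgroup is normal. -/
theorem isNormalHom_idComp {G N N₀ : Over (Spec (CommRingCat.of k))} [GrpObj G] [GrpObj N] [GrpObj N₀]
    (i : N ⟶ G) [IsMonHom i] [Mono i] (hN : AlgGrp.IsNormalHom i) (e : N₀ ⟶ N) [IsMonHom e] [IsOpenImmersion e.left]
    [IsClosedImmersion e.left] [ConnectedSpace N₀.left] [LocallyOfFiniteType N₀.hom] [QuasiCompact N₀.hom] :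
    AlgGrp.IsNormalHom (e ≫ i) := by
  haveI : GeometricallyConnected N₀.hom :=
    H28NT.geometricallyConnected_of_section N₀.hom η[N₀].left (Over.w η[N₀])
  obtain ⟨c, hc⟩ := hN _ (fst G N₀) (snd G N₀ ≫ e)
  have hclo : IsClopen (Set.range e.left) :=
    ⟨e.left.isClosedEmbedding.isClosed_range, e.left.isOpenEmbedding.isOpen_range⟩
  let sec : G ⟶ G ⊗ N₀ := lift (𝟙 G) 1
  have hsec : sec ≫ c = 1 := by
    rw [← cancel_mono i, Category.assoc, ← hc, MonObj.comp_mul, MonObj.comp_mul, GrpObj.comp_inv, lift_fst,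
      Category.assoc (snd G N₀), lift_snd_assoc, MonObj.one_comp, MonObj.one_comp, _root_.mul_one, mul_inv_cancel]
  have hone : ∀ g : G.left, (1 : G ⟶ N).left g ∈ Set.range e.left := fun g => by
    refine ⟨(1 : G ⟶ N₀).left g, ?_⟩
    rw [← Scheme.Hom.comp_apply, ← Over.comp_left, MonObj.one_comp]
  have hsub : Set.range c.left ⊆ Set.range e.left := by
    rintro _ ⟨w, rfl⟩
    let π : (G ⊗ N₀).left ⟶ G.left := (fst G N₀).left
    haveI : GeometricallyConnected π := inferInstanceAs (GeometricallyConnected (pullback.fst G.hom N₀.hom))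
    have hconn := π.isConnected_preimage_singleton (π w)
    have hmeet : ((π ⁻¹' {π w}) ∩ (c.left ⁻¹' Set.range e.left)).Nonempty := by
      refine ⟨sec.left (π w), ?_, ?_⟩
      · show π (sec.left (π w)) = π w
        rw [← Scheme.Hom.comp_apply, ← Over.comp_left, lift_fst, Over.id_left]
        rfl
      · show c.left (sec.left (π w)) ∈ Set.range e.left
        rw [← Scheme.Hom.comp_apply, ← Over.comp_left, hsec]
        exact hone _
    exact hconn.isPreconnected.subset_isClopen (hclo.preimage c.left.continuous) hmeet (show w ∈ π ⁻¹' {π w} from rfl)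
  intro T g x
  have hlo : IsOpenImmersion.lift e.left c.left hsub ≫ e.left = c.left := IsOpenImmersion.lift_fac _ _ _
  let z : G ⊗ N₀ ⟶ N₀ := Over.homMk (IsOpenImmersion.lift e.left c.left hsub) (by
    rw [← Over.w e, ← Category.assoc, hlo, Over.w c])
  have hz : z ≫ e = c := Over.OverMorphism.ext hlo
  refine ⟨lift g x ≫ z, ?_⟩
  rw [Category.assoc, reassoc_of% hz, ← hc, MonObj.comp_mul, MonObj.comp_mul, GrpObj.comp_inv, lift_fst]
  simp only [Category.assoc, lift_snd_assoc]

/-- A subgroup killed by every homomorphism to a proper group, with proper quotient, is connected. -/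
theorem connectedSpace_of_min {G N Q : Over (Spec (CommRingCat.of k))} [GrpObj G] [GrpObj N] [GrpObj Q]
    [LocallyOfFiniteType G.hom] [QuasiCompact G.hom] [IsProper Q.hom] (i : N ⟶ G) [IsMonHom i]
    [IsClosedImmersion i.left] (hN : AlgGrp.IsNormalHom i) (q : G ⟶ Q) [IsMonHom q] [Flat q.left] [Surjective q.left]
    [LocallyOfFinitePresentation q.left] (hk : AlgGrp.IsKernel i q)
    (hmin : ∀ (Q' : Over (Spec (CommRingCat.of k))) [GrpObj Q'] [IsProper Q'.hom] (q' : G ⟶ Q') [IsMonHom q'],
      i ≫ q' = 1) : ConnectedSpace N.left := by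
  classical
  haveI : Mono i := Over.mono_of_mono_left _
  haveI : LocallyOfFiniteType N.hom := by rw [← Over.w i]; infer_instance
  haveI : QuasiCompact N.hom := by rw [← Over.w i]; infer_instance
  obtain ⟨N₀, gN₀, e, he, hec, heo, hNc, hNl, hNq, h1⟩ := exists_open_idComp N
  haveI := he; haveI := hec; haveI := heo; haveI := hNc; haveI := hNl; haveI := hNq
  haveI : Mono e := Over.mono_of_mono_left _
  have hn₀ := isNormalHom_idComp i hN e
  haveI : IsClosedImmersion (e ≫ i).left := by rw [Over.comp_left]; infer_instance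
  obtain ⟨Q₀, gQ₀, q₀, hq₀, hQ₀l, hQ₀q, hq₀f, hq₀s, hq₀p, hk₀⟩ := H19Quot.exists_quotientGroup (e ≫ i) hn₀
  haveI := hq₀; haveI := hQ₀l; haveI := hQ₀q; haveI := hq₀f; haveI := hq₀s; haveI := hq₀p
  obtain ⟨χ, hχ, -⟩ := H19Grp.QuotientDesc.existsUnique_desc q₀ q fun T a b hab => by
    obtain ⟨x, hx⟩ := H19Grp.kernel_lift hk₀ (a * b⁻¹) (by
      rw [MonObj.mul_comp, GrpObj.inv_comp, hab, mul_inv_cancel])
    have h1' : (a * b⁻¹) ≫ q = 1 := by
      rw [← hx, Category.assoc, Category.assoc, H19Grp.kernel_comp_eq_one hk, MonObj.comp_one, MonObj.comp_one]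
    rwa [MonObj.mul_comp, GrpObj.inv_comp, mul_inv_eq_one] at h1'
  haveI : IsMonHom χ := by
    refine ⟨?_, ?_⟩
    · rw [← IsMonHom.one_hom (f := q₀), Category.assoc, hχ, IsMonHom.one_hom]
    · have := H19Grp.epi_tensorHom_of_fpqc q₀ q₀
      rw [← cancel_epi (q₀ ⊗ₘ q₀), ← IsMonHom.mul_hom_assoc, hχ, tensorHom_comp_tensorHom_assoc, hχ, IsMonHom.mul_hom]
  obtain ⟨K, gK, κ, hκ, hκc, hkK⟩ := H19Grp.AffineQuotient.exists_kernel χ
  haveI := hκ; haveI := hκc
  haveI : LocallyOfFiniteType K.hom := by rw [← Over.w κ]; infer_instance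
  haveI : QuasiCompact K.hom := by rw [← Over.w κ]; infer_instance
  haveI : Mono κ := Over.mono_of_mono_left _
  obtain ⟨pN, hpN⟩ := H19Grp.kernel_lift hkK (i ≫ q₀) (by
    rw [Category.assoc, hχ]; exact H19Grp.kernel_comp_eq_one hk)
  haveI : Surjective pN.left := by
    let P : Over (Spec (CommRingCat.of k)) := Over.mk (pullback.fst q₀.left κ.left ≫ G.hom)
    let a : P ⟶ G := Over.homMk (pullback.fst q₀.left κ.left) rfl
    let b : P ⟶ K := Over.homMk (pullback.snd q₀.left κ.left) (by
      show pullback.snd q₀.left κ.left ≫ K.hom = pullback.fst q₀.left κ.left ≫ G.hom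
      rw [← Over.w κ, ← Over.w q₀, pullback.condition_assoc])
    have hab : a ≫ q₀ = b ≫ κ := Over.OverMorphism.ext pullback.condition
    obtain ⟨y, hy⟩ := H19Grp.kernel_lift hk a (by
      rw [← hχ, ← Category.assoc, hab, Category.assoc, H19Grp.kernel_comp_eq_one hkK, MonObj.comp_one])
    have hyb : y ≫ pN = b := by
      rw [← cancel_mono κ, Category.assoc, hpN, ← Category.assoc, hy, hab]
    haveI : Surjective (y ≫ pN).left := by
      rw [hyb]; exact inferInstanceAs (Surjective (pullback.snd q₀.left κ.left))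
    haveI : Surjective (y.left ≫ pN.left) := by rw [← Over.comp_left]; infer_instance
    exact Surjective.of_comp y.left pN.left
  haveI hKf : IsFinite K.hom := by
    let Ω := AlgebraicClosure k
    let F := GeomTate.bc k Ω
    haveI := GeomTate.flat_σ k Ω
    haveI := GeomTate.surjective_σ k Ω
    haveI : LocallyOfFiniteType (F.obj K).hom :=
      inferInstanceAs (LocallyOfFiniteType (pullback.snd K.hom (GeomTate.σ k Ω)))
    haveI : QuasiCompact (F.obj K).hom := inferInstanceAs (QuasiCompact (pullback.snd K.hom (GeomTate.σ k Ω)))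
    haveI : LocallyOfFiniteType (F.obj N).hom :=
      inferInstanceAs (LocallyOfFiniteType (pullback.snd N.hom (GeomTate.σ k Ω)))
    haveI : QuasiCompact (F.obj N).hom := inferInstanceAs (QuasiCompact (pullback.snd N.hom (GeomTate.σ k Ω)))
    haveI : LocallyOfFiniteType (F.obj N₀).hom :=
      inferInstanceAs (LocallyOfFiniteType (pullback.snd N₀.hom (GeomTate.σ k Ω)))
    haveI : CompactSpace (F.obj N).left := QuasiCompact.compactSpace_of_compactSpace (F.obj N).hom
    haveI : IsOpenImmersion (F.map e).left := MorphismProperty.overPullbackMap _ _ inferInstance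
    haveI : Surjective (F.map pN).left := MorphismProperty.overPullbackMap _ _ inferInstance
    haveI : IsMonHom (F.map e) := inferInstance
    obtain ⟨t, ht⟩ := finite_classes (F.map e) (by
      refine ⟨Stab.pnt (1 : 𝟙_ _ ⟶ F.obj N₀), ?_⟩
      show (F.map e).left ((1 : 𝟙_ _ ⟶ F.obj N₀).left _) = _
      rw [← Scheme.Hom.comp_apply, ← Over.comp_left, MonObj.one_comp])
    haveI : Mono (F.map κ) := by
      haveI : IsClosedImmersion (F.map κ).left := MorphismProperty.overPullbackMap _ _ inferInstance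
      exact Over.mono_of_mono_left _
    haveI : IsMonHom (F.map i) := inferInstance
    haveI : IsMonHom (F.map q₀) := inferInstance
    have hpts : (Set.univ : Set (𝟙_ (Over (Spec (CommRingCat.of Ω))) ⟶ F.obj K)).Finite := by
      refine Set.Finite.of_finite_image (f := fun b => b ≫ F.map κ) ?_ fun a _ b _ h => (cancel_mono (F.map κ)).1 h
      refine (t.finite_toSet.image fun g => g ≫ F.map i ≫ F.map q₀).subset ?_
      rintro _ ⟨b, -, rfl⟩
      obtain ⟨a, rfl⟩ := exists_pt_lift (F.map pN) b
      obtain ⟨g, hg, c, hc⟩ := ht a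
      refine ⟨g, hg, ?_⟩
      show g ≫ F.map i ≫ F.map q₀ = (a ≫ F.map pN) ≫ F.map κ
      have hz : F.map e ≫ F.map (i ≫ q₀) = 1 := by
        rw [← F.map_comp, ← Category.assoc, H19Grp.kernel_comp_eq_one hk₀, map_one_bc]
      rw [Category.assoc, ← F.map_comp pN κ, hpN, show a = (c ≫ F.map e) * g by rw [hc, inv_mul_cancel_right],
        ← F.map_comp i q₀, MonObj.mul_comp, Category.assoc, hz, MonObj.comp_one, _root_.one_mul]
    have hf : IsFinite (toUnit (F.obj K)).left := by
      haveI : LocallyOfFiniteType (𝟙_ (Over (Spec (CommRingCat.of Ω)))).hom :=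
        inferInstanceAs (LocallyOfFiniteType (𝟙 _))
      haveI : QuasiCompact (𝟙_ (Over (Spec (CommRingCat.of Ω)))).hom := inferInstanceAs (QuasiCompact (𝟙 _))
      exact isFinite_of_finite_ker (toUnit (F.obj K)) (hpts.subset (Set.subset_univ _))
    have hf' : IsFinite (pullback.snd K.hom (GeomTate.σ k Ω)) := by
      rw [show (toUnit (F.obj K)).left = pullback.snd K.hom (GeomTate.σ k Ω) from
        (Category.comp_id _).symm.trans (Over.w (toUnit (F.obj K)))] at hf
      exact hf
    exact MorphismProperty.of_pullback_snd_of_descendsAlong (P := @IsFinite) (Q := H18Descent.fpqc)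
      (g := GeomTate.σ k Ω) ⟨⟨inferInstance, inferInstance⟩, inferInstance⟩ hf'
  haveI : Flat χ.left := by
    haveI : Flat (q₀.left ≫ χ.left) := by rw [← Over.comp_left, hχ]; infer_instance
    exact flat_of_comp_faithfullyFlat q₀.left χ.left
  haveI : Surjective χ.left := by
    haveI : Surjective (q₀.left ≫ χ.left) := by rw [← Over.comp_left, hχ]; infer_instance
    exact Surjective.of_comp q₀.left χ.left
  haveI : QuasiCompact χ.left :=
    (AbelianCat.props_hom χ ⟨inferInstance, inferInstance⟩ ⟨inferInstance, inferInstance⟩).2.1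
  haveI : IsProper Q₀.hom := isProper_of_finite_kernel κ χ hkK
  obtain ⟨z, hz⟩ := H19Grp.kernel_lift hk₀ i (hmin Q₀ q₀)
  have hze : z ≫ e = 𝟙 N := by rw [← cancel_mono i, Category.assoc, hz, Category.id_comp]
  haveI : Surjective e.left := ⟨fun x => ⟨z.left x, by
    rw [← Scheme.Hom.comp_apply, ← Over.comp_left, hze]; rfl⟩⟩
  exact e.left.surjective.connectedSpace e.left.continuous

end Groth.Agent.H19Chev
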