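import Groth.Agent.H19Chev.ProperQuotient
import Groth.Agent.H19Chev.MinProperQuotient
import Groth.Agent.H25AbCube.MulN
import Groth.Agent.H21Quot.Basic

/-!
# Power maps of commutative groups of finite type are affine
-/

set_option autoImplicit false
set_option linter.style.haveILetI false
set_option backward.isDefEq.respectTransparency false
set_option maxHeartbeats 1000000
set_option synthInstance.maxHeartbeats 400000
universe u

open CategoryTheory MonoidalCategory CartesianMonoidalCategory MonObj AlgebraicGeometry CategoryTheory.Limits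
open Groth.Agent Groth.Agent.H25AbCube Groth.Agent.H19Quot

noncomputable section

namespace Groth.Agent.H19Chev

attribute [local instance] Functor.grpObjObj

variable {k : Type u} [Field k]

local notation "Pts" X => 𝟙_ (Over (Spec (CommRingCat.of k))) ⟶ X

theorem id_pow_comp {A B : Over (Spec (CommRingCat.of k))} [GrpObj A] [GrpObj B] (f : A ⟶ B) [IsMonHom f] (n : ℕ) :
    ((𝟙 A) ^ n : A ⟶ A) ≫ f = f ≫ ((𝟙 B) ^ n : B ⟶ B) := by
  induction n with
  | zero => rw [pow_zero, pow_zero, MonObj.one_comp, MonObj.comp_one]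
  | succ m ih => rw [pow_succ, pow_succ, MonObj.mul_comp, MonObj.comp_mul, ih, Category.id_comp, Category.comp_id]

theorem comp_id_pow {T A : Over (Spec (CommRingCat.of k))} [GrpObj A] (x : T ⟶ A) (n : ℕ) :
    x ≫ ((𝟙 A) ^ n : A ⟶ A) = x ^ n := by
  induction n with
  | zero => rw [pow_zero, pow_zero, MonObj.comp_one]
  | succ m ih => rw [pow_succ, pow_succ, MonObj.comp_mul, ih, Category.comp_id]

/-- A faithfully flat quotient of a commutative group is commutative. -/
theorem isCommMonObj_of_quotient {G Q : Over (Spec (CommRingCat.of k))} [GrpObj G] [GrpObj Q] [IsCommMonObj G]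
    (q : G ⟶ Q) [IsMonHom q] [Flat q.left] [Surjective q.left] [LocallyOfFinitePresentation q.left] :
    IsCommMonObj Q := by
  haveI := H21Quot.flat_tensorHom q q
  haveI := H21Quot.surjective_tensorHom q q
  haveI := H21Quot.lfp_tensorHom q q
  refine ⟨cancel_quotient (q ⊗ₘ q) ?_⟩
  rw [BraidedCategory.braiding_naturality_assoc, ← IsMonHom.mul_hom, ← Category.assoc, IsCommMonObj.mul_comm]

/-- Positive power maps of commutative proper groups over algebraically closed fields are finite. -/
theorem isFinite_pow_proper [IsAlgClosed k] (Q : Over (Spec (CommRingCat.of k))) [GrpObj Q] [IsCommMonObj Q]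
    [IsProper Q.hom] {n : ℕ} (hn : 0 < n) : IsFinite ((𝟙 Q) ^ n : Q ⟶ Q).left := by
  classical
  haveI : IsMonHom ((𝟙 Q) ^ n : Q ⟶ Q) := by
    refine ⟨?_, ?_⟩
    · rw [comp_id_pow, MonObj.one_eq_one, one_pow]
    · have e : μ[Q] = fst Q Q * snd Q Q := by rw [Hom.mul_def, lift_fst_snd, Category.id_comp]
      rw [comp_id_pow, e, _root_.mul_pow, MonObj.comp_mul, tensorHom_fst, tensorHom_snd, comp_id_pow, comp_id_pow]
  refine isFinite_of_finite_ker _ ?_
  obtain ⟨gR, hrr⟩ := H19Grp.GroupCI.exists_grpObj_reduced Q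
  let R : Over (Spec (CommRingCat.of k)) := Over.mk (Q.left.nilradical.subschemeι ≫ Q.hom)
  let rr : R ⟶ Q := Over.homMk Q.left.nilradical.subschemeι rfl
  haveI : IsMonHom rr := hrr
  haveI : IsReduced R.left := inferInstanceAs (IsReduced Q.left.nilradical.subscheme)
  haveI : IsClosedImmersion rr.left := inferInstanceAs (IsClosedImmersion Q.left.nilradical.subschemeι)
  haveI : IsProper R.hom := inferInstanceAs (IsProper (Q.left.nilradical.subschemeι ≫ Q.hom))
  haveI : Smooth R.hom := H19Grp.smooth_of_isReduced_perfect R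
  haveI : Mono rr := Over.mono_of_mono_left _
  obtain ⟨H, gH, j, hj, hjc, hjo, hHn, hHs, hHq, h1⟩ := exists_smooth_idComp R
  haveI := hj; haveI := hjc; haveI := hjo; haveI := hHn; haveI := hHs; haveI := hHq
  haveI : Mono j := Over.mono_of_mono_left _
  haveI : IsProper H.hom := by rw [← Over.w j]; infer_instance
  haveI := geometricallyIntegral_av H
  haveI : CompactSpace R.left := QuasiCompact.compactSpace_of_compactSpace R.hom
  obtain ⟨s, hs⟩ := finite_classes j h1
  have hlift : ∀ x : Pts Q, ∃ y : Pts R, y ≫ rr = x := fun x => by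
    haveI : IsReduced (𝟙_ (Over (Spec (CommRingCat.of k)))).left :=
      inferInstanceAs (IsReduced (Spec (CommRingCat.of k)))
    haveI : Surjective rr.left := ⟨fun z => by
      have : Set.range Q.left.nilradical.subschemeι = Set.univ := by
        rw [Scheme.IdealSheafData.range_subschemeι, Scheme.support_nilradical]
        rfl
      exact this.ge trivial⟩
    obtain ⟨y, hy⟩ := H17.exists_lift_of_range_subset x.left rr.left (fun z _ => rr.left.surjective z)
    exact ⟨Over.homMk y (by rw [← Over.w x, ← hy, Category.assoc, Over.w rr]), Over.OverMorphism.ext hy⟩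
  haveI := H25AbCube.isFinite_pow (A := H) hn
  have hfib : ∀ c : Pts R, {a : Pts H | a ≫ j ≫ ((𝟙 R) ^ n : R ⟶ R) = c}.Finite := fun c => by
    rcases Set.eq_empty_or_nonempty {a : Pts H | a ≫ j ≫ ((𝟙 R) ^ n : R ⟶ R) = c} with h | ⟨a₀, ha₀⟩
    · rw [h]; exact Set.finite_empty
    · have hfin : ((((𝟙 H) ^ n : H ⟶ H).left) ⁻¹' {((a₀ ≫ ((𝟙 H) ^ n : H ⟶ H)).left
          (IsLocalRing.closedPoint k))}).Finite := Scheme.Hom.finite_preimage_singleton _ _
      refine Set.Finite.of_finite_image (f := fun a : Pts H => a.left (IsLocalRing.closedPoint k))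
        (hfin.subset ?_) fun a _ b _ hab => ?_
      · rintro _ ⟨a, ha, rfl⟩
        have e : a ≫ ((𝟙 H) ^ n : H ⟶ H) = a₀ ≫ ((𝟙 H) ^ n : H ⟶ H) := by
          rw [← cancel_mono j, Category.assoc, Category.assoc, id_pow_comp j n]
          exact ha.trans ha₀.symm
        show ((𝟙 H) ^ n : H ⟶ H).left (a.left _) = _
        rw [← Scheme.Hom.comp_apply, ← Over.comp_left, e]
      · exact Stab.pnt_injective hab
  refine ((Finset.finite_toSet s).biUnion fun g _ =>
    (hfib ((g : Pts R) ^ n)⁻¹).image (fun a => ((a ≫ j) * g) ≫ rr)).subset fun x hx => ?_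
  obtain ⟨y, rfl⟩ := hlift x
  obtain ⟨g, hg, a, ha⟩ := hs y
  refine Set.mem_biUnion hg ⟨a, ?_, by show ((a ≫ j) * g) ≫ rr = _; rw [ha, inv_mul_cancel_right]⟩
  show a ≫ j ≫ ((𝟙 R) ^ n : R ⟶ R) = ((g : Pts R) ^ n)⁻¹
  haveI : IsCommMonObj R := by
    refine ⟨(cancel_mono rr).1 ?_⟩
    rw [Category.assoc, IsMonHom.mul_hom, ← BraidedCategory.braiding_naturality_assoc, IsCommMonObj.mul_comm]
  have hy : y ^ n = 1 := by
    rw [← cancel_mono rr, ← comp_id_pow y n, Category.assoc, id_pow_comp rr n, MonObj.one_comp, ← Category.assoc]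
    exact hx
  rw [← Category.assoc, comp_id_pow, ha, _root_.mul_pow, hy, _root_.one_mul, inv_pow]

theorem isPullback_bc (K : Type u) [Field K] [Algebra k K] {A B : Over (Spec (CommRingCat.of k))} (e : A ⟶ B) :
    IsPullback ((GeomTate.bc k K).map e).left (pullback.fst A.hom (GeomTate.σ k K))
      (pullback.fst B.hom (GeomTate.σ k K)) e.left := by
  refine (IsPullback.of_bot (v₂₁ := pullback.snd B.hom (GeomTate.σ k K)) (v₂₂ := B.hom) ?_ ?_
    (IsPullback.of_hasPullback B.hom (GeomTate.σ k K))).flip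
  · simp only [Over.pullback_map_left, pullback.lift_snd, Over.w]
    exact IsPullback.of_hasPullback A.hom (GeomTate.σ k K)
  · simp only [Over.pullback_map_left, pullback.lift_fst]

/-- Positive power maps of commutative groups of finite type over a field are affine. -/
theorem isAffineHom_pow (G : Over (Spec (CommRingCat.of k))) [GrpObj G] [IsCommMonObj G] [LocallyOfFiniteType G.hom]
    [QuasiCompact G.hom] {n : ℕ} (hn : 0 < n) : IsAffineHom ((𝟙 G) ^ n : G ⟶ G).left := by
  obtain ⟨N, gN, i, Q, gQ, q, hi, hic, hNa, hNn, hq, hqs, hqf, hqp, hk, hQp⟩ := exists_affine_proper_quotient G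
  haveI := hi; haveI := hic; haveI := hNa; haveI := hq; haveI := hqs; haveI := hqf; haveI := hqp; haveI := hQp
  have hsq := H19Grp.isPullback_kernel q i hk
  have e : (G ◁ i) ≫ μ[G] = fst G N * (snd G N ≫ i) := by rw [Hom.mul_def]; congr 1
  have hsq' : IsPullback ((G ◁ i) ≫ μ[G]) (fst G N) q q := by rw [e]; exact hsq.flip
  haveI : IsAffineHom N.hom := inferInstance
  haveI : IsAffineHom q.left := descend_proj (P := @IsAffineHom) (hasFpqcSection_of_lfp q) hsq' inferInstance
  haveI := isCommMonObj_of_quotient q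
  let K := AlgebraicClosure k
  let F := GeomTate.bc k K
  haveI := GeomTate.flat_σ k K
  haveI := GeomTate.surjective_σ k K
  haveI : IsProper (F.obj Q).hom := inferInstanceAs (IsProper (pullback.snd Q.hom (GeomTate.σ k K)))
  haveI : IsCommMonObj (F.obj Q) := inferInstance
  haveI : IsFinite (F.map ((𝟙 Q) ^ n : Q ⟶ Q)).left := by
    have : F.map ((𝟙 Q) ^ n : Q ⟶ Q) = ((𝟙 (F.obj Q)) ^ n : F.obj Q ⟶ F.obj Q) := by
      rw [← F.map_id Q]
      exact map_pow (Functor.homMonoidHom F) _ n
    rw [this]
    exact isFinite_pow_proper (F.obj Q) hn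
  haveI : Surjective (pullback.fst Q.hom (GeomTate.σ k K)) :=
    MorphismProperty.pullback_fst (P := @Surjective) _ _ inferInstance
  haveI : Flat (pullback.fst Q.hom (GeomTate.σ k K)) :=
    MorphismProperty.pullback_fst (P := @Flat) _ _ inferInstance
  haveI : QuasiCompact (pullback.fst Q.hom (GeomTate.σ k K)) :=
    MorphismProperty.pullback_fst (P := @QuasiCompact) _ _ inferInstance
  haveI : IsFinite ((𝟙 Q) ^ n : Q ⟶ Q).left :=
    MorphismProperty.of_isPullback_of_descendsAlong (P := @IsFinite) (Q := H18Descent.fpqc)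
      (isPullback_bc K ((𝟙 Q) ^ n : Q ⟶ Q))
      ⟨⟨inferInstance, inferInstance⟩, inferInstance⟩ inferInstance
  haveI : IsAffineHom (((𝟙 G) ^ n : G ⟶ G).left ≫ q.left) := by
    rw [← Over.comp_left, id_pow_comp q n, Over.comp_left]; infer_instance
  exact IsAffineHom.of_comp _ q.left

end Groth.Agent.H19Chev
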