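import Groth.Agent.H19Chev.Complement
import Groth.Agent.H19Chev.Generated
import Groth.Agent.H19Quot.AffineQuot
import Groth.Agent.H19Grp.QuasiFiniteHom
import Groth.Agent.H19Grp.ArtinHom
import Groth.Agent.H19Grp.Kernel
import Groth.Agent.H25AbCube.HomFactor
import Groth.Agent.S14584
import Mathlib.AlgebraicGeometry.Morphisms.Descent

/-!
# Basic facts for the structure theorem
-/

set_option autoImplicit false
set_option linter.style.haveILetI false
set_option backward.isDefEq.respectTransparency false
set_option maxHeartbeats 1000000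
set_option synthInstance.maxHeartbeats 100000
universe u

open CategoryTheory CategoryTheory.Limits MonoidalCategory CartesianMonoidalCategory MonObj AlgebraicGeometry
open Groth.Agent Groth.Agent.H25AbCube Groth.Agent.H19Quot

noncomputable section

namespace Groth.Agent.H19Chev

variable {k : Type u} [Field k]

local notation "Pts" X => 𝟙_ (Over (Spec (CommRingCat.of k))) ⟶ X

theorem pts_comp_toUnit {X Y : Over (Spec (CommRingCat.of k))} (c : Pts X) (a : Pts Y) :
    c ≫ toUnit X ≫ a = a := by
  rw [← Category.assoc, comp_toUnit, toUnit_unique (toUnit (𝟙_ _)) (𝟙 _), Category.id_comp]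

variable {G Q : Over (Spec (CommRingCat.of k))}

/-- Points lift along surjections over an algebraically closed field. -/
theorem exists_pt_lift [IsAlgClosed k] [LocallyOfFiniteType G.hom] [LocallyOfFiniteType Q.hom] (q : G ⟶ Q)
    [Surjective q.left] (b : Pts Q) : ∃ g : Pts G, g ≫ q = b := by
  haveI : JacobsonSpace G.left := LocallyOfFiniteType.jacobsonSpace G.hom
  obtain ⟨x, hx⟩ := q.left.surjective (Stab.pnt b)
  obtain ⟨z, hz, hzc⟩ := nonempty_inter_closedPoints (Z := q.left ⁻¹' {Stab.pnt b}) ⟨x, hx⟩
    ((Stab.pnt_isClosed b).preimage q.left.continuous).isLocallyClosed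
  obtain ⟨g, rfl⟩ := Stab.exists_pnt hzc
  exact ⟨g, Stab.pnt_injective hz⟩

/-- A scheme of finite type with finitely many rational points is quasi-finite. -/
theorem finite_space_of_points [IsAlgClosed k] [LocallyOfFiniteType G.hom]
    (h : (Set.univ : Set (Pts G)).Finite) : Finite G.left := by
  haveI : JacobsonSpace G.left := LocallyOfFiniteType.jacobsonSpace G.hom
  have hc : closedPoints G.left ⊆ Stab.pnt '' (Set.univ : Set (Pts G)) := fun z hz => by
    obtain ⟨a, rfl⟩ := Stab.exists_pnt hz
    exact ⟨a, trivial, rfl⟩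
  have hfin := h.image (Stab.pnt (k := k) (T := G))
  have hcl : IsClosed (closedPoints G.left) := by
    rw [← Set.biUnion_of_singleton (closedPoints G.left)]
    exact (hfin.subset hc).isClosed_biUnion fun z hz => hz
  have huniv : closedPoints G.left = Set.univ := by
    rw [← hcl.closure_eq, closure_closedPoints]
  exact Set.finite_univ_iff.1 (huniv ▸ hfin.subset hc)

variable [GrpObj G] [GrpObj Q]

/-- A homomorphism with finitely many points in its kernel is finite. -/
theorem isFinite_of_finite_ker [IsAlgClosed k] [LocallyOfFiniteType G.hom] [QuasiCompact G.hom]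
    [LocallyOfFiniteType Q.hom] [QuasiCompact Q.hom] (f : G ⟶ Q) [IsMonHom f]
    (h : {g : Pts G | g ≫ f = 1}.Finite) : IsFinite f.left := by
  obtain ⟨hlft, hqc, -⟩ := AbelianCat.props_hom f ⟨inferInstance, inferInstance⟩ ⟨inferInstance, inferInstance⟩
  haveI := hlft; haveI := hqc
  let P : Over (Spec (CommRingCat.of k)) := Over.mk (pullback.snd f.left η[Q].left)
  haveI : LocallyOfFiniteType P.hom :=
    MorphismProperty.pullback_snd (P := @LocallyOfFiniteType) _ _ inferInstance
  have hw : pullback.fst f.left η[Q].left ≫ G.hom = P.hom := by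
    rw [← Over.w f, reassoc_of% (pullback.condition (f := f.left) (g := η[Q].left)), Over.w η[Q]]
    exact Category.comp_id _
  let j : P ⟶ G := Over.homMk (pullback.fst f.left η[Q].left) hw
  have hj : j ≫ f = 1 := by
    rw [Hom.one_def]
    refine Over.OverMorphism.ext ?_
    show pullback.fst f.left η[Q].left ≫ f.left = _
    rw [pullback.condition, Over.comp_left]
    congr 1
  haveI : Mono j := by
    haveI : IsSeparated Q.hom := H19Grp.AffineQuotient.isSeparated_of_grp Q
    haveI := H19Grp.AffineQuotient.isClosedImmersion_unit Q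
    haveI : IsClosedImmersion j.left := MorphismProperty.pullback_fst (P := @IsClosedImmersion) _ _ inferInstance
    exact Over.mono_of_mono_left _
  haveI : Finite P.left := finite_space_of_points (Set.Finite.of_finite_image (f := fun a : Pts P => a ≫ j)
    (h.subset (by
      rintro _ ⟨a, -, rfl⟩
      show (a ≫ j) ≫ f = 1
      rw [Category.assoc, hj, MonObj.comp_one]))
    fun a _ b _ hab => (cancel_mono j).1 hab)
  haveI : LocallyQuasiFinite f.left := H19Grp.ArtinHom.lqf_of_kernel f
    (LocallyQuasiFinite.of_finite_preimage_singleton P.hom fun _ => Set.toFinite _)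
  exact H19Grp.QuasiFiniteHom.isFinite_of_lqf f

/-- An extension of affine groups is affine. -/
theorem isAffine_extension {H : Over (Spec (CommRingCat.of k))} [GrpObj H] [IsAffine H.left] [IsAffine Q.left]
    (i : H ⟶ G) [IsMonHom i] (q : G ⟶ Q) [IsMonHom q] [Flat q.left] [Surjective q.left]
    [LocallyOfFinitePresentation q.left] (hK : AlgGrp.IsKernel i q) : IsAffine G.left := by
  haveI := H19Grp.kernel_mono hK
  have hsq := H19Grp.isPullback_kernel q i hK
  have e : (G ◁ i) ≫ μ[G] = fst G H * (snd G H ≫ i) := by rw [Hom.mul_def]; congr 1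
  have hsq' : IsPullback ((G ◁ i) ≫ μ[G]) (fst G H) q q := by rw [e]; exact hsq.flip
  haveI : IsAffineHom H.hom := inferInstance
  haveI : IsAffineHom q.left := descend_proj (P := @IsAffineHom) (hasFpqcSection_of_lfp q) hsq' inferInstance
  exact isAffine_of_isAffineHom q.left

/-- Pointed morphisms of connected groups to abelian varieties are homomorphisms. -/
theorem isMonHom_to_av [Smooth G.hom] [QuasiCompact G.hom] [ConnectedSpace G.left] [IsProper Q.hom] [Smooth Q.hom]
    [ConnectedSpace Q.left] (φ : G ⟶ Q) (h : η[G] ≫ φ = η[Q]) : IsMonHom φ := by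
  haveI := geometricallyIntegral_grp G
  haveI : IsSeparated G.hom := H19Grp.AffineQuotient.isSeparated_of_grp G
  haveI : IsCommMonObj Q := by
    haveI := geometricallyIntegral_av Q
    exact isCommMonObj_of_av
  refine ⟨h, ?_⟩
  have h1 := S14584.result k G G Q η[G] η[G] (μ[G] ≫ φ)
  have hη : (1 : Pts G) = η[G] := by rw [Hom.one_def, toUnit_unique (toUnit _) (𝟙 _), Category.id_comp]
  have e0 : toUnit (G ⊗ G) ≫ lift η[G] η[G] ≫ μ[G] ≫ φ = 1 := by
    rw [← Category.assoc (lift η[G] η[G]), show lift η[G] η[G] ≫ μ[G] = (η[G] : Pts G) * η[G] by rw [Hom.mul_def],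
      ← hη, _root_.mul_one, hη, h, Hom.one_def]
  have e1 : lift (toUnit G ≫ η[G]) (𝟙 G) ≫ μ[G] ≫ φ = φ := by
    rw [← Category.assoc, show lift (toUnit G ≫ η[G]) (𝟙 G) ≫ μ[G] = 1 * 𝟙 G by rw [Hom.one_def, Hom.mul_def],
      _root_.one_mul, Category.id_comp]
  have e2 : lift (𝟙 G) (toUnit G ≫ η[G]) ≫ μ[G] ≫ φ = φ := by
    rw [← Category.assoc, show lift (𝟙 G) (toUnit G ≫ η[G]) ≫ μ[G] = 𝟙 G * 1 by rw [Hom.one_def, Hom.mul_def],
      _root_.mul_one, Category.id_comp]
  rw [e0, e1, e2, inv_one, _root_.one_mul] at h1
  rw [h1, mul_comm, Hom.mul_def, lift_fst_comp_snd_comp]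

/-- An affine connected group maps trivially to an abelian variety. -/
theorem eq_one_of_affine_to_proper [IsAlgClosed k] [Smooth G.hom] [ConnectedSpace G.left] [IsAffine G.left]
    [IsProper Q.hom] (f : G ⟶ Q) [IsMonHom f] : f = 1 := by
  haveI : IsNoetherianRing (CommRingCat.of k) := inferInstanceAs (IsNoetherianRing k)
  haveI : IsLocallyNoetherian G.left := LocallyOfFiniteType.isLocallyNoetherian G.hom
  haveI : IsReduced G.left := by
    haveI : ∀ x, _root_.IsReduced (G.left.presheaf.stalk x) := fun x => by
      haveI := (H29Ref.isNormalScheme_of_regular (H19Grp.isRegularLocalRing_stalk_of_smooth G.hom) x).1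
      infer_instance
    exact isReduced_of_isReduced_stalk _
  haveI : QuasiCompact G.hom := inferInstance
  obtain ⟨C, gC, p, i, hp, hi, hpi, hpf, hps, hpfp, hic⟩ :=
    AbelianCat.exists_image f ⟨inferInstance, inferInstance⟩ ⟨inferInstance, inferInstance⟩
  haveI := hp; haveI := hpf; haveI := hps; haveI := hpfp; haveI := hic
  haveI : IsProper C.hom := by rw [← Over.w i]; infer_instance
  haveI : IsAffine C.left := H19Grp.AffineQuotient.isAffine_of_flat_surjective G C p
  haveI : IsReduced C.left := H19Grp.isReduced_of_flat_surjective p.left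
  haveI : ConnectedSpace C.left := p.left.surjective.connectedSpace p.left.continuous
  haveI : IsFinite C.hom := IsFinite.iff_isProper_and_isAffineHom.2 ⟨inferInstance, inferInstance⟩
  haveI : Finite C.left := by
    have h := C.hom.finite_preimage_singleton (IsLocalRing.closedPoint k)
    exact Set.finite_univ_iff.1 (h.subset fun x _ => Subsingleton.elim (α := PrimeSpectrum k) _ _)
  haveI : JacobsonSpace C.left := LocallyOfFiniteType.jacobsonSpace C.hom
  haveI : DiscreteTopology C.left := inferInstance
  haveI : Subsingleton C.left := PreconnectedSpace.trivial_of_discrete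
  haveI : IsSeparated C.hom := inferInstance
  have hid : 𝟙 C = 1 := ext_of_points _ _ fun a => by
    rw [Category.comp_id, MonObj.comp_one]
    exact Stab.pnt_injective (Subsingleton.elim _ _)
  rw [← hpi, ← Category.comp_id p, hid, MonObj.comp_one, MonObj.one_comp]

end Groth.Agent.H19Chev
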