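import Groth.Agent.H19Chev.CoradUnique
import Groth.Agent.H19Chev.StructureBasic
import Groth.Agent.H19Chev.PowAffine
import Groth.Agent.H19Grp.ConnFibre
import Groth.Agent.H20Torus.Scheme
import Groth.Agent.H21Dyn.Scheme
import Groth.Agent.H21Hom.MultSub
import Groth.Agent.H21Diag.TorusQuot
import Groth.Agent.H21Split.Red0.GeomSplit
import Groth.Agent.H21Hom.ExtensionMult
import Groth.Prelude.Def_SGA7IX

/-!
# A criterion for tori: no non-constant coconnected functions
-/

set_option autoImplicit false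
set_option maxHeartbeats 1000000
set_option linter.style.haveILetI false
set_option backward.isDefEq.respectTransparency false

universe u v

open CategoryTheory CategoryTheory.Limits MonoidalCategory CartesianMonoidalCategory MonObj GrpObj AlgebraicGeometry
open TensorProduct HopfRep

namespace Groth.Agent.H19Chev.TorusCriterion

open Groth.Agent Groth.Agent.H19Chev.CoradSplit Groth.Agent.H20Comod

noncomputable section

section Algebra

variable {K : Type u} [Field K] {A A' : Type u} [CommRing A] [HopfAlgebra K A] [CommRing A'] [HopfAlgebra K A']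

theorem map_groupLike (φ : A →ₐc[K] A') {g : A} (hg : IsGroupLikeElem K g) : IsGroupLikeElem K (φ g) :=
  hg.map φ

/-- A diagonalisable Hopf algebra is spanned by its group-like elements. -/
theorem isDiagonalizable_of_isDiag (h : SGA3b.IsDiag K A) : IsDiagonalizable K A := by
  obtain ⟨M, _, ⟨e⟩⟩ := h
  refine eq_top_iff.2 fun a ha => ?_
  clear ha
  obtain ⟨x, rfl⟩ : ∃ x, e.symm x = a := ⟨e a, by simp⟩
  induction x using MonoidAlgebra.induction_linear with
  | zero => simp
  | add u v hu hv => rw [map_add]; exact add_mem hu hv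
  | single m r =>
    rw [show MonoidAlgebra.single m r = r • (MonoidAlgebra.single m 1 : MonoidAlgebra K M) by
      rw [MonoidAlgebra.smul_single', _root_.mul_one], map_smul]
    exact Submodule.smul_mem _ _ (Submodule.subset_span
      ((MonoidAlgebra.isGroupLikeElem_single_one m).map e.symm))

/-- Diagonalisable means: no non-constant coconnected functions. -/
theorem uni_scalar_of_isDiag [Coalgebra.IsCocomm K A] (h : SGA3b.IsDiag K A) {b : A} (hb : b ∈ uni K A) :
    ∃ c : K, b = algebraMap K A c := by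
  classical
  have hb' : b ∈ Submodule.span K {a : A | IsGroupLikeElem K a} := (isDiagonalizable_of_isDiag h).ge trivial
  obtain ⟨c, hc, hsum⟩ := Submodule.mem_span_set.1 hb'
  refine ⟨c 1, ?_⟩
  let s := insert (1 : A) c.support
  have hs : ∀ g ∈ s, IsGroupLikeElem K g := fun g hg => by
    rcases Finset.mem_insert.1 hg with rfl | hg
    · exact IsGroupLikeElem.one
    · exact hc hg
  let β : A → A := fun g => algebraMap K A (c g) - if g = 1 then b else 0
  have hβ : ∀ g ∈ s, β g ∈ uni K A := fun g _ => by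
    refine sub_mem (Subalgebra.algebraMap_mem _ _) ?_
    split_ifs with hg
    · exact hb
    · exact zero_mem _
  have h0 : ∑ g ∈ s, g * β g = 0 := by
    simp only [β, mul_sub, Finset.sum_sub_distrib, mul_ite, MulZeroClass.mul_zero]
    rw [Finset.sum_ite_eq', if_pos (Finset.mem_insert_self _ _), _root_.one_mul, sub_eq_zero]
    conv_rhs => rw [← hsum]
    rw [Finsupp.sum_of_support_subset c (Finset.subset_insert 1 c.support) _ (fun i _ => zero_smul K i)]
    exact Finset.sum_congr rfl fun g _ => by rw [Algebra.smul_def, mul_comm]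
  have := eq_zero_of_sum_groupLike_mul s hs β hβ h0 1 (Finset.mem_insert_self _ _)
  simp only [β, if_true] at this
  exact (sub_eq_zero.1 this).symm

/-- No non-constant coconnected functions gives diagonalisability. -/
theorem isDiag_of_uni_scalar [IsAlgClosed K] [Coalgebra.IsCocomm K A]
    (h : ∀ b ∈ uni K A, ∃ c : K, b = algebraMap K A c) : SGA3b.IsDiag K A := by
  refine isDiag_of_isDiagonalizable (eq_top_iff.2 fun a _ => ?_)
  refine (Submodule.span_le.2 ?_) (exists_decomp (k := K) a)
  rintro _ ⟨g, b, hg, hb, rfl⟩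
  obtain ⟨c, rfl⟩ := h b hb
  rw [mul_comm, ← Algebra.smul_def]
  exact Submodule.smul_mem _ _ (Submodule.subset_span hg)

/-- Injective maps preserve the absence of coconnected functions downwards. -/
theorem uni_scalar_of_injective [Coalgebra.IsCocomm K A] (φ : A →ₐc[K] A') (hφ : Function.Injective φ)
    (h : ∀ b ∈ uni K A', ∃ c : K, b = algebraMap K A' c) : ∀ b ∈ uni K A, ∃ c : K, b = algebraMap K A c := by
  rintro b ⟨n, hn⟩
  obtain ⟨c, hc⟩ := h (φ b) ⟨n, map_mem_coFil (φ : A →ₐc[K] A').toLinearMap (map_one φ)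
    (fun a => CoalgHomClass.counit_comp_apply φ a) (fun a => (CoalgHomClass.map_comp_comul_apply φ a).symm) hn⟩
  exact ⟨c, hφ (hc.trans (AlgHomClass.commutes φ c).symm)⟩

/-- Finite maps from a diagonalisable Hopf algebra to a domain kill all coconnected functions. -/
theorem uni_scalar_of_finite [IsAlgClosed K] [IsDomain A'] [Coalgebra.IsCocomm K A'] (φ : A →ₐc[K] A')
    (hφ : ((φ : A →ₐ[K] A').toRingHom).Finite) (h : SGA3b.IsDiag K A) :
    ∀ b ∈ uni K A', ∃ c : K, b = algebraMap K A' c := by
  classical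
  intro b hb
  obtain ⟨p, hp, hpb⟩ := RingHom.Finite.to_isIntegral hφ b
  have hspan : ∀ a : A, φ a ∈ Submodule.span K {x : A' | IsGroupLikeElem K x} := fun a => by
    have ha : a ∈ Submodule.span K {x : A | IsGroupLikeElem K x} := (isDiagonalizable_of_isDiag h).ge trivial
    have := Submodule.mem_map_of_mem (f := (φ : A →ₐ[K] A').toLinearMap) ha
    rw [Submodule.map_span] at this
    refine Submodule.span_mono ?_ this
    rintro _ ⟨g, hg, rfl⟩
    exact map_groupLike φ hg
  choose c hc hsum using fun i : ℕ => Submodule.mem_span_set.1 (hspan (p.coeff i))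
  let n := p.natDegree
  let c' : ℕ → (A' →₀ K) := fun i => if i = n then Finsupp.single 1 1 else c i
  let s : Finset A' := insert 1 ((Finset.range n).biUnion fun i => (c i).support)
  have hs : ∀ g ∈ s, IsGroupLikeElem K g := fun g hg => by
    rcases Finset.mem_insert.1 hg with rfl | hg
    · exact IsGroupLikeElem.one
    · obtain ⟨i, -, hi⟩ := Finset.mem_biUnion.1 hg
      exact hc i hi
  have hc' : ∀ i ∈ Finset.range (n + 1), φ (p.coeff i) = ∑ g ∈ s, c' i g • g := by
    intro i hi
    by_cases hin : i = n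
    · subst hin
      rw [hp.coeff_natDegree, map_one, Finset.sum_eq_single 1]
      · simp [c']
      · intro g _ hg
        simp [c', hg]
      · intro h1
        exact absurd (Finset.mem_insert_self _ _) h1
    · have hlt : i < n := lt_of_le_of_ne (Nat.lt_succ_iff.1 (Finset.mem_range.1 hi)) hin
      rw [← hsum i]
      simp only [c', if_neg hin]
      exact Finsupp.sum_of_support_subset _ (Finset.subset_insert_iff.2 fun g hg =>
        Finset.mem_biUnion.2 ⟨i, Finset.mem_range.2 hlt, Finset.mem_of_mem_erase hg⟩) _ (fun g _ => zero_smul K g)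
  let β : A' → A' := fun g => ∑ i ∈ Finset.range (n + 1), c' i g • b ^ i
  have hβ : ∀ g ∈ s, β g ∈ uni K A' := fun g _ =>
    Subalgebra.sum_mem _ fun i _ => Subalgebra.smul_mem _ (Subalgebra.pow_mem _ hb i) _
  have h0 : ∑ g ∈ s, g * β g = 0 := by
    rw [← hpb, Polynomial.eval₂_eq_sum_range]
    simp only [β, Finset.mul_sum]
    rw [Finset.sum_comm]
    refine Finset.sum_congr rfl fun i hi => ?_
    show _ = φ (p.coeff i) * b ^ i
    rw [hc' i hi, Finset.sum_mul]
    exact Finset.sum_congr rfl fun g _ => by rw [mul_smul_comm, smul_mul_assoc]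
  have h1 := eq_zero_of_sum_groupLike_mul s hs β hβ h0 1 (Finset.mem_insert_self _ _)
  let q : Polynomial K := ∑ i ∈ Finset.range (n + 1), Polynomial.C (c' i 1) * Polynomial.X ^ i
  have hq : q ≠ 0 := by
    intro hq
    have := congrArg (fun r => r.coeff n) hq
    simp [q, c', Polynomial.finsetSum_coeff] at this
  have halg : IsAlgebraic K b := by
    refine ⟨q, hq, ?_⟩
    rw [← h1]
    simp [q, β, Algebra.smul_def]
  have hint : IsIntegral K b := halg.isIntegral
  obtain ⟨c, hc⟩ := minpoly.degree_eq_one_iff.1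
    (IsAlgClosed.degree_eq_one_of_irreducible K (minpoly.irreducible hint))
  exact ⟨c, hc.symm⟩

end Algebra

section Scheme

variable {k : Type u} [Field k]

attribute [local instance] Functor.grpObjObj

/-- A finite scheme over a field has finitely many points with values in a field. -/
theorem finite_points {Ω : Type u} [Field Ω] (σ : Spec (CommRingCat.of Ω) ⟶ Spec (CommRingCat.of k))
    (Z : Over (Spec (CommRingCat.of k))) [IsFinite Z.hom] : Finite (Over.mk σ ⟶ Z) := by
  haveI : IsAffine Z.left := isAffine_of_isAffineHom Z.hom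
  letI : Algebra k Γ(Z.left, ⊤) := ((Scheme.ΓSpecIso (CommRingCat.of k)).inv ≫ Z.hom.appTop).hom.toAlgebra
  letI : Algebra k Γ(Spec (CommRingCat.of Ω), ⊤) := ((Scheme.ΓSpecIso (CommRingCat.of k)).inv ≫ σ.appTop).hom.toAlgebra
  haveI : Module.Finite k Γ(Z.left, ⊤) :=
    RingHom.finite_algebraMap.1 ((IsFinite.finite_app Z.hom ⊤ (isAffineOpen_top _)).comp
      (RingHom.Finite.of_surjective (Scheme.ΓSpecIso (CommRingCat.of k)).inv.hom
        (ConcreteCategory.bijective_of_isIso (Scheme.ΓSpecIso (CommRingCat.of k)).inv).surjective))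
  haveI : IsDomain Γ(Spec (CommRingCat.of Ω), ⊤) :=
    (Scheme.ΓSpecIso (CommRingCat.of Ω)).commRingCatIsoToRingEquiv.toMulEquiv.isDomain
  let F : (Over.mk σ ⟶ Z) → (Γ(Z.left, ⊤) →ₐ[k] Γ(Spec (CommRingCat.of Ω), ⊤)) := fun z =>
    { toRingHom := z.left.appTop.hom
      commutes' := fun c => by
        show (Z.hom.appTop ≫ z.left.appTop) ((Scheme.ΓSpecIso (CommRingCat.of k)).inv c) = σ.appTop _
        rw [← Scheme.Hom.comp_appTop, Over.w z]
        rfl }
  refine Finite.of_injective F fun a b h => ?_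
  exact Over.OverMorphism.ext (ext_of_isAffine (CommRingCat.hom_ext (congrArg AlgHom.toRingHom h)))

local notation "K" => AlgebraicClosure k
local notation "e" => Spec.map (CommRingCat.ofHom (algebraMap k (AlgebraicClosure k)))

/-- The coordinate ring of a smooth connected commutative affine group over the algebraic closure. -/
theorem exists_model (G : Over (Spec (CommRingCat.of k))) [GrpObj G] [IsCommMonObj G] [Smooth G.hom]
    [ConnectedSpace ↥G.left] [IsAffine G.left] :
    ∃ (A : Type u) (_ : CommRing A) (_ : HopfAlgebra K A), Coalgebra.IsCocomm K A ∧ Algebra.FiniteType K A ∧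
      IsDomain A ∧ Nonempty (Grp.mk (Red.bc e G) ≅ Grp.mk (H21Hom.specGrp K A)) := by
  haveI : LocallyOfFiniteType G.hom := inferInstance
  haveI := H19Grp.geometricallyIrreducible_of_connectedSpace_group G
  let GK := Red.bc e G
  haveI : Smooth GK.hom := inferInstanceAs (Smooth (pullback.snd G.hom e))
  haveI : IsAffineHom G.hom := inferInstance
  haveI : IsAffineHom (pullback.snd G.hom e) := MorphismProperty.pullback_snd (P := @IsAffineHom) _ _ ‹_›
  haveI : IsAffine GK.left := isAffine_of_isAffineHom (pullback.snd G.hom e)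
  haveI : IrreducibleSpace ↥GK.left :=
    GeometricallyIrreducible.geometrically_irreducibleSpace _ _ _ (IsPullback.of_hasPullback G.hom e)
  obtain ⟨A, _, _, ⟨eA⟩⟩ := H21Hom.exists_hopf_model GK
  refine ⟨A, ‹_›, ‹_›, ?_⟩
  let ei : GK ≅ H21Hom.specGrp K A := (Grp.forget _).mapIso eA
  haveI : IsMonHom ei.hom := eA.hom.hom.isMonHom_hom
  haveI : IsIso ei.inv.left := inferInstanceAs (IsIso ((Over.forget _).map ei.inv))
  haveI : Smooth (H21Hom.specGrp K A).hom := by rw [← Over.w ei.inv]; infer_instance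
  haveI : LocallyOfFiniteType (H21Hom.specGrp K A).hom := inferInstance
  haveI hft : Algebra.FiniteType K A := by
    have h : (CommRingCat.ofHom (algebraMap K A)).hom.FiniteType :=
      (HasRingHomProperty.Spec_iff (P := @LocallyOfFiniteType)).1
        (show LocallyOfFiniteType (Spec.map (CommRingCat.ofHom (algebraMap K A))) from ‹_›)
    exact RingHom.finiteType_algebraMap.1 h
  haveI : IrreducibleSpace ↥(Spec (CommRingCat.of A)) :=
    (Scheme.Hom.homeomorph ei.inv.left).irreducibleSpace_iff.2 ‹_›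
  haveI : AlgebraicGeometry.IsReduced (Spec (CommRingCat.of A)) :=
    H13AlgSp.isReduced_of_smooth_mor (H21Hom.specGrp K A).hom
  haveI : IsIntegral (Spec (CommRingCat.of A)) := isIntegral_of_irreducibleSpace_of_isReduced _
  haveI hdom : IsDomain A := (affine_isIntegral_iff (CommRingCat.of A)).1 ‹_›
  haveI : IsCommMonObj GK := inferInstanceAs (IsCommMonObj ((Over.pullback e).obj G))
  refine ⟨H21Hom.isCocomm_of_comm_points fun D _ _ a b => ?_, hft, hdom, ⟨eA⟩⟩
  refine (Spec.mapMulEquiv (R := K) (S := A) (T := D)).injective ?_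
  rw [map_mul, map_mul]
  haveI : IsMonHom ei.inv := eA.inv.hom.isMonHom_hom
  refine (cancel_mono ei.inv).1 ?_
  rw [MonObj.mul_comp, MonObj.mul_comp, mul_comm]

/-- A group is a torus iff it is diagonalisable over the algebraic closure. -/
theorem isTorus_iff_isDiag (G : Over (Spec (CommRingCat.of k))) [GrpObj G] {A : Type u} [CommRing A]
    [HopfAlgebra K A] [Algebra.FiniteType K A] [IsDomain A]
    (eA : Grp.mk (Red.bc e G) ≅ Grp.mk (H21Hom.specGrp K A)) :
    Red.IsTorus G ↔ SGA3b.IsDiag K A := by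
  constructor
  · intro hT
    obtain ⟨n, i, hi⟩ := H21Dyn.exists_split_bc G hT K
    haveI := hi
    obtain ⟨ψ⟩ := H21Hom.nonempty_bialgEquiv_of_iso
      ((Grp.mkIso' i : Grp.mk (H21Hom.specGrp K (H21Dyn.Lat K n)) ≅ _) ≪≫ eA)
    obtain ⟨θ⟩ := H21Hom.exists_mapDomainEquiv (R := K)
      (MulEquiv.ulift.symm : Multiplicative (Fin n → ℤ) ≃* ULift.{u} (Multiplicative (Fin n → ℤ)))
    exact ⟨ULift.{u} (Multiplicative (Fin n → ℤ)), inferInstance, ⟨ψ.trans θ⟩⟩
  · rintro ⟨N, _, ⟨φ⟩⟩
    haveI : Monoid.FG N := MonoidAlgebra.finiteType_iff_fg.1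
      (Algebra.FiniteType.equiv (inferInstance : Algebra.FiniteType K A) (AlgEquivClass.toAlgEquiv φ))
    haveI : Module.Finite ℤ (Additive N) :=
      Module.Finite.iff_addGroup_fg.mpr (AddGroup.fg_iff_addMonoid_fg.mpr inferInstance)
    haveI : IsDomain (MonoidAlgebra K N) := MulEquiv.isDomain A (AlgEquivClass.toAlgEquiv φ).symm.toMulEquiv
    haveI : IsMulTorsionFree N := by
      refine IsMulTorsionFree.of_not_isOfFinOrder fun x hx hfin => hx ?_
      obtain ⟨m, hm, hxm⟩ := isOfFinOrder_iff_pow_eq_one.1 hfin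
      by_contra hne
      let y : MonoidAlgebra K N := MonoidAlgebra.single x 1
      have hy : (y - 1) * (∑ i ∈ Finset.range (orderOf x), y ^ i) = 0 := by
        rw [mul_geom_sum, sub_eq_zero, MonoidAlgebra.single_pow, one_pow, pow_orderOf_eq_one, MonoidAlgebra.one_def]
      rcases mul_eq_zero.1 hy with h1 | h1
      · exact hne (MonoidAlgebra.single_left_inj one_ne_zero |>.1 ((sub_eq_zero.1 h1).trans MonoidAlgebra.one_def))
      · have h2 := congrArg (fun z : MonoidAlgebra K N => z.coeff 1) h1
        simp only [y, MonoidAlgebra.single_pow, one_pow] at h2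
        rw [MonoidAlgebra.coeff_sum] at h2
        rw [Finset.sum_apply', Finset.sum_eq_single 0] at h2
        · simp at h2
        · intro i hi hi0
          simp [MonoidAlgebra.coeff_single, pow_ne_one_of_lt_orderOf hi0 (Finset.mem_range.1 hi)]
        · intro h0
          exact absurd (Finset.mem_range.2 (orderOf_pos_iff.2 hfin)) h0
    haveI : Module.Free ℤ (Additive N) := Module.free_of_finite_type_torsion_free'
    let b := Module.finBasis ℤ (Additive N)
    let r := Module.finrank ℤ (Additive N)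
    let θ : Multiplicative (Fin r → ℤ) ≃* N :=
      (AddEquiv.toMultiplicative b.equivFun.symm.toAddEquiv).trans (MulEquiv.multiplicativeAdditive N)
    obtain ⟨f⟩ := H21Hom.nonempty_iso_of_bialgEquiv (R := K) (A := A) (B := MonoidAlgebra K N) φ.symm
    obtain ⟨f2⟩ : Nonempty (Grp.mk (H21Hom.specGrp K (MonoidAlgebra K N)) ≅ Grp.mk (Red.diag K (Fin r → ℤ))) :=
      H21Hom.nonempty_iso_of_bialgEquiv (R := K) (A := MonoidAlgebra K N)
        (B := MonoidAlgebra K (Multiplicative (Fin r → ℤ))) (H21Hom.exists_mapDomainEquiv (R := K) θ).some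
    have := H21Diag.isIso_diagToDS K (Fin r → ℤ)
    let tot : Red.IsSplitTorusWith (Fin r → ℤ) (Red.bc e G) :=
      ⟨eA ≪≫ f ≪≫ f2 ≪≫ Grp.mkIso' (asIso (H21Diag.diagToDS K (Fin r → ℤ)))⟩
    haveI : Surjective e := ⟨fun y => ⟨IsLocalRing.closedPoint K, Subsingleton.elim _ _⟩⟩
    refine ⟨Spec (CommRingCat.of K), e, ?_, inferInstance, fun V _ => ?_, fun s => ?_⟩
    · exact (HasRingHomProperty.Spec_iff (P := @Flat)).2 (RingHom.flat_algebraMap_iff.2 inferInstance)
    · refine ⟨e ⁻¹ᵁ V, (Set.toFinite _).isCompact, ?_⟩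
      exact Set.image_preimage_eq _ (Scheme.Hom.surjective e)
    · exact ⟨⊤, trivial, r, H21Diag.isSplit_comp e (Scheme.Opens.ι ⊤) rfl tot⟩

/-- The base change of a homomorphism with finite kernel to the algebraic closure is finite. -/
theorem isFinite_bc_of_isogeny (G' G : Over (Spec (CommRingCat.of k))) [GrpObj G'] [GrpObj G]
    [LocallyOfFiniteType G'.hom] [QuasiCompact G'.hom] [LocallyOfFiniteType G.hom] [QuasiCompact G.hom]
    (f : G' ⟶ G) [IsMonHom f] (hf : SGA7.IsIsogenyOver f) :
    IsFinite ((Over.pullback e).map f).left := by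
  let N : Over (Spec (CommRingCat.of k)) := Limits.pullback f η[G]
  let i : N ⟶ G' := pullback.fst f η[G]
  have htu : pullback.snd f η[G] = toUnit N := toUnit_unique _ _
  have hN : AlgGrp.IsKernel i f := by
    show IsPullback i (toUnit N) f η[G]
    rw [← htu]
    exact IsPullback.of_hasPullback f η[G]
  haveI : IsFinite N.hom := hf.2 N i hN
  let fK := (Over.pullback e).map f
  haveI : IsMonHom fK := inferInstance
  let GK' := Red.bc e G'
  let GK := Red.bc e G
  haveI : LocallyOfFiniteType GK'.hom := inferInstanceAs (LocallyOfFiniteType (pullback.snd G'.hom e))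
  haveI : LocallyOfFiniteType GK.hom := inferInstanceAs (LocallyOfFiniteType (pullback.snd G.hom e))
  haveI : QuasiCompact GK'.hom := inferInstanceAs (QuasiCompact (pullback.snd G'.hom e))
  haveI : QuasiCompact GK.hom := inferInstanceAs (QuasiCompact (pullback.snd G.hom e))
  letI : GrpObj GK := inferInstanceAs (GrpObj ((Over.pullback e).obj G))
  refine H19Chev.isFinite_of_finite_ker fK ?_
  haveI : Finite ((Over.map e).obj (𝟙_ (Over (Spec (CommRingCat.of K)))) ⟶ N) := finite_points _ N
  let adj := Over.mapPullbackAdj e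
  refine (Set.finite_range fun z : (Over.map e).obj (𝟙_ (Over (Spec (CommRingCat.of K)))) ⟶ N =>
    adj.homEquiv _ _ (z ≫ i)).subset fun x hx => ?_
  obtain ⟨z, hz⟩ : ∃ z, z ≫ i = (adj.homEquiv _ _).symm x := by
    refine ⟨hN.lift ((adj.homEquiv _ _).symm x) (toUnit _) ?_, hN.lift_fst _ _ _⟩
    rw [← adj.homEquiv_naturality_right_symm, show x ≫ fK = 1 from hx, ← Hom.one_def]
    exact map_one (H21Diag.bcHom e G (𝟙_ (Over (Spec (CommRingCat.of K)))))
  exact ⟨z, by show adj.homEquiv _ _ (z ≫ i) = x; rw [hz, Equiv.apply_symm_apply]⟩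

/-- Invariance of being a torus under isogeny of commutative groups. -/
theorem isTorus_iff_of_isogeny (G' G : Over (Spec (CommRingCat.of k))) [GrpObj G'] [GrpObj G]
    [IsCommMonObj G'] [IsCommMonObj G] [Smooth G'.hom] [QuasiCompact G'.hom] [ConnectedSpace ↥G'.left]
    [IsAffine G'.left] [Smooth G.hom] [QuasiCompact G.hom] [ConnectedSpace ↥G.left] [IsAffine G.left]
    (f : G' ⟶ G) [IsMonHom f] (hf : SGA7.IsIsogenyOver f) : Red.IsTorus G' ↔ Red.IsTorus G := by
  obtain ⟨A', _, _, _, _, _, ⟨e'⟩⟩ := exists_model G'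
  obtain ⟨A, _, _, _, _, _, ⟨e₀⟩⟩ := exists_model G
  rw [isTorus_iff_isDiag G' e', isTorus_iff_isDiag G e₀]
  let fK := (Over.pullback e).map f
  haveI : IsFinite fK.left := isFinite_bc_of_isogeny G' G f hf
  haveI := hf.1
  haveI : Surjective fK.left :=
    MorphismProperty.of_isPullback (P := @Surjective) (H19Chev.isPullback_bc K f).flip ‹Surjective f.left›
  let g : H21Hom.specGrp K A' ⟶ H21Hom.specGrp K A := e'.inv.hom.hom ≫ fK ≫ e₀.hom.hom.hom
  haveI : IsMonHom fK := inferInstance
  haveI : IsMonHom g := inferInstanceAs (IsMonHom (e'.inv.hom.hom ≫ fK ≫ e₀.hom.hom.hom))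
  haveI : IsIso e'.inv.hom.hom.left :=
    inferInstanceAs (IsIso ((Grp.forget _ ⋙ Over.forget _).map e'.inv))
  haveI : IsIso e₀.hom.hom.hom.left :=
    inferInstanceAs (IsIso ((Grp.forget _ ⋙ Over.forget _).map e₀.hom))
  obtain ⟨φ, hφ⟩ := H21Hom.exists_bialgHom_of_hom g
  haveI hgf : IsFinite (Spec.map (CommRingCat.ofHom (φ : A →ₐ[K] A').toRingHom)) := by
    rw [← hφ]; show IsFinite (e'.inv.hom.hom.left ≫ fK.left ≫ e₀.hom.hom.hom.left); infer_instance
  haveI hgs : Surjective (Spec.map (CommRingCat.ofHom (φ : A →ₐ[K] A').toRingHom)) := by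
    rw [← hφ]; show Surjective (e'.inv.hom.hom.left ≫ fK.left ≫ e₀.hom.hom.hom.left); infer_instance
  constructor
  · intro h
    refine isDiag_of_uni_scalar (uni_scalar_of_injective φ ?_ fun b hb => uni_scalar_of_isDiag h hb)
    refine (injective_iff_map_eq_zero _).2 fun x hx => ?_
    refine IsNilpotent.eq_zero ?_
    rw [← mem_nilradical, nilradical_eq_sInf, Submodule.mem_sInf]
    intro p hp
    obtain ⟨q, hq⟩ := hgs.surj ⟨p, hp⟩
    have : p = Ideal.comap (φ : A →ₐ[K] A').toRingHom q.asIdeal := congrArg PrimeSpectrum.asIdeal hq.symm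
    rw [this, Ideal.mem_comap]
    show φ x ∈ q.asIdeal
    rw [hx]
    exact zero_mem _
  · intro h
    exact isDiag_of_uni_scalar (uni_scalar_of_finite φ ((IsFinite.SpecMap_iff _).1 hgf) h)

end Scheme

end

end Groth.Agent.H19Chev.TorusCriterion
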