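import Groth.Agent.H19Chev.JordanSplit
import Groth.Agent.H19Chev.TorusCriterion
import Groth.Agent.H21Hom.MultSub
import Groth.Agent.H19Grp.AffineQuotient

/-!
# The largest subgroup of multiplicative type of a commutative affine group
-/

set_option autoImplicit false
set_option maxHeartbeats 1000000
set_option synthInstance.maxHeartbeats 100000
set_option linter.style.haveILetI false
set_option linter.unusedSectionVars false
set_option backward.isDefEq.respectTransparency false

universe u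

open CategoryTheory CategoryTheory.Limits MonoidalCategory CartesianMonoidalCategory MonObj GrpObj AlgebraicGeometry
open TensorProduct HopfRep WithConv

namespace Groth.Agent.H19Chev.LargestMult

open Groth.Agent Groth.Agent.H19Chev.CoradSplit Groth.Agent.H20Comod Groth.Agent.H21Hom

noncomputable section

section Algebra

variable {k : Type u} [Field k] {A : Type u} [CommRing A] [HopfAlgebra k A]

/-- Multiplicative type over a field has constant type. -/
theorem isMultTypeConst_of_isMultType (h : SGA3b.IsMultType k A) : SGA3b.IsMultTypeConst k A := by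
  obtain ⟨R', _, _, -, ⟨q, -⟩, M, _, ⟨e⟩⟩ := H19Mult.exists_chart h ⟨⊥, Ideal.isPrime_bot⟩
  obtain ⟨P, hP, -⟩ := Ideal.exists_le_maximal q.asIdeal q.isPrime.ne_top
  haveI := hP
  letI : Field (R' ⧸ P) := Ideal.Quotient.field P
  obtain ⟨eK⟩ := H19Mult.isDiag_baseChange e (R' ⧸ P)
  exact ⟨R' ⧸ P, inferInstance, inferInstance, inferInstance, M, inferInstance, ⟨eK⟩⟩

/-- Constant type gives multiplicative type. -/
theorem isMultType_of_isMultTypeConst (h : SGA3b.IsMultTypeConst k A) : SGA3b.IsMultType k A := by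
  obtain ⟨R', _, _, hff, M, _, ⟨e⟩⟩ := h
  haveI := hff
  refine ⟨{1}, Ideal.span_singleton_one, fun f hf => ?_⟩
  let T := Localization.Away f ⊗[k] R'
  letI : Algebra R' T := Algebra.TensorProduct.rightAlgebra
  obtain ⟨eT⟩ := H19Mult.isDiag_baseChange e T
  exact ⟨T, inferInstance, inferInstance, inferInstance, M, inferInstance,
    ⟨(H19Mult.cancelEquiv (R := k) (A := A) (Localization.Away f) T).trans eT⟩⟩

/-- Coconnected elements are constant modulo a quotient of multiplicative type. -/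
theorem map_uni_of_multType [Coalgebra.IsCocomm k A] {C : Type u} [CommRing C] [HopfAlgebra k C]
    (q : A →ₐc[k] C) (hq : Function.Surjective q) (hC : SGA3b.IsMultTypeConst k C) {b : A} (hb : b ∈ uni k A) :
    q b = algebraMap k C (CoalgebraStruct.counit (R := k) b) := by
  obtain ⟨R', _, _, hff, M, _, ⟨e⟩⟩ := hC
  haveI := hff
  haveI : Nontrivial R' :=
    haveI := Module.FaithfullyFlat.lTensor_nontrivial k R' k
    (TensorProduct.rid k R').injective.nontrivial
  obtain ⟨P, hP⟩ := Ideal.exists_maximal R'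
  haveI := hP
  letI : Field (R' ⧸ P) := Ideal.Quotient.field P
  let L := R' ⧸ P
  obtain ⟨eL⟩ := H19Mult.isDiag_baseChange e L
  haveI : Coalgebra.IsCocomm k C := H21Hom.isCocomm_of_surjective q hq
  obtain ⟨n, hn⟩ := hb
  have h1 : q b ∈ coFil k C n := map_mem_coFil (q : A →ₐc[k] C).toLinearMap (map_one q)
    (fun a => CoalgHomClass.counit_comp_apply q a) (fun a => (CoalgHomClass.map_comp_comul_apply q a).symm) hn
  obtain ⟨c, hc⟩ := TorusCriterion.uni_scalar_of_isDiag (K := L) (A := L ⊗[k] C) ⟨M, inferInstance, ⟨eL⟩⟩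
    ⟨n, JordanSplit.one_tmul_mem_coFil L h1⟩
  have h2 : c = algebraMap k L (CoalgebraStruct.counit (R := k) b) := by
    have h := congrArg (CoalgebraStruct.counit (R := L)) hc
    rw [TensorProduct.counit_tmul, CommSemiring.counit_apply, CoalgHomClass.counit_comp_apply q b,
      Bialgebra.counit_algebraMap, ← Algebra.algebraMap_eq_smul_one] at h
    exact h.symm
  refine JordanSplit.one_tmul_inj (k := k) L ?_
  show (1 : L) ⊗ₜ[k] q b = (1 : L) ⊗ₜ[k] algebraMap k C _
  rw [hc, h2, Algebra.algebraMap_eq_smul_one (A := C), TensorProduct.tmul_smul,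
    TensorProduct.smul_tmul', ← Algebra.algebraMap_eq_smul_one, Algebra.TensorProduct.algebraMap_apply]
  rfl

variable (k A) in
/-- The ideal of the largest subgroup of multiplicative type. -/
def multIdeal : Ideal A :=
  Ideal.span {x : A | ∃ b ∈ uni k A, x = b - algebraMap k A (CoalgebraStruct.counit (R := k) b)}

theorem exists_multIdeal [Coalgebra.IsCocomm k A] :
    ∃ (_ : (multIdeal k A).IsHopfIdeal k), SGA3b.IsMultTypeConst k (A ⧸ multIdeal k A) := by
  letI := H20FF.subHopf (isHopfSub_uni (k := k) (A := A))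
  obtain ⟨J, hJ, hm, hJeq⟩ := exists_largest_multType (k := k) (A := A)
  have h : multIdeal k A = J := by
    rw [hJeq]
    refine le_antisymm (Ideal.span_le.2 ?_) (Ideal.map_le_iff_le_comap.2 fun y hy => ?_)
    · rintro _ ⟨b, hb, rfl⟩
      refine Ideal.mem_map_of_mem
        (H20FF.subVal (isHopfSub_uni (k := k) (A := A)) : uni k A →+* A)
        (x := (⟨b, hb⟩ : uni k A) - algebraMap k _ (CoalgebraStruct.counit (R := k) b)) ?_
      rw [RingHom.mem_ker, map_sub, AlgHom.commutes, sub_eq_zero]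
      rfl
    · refine Ideal.subset_span ⟨(y : A), y.2, ?_⟩
      have : CoalgebraStruct.counit (R := k) (y : A) = 0 :=
        (RingHom.mem_ker (f := Bialgebra.counitAlgHom k (uni k A))).1 hy
      rw [this, map_zero, sub_zero]
      rfl
  rw [h]
  exact ⟨hJ, hm⟩

theorem multIdeal_le_ker [Coalgebra.IsCocomm k A] {C : Type u} [CommRing C] [HopfAlgebra k C]
    (q : A →ₐc[k] C) (hq : Function.Surjective q) (hC : SGA3b.IsMultTypeConst k C) :
    multIdeal k A ≤ RingHom.ker (q : A →ₐ[k] C) := by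
  refine Ideal.span_le.2 ?_
  rintro _ ⟨b, hb, rfl⟩
  show q (b - _) = 0
  rw [map_sub, map_uni_of_multType q hq hC hb, AlgHomClass.commutes]
  exact sub_self _

theorem map_multIdeal {A' : Type u} [CommRing A'] [HopfAlgebra k A'] (φ : A →ₐc[k] A') :
    multIdeal k A ≤ (multIdeal k A').comap (φ : A →ₐ[k] A') := by
  refine Ideal.span_le.2 ?_
  rintro _ ⟨b, ⟨n, hn⟩, rfl⟩
  refine Ideal.subset_span ⟨φ b, ⟨n, map_mem_coFil (φ : A →ₐc[k] A').toLinearMap (map_one φ)
    (fun a => CoalgHomClass.counit_comp_apply φ a) (fun a => (CoalgHomClass.map_comp_comul_apply φ a).symm) hn⟩, ?_⟩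
  show φ (b - _) = _
  rw [map_sub, AlgHomClass.commutes, CoalgHomClass.counit_comp_apply φ b]

/-- The ideal of the largest subgroup of multiplicative type pulls back correctly along injective maps. -/
theorem comap_multIdeal [Coalgebra.IsCocomm k A] {A' : Type u} [CommRing A'] [HopfAlgebra k A']
    [Coalgebra.IsCocomm k A'] (φ : A →ₐc[k] A') (hφ : Function.Injective φ) {x : A}
    (hx : φ x ∈ multIdeal k A') : x ∈ multIdeal k A := by
  let K := AlgebraicClosure k
  obtain ⟨Φ, hΦ⟩ := JordanSplit.exists_proj (L := K) (H := K ⊗[k] A)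
  obtain ⟨Φ', hΦ'⟩ := JordanSplit.exists_proj (L := K) (H := K ⊗[k] A')
  let φK : K ⊗[k] A →ₐc[K] K ⊗[k] A' := Bialgebra.TensorProduct.map (BialgHom.id K K) φ
  have hφK : Function.Injective φK := by
    have h := Module.Flat.lTensor_preserves_injective_linearMap (M := K) (φ : A →ₐ[k] A').toLinearMap hφ
    intro a b hab
    refine h ?_
    have key : ∀ z : K ⊗[k] A, LinearMap.lTensor K (φ : A →ₐ[k] A').toLinearMap z = φK z := fun z => by
      induction z using TensorProduct.induction_on with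
      | zero => simp
      | tmul s a => rfl
      | add u v hu hv => simp only [map_add, hu, hv]
    rw [key, key, hab]
  have hnat : (Φ' : K ⊗[k] A' →ₐ[K] K ⊗[k] A').toLinearMap ∘ₗ (φK : K ⊗[k] A →ₐ[K] K ⊗[k] A').toLinearMap =
      (φK : K ⊗[k] A →ₐ[K] K ⊗[k] A').toLinearMap ∘ₗ (Φ : K ⊗[k] A →ₐ[K] K ⊗[k] A).toLinearMap := by
      refine JordanSplit.ext_on ?_
      intro g b hg hb
      obtain ⟨n, hn⟩ := hb
      show Φ' (φK (g * b)) = φK (Φ (g * b))
      have hb' : φK b ∈ uni K (K ⊗[k] A') := ⟨n, map_mem_coFil (φK : K ⊗[k] A →ₐc[K] K ⊗[k] A').toLinearMap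
        (map_one φK) (fun a => CoalgHomClass.counit_comp_apply φK a)
        (fun a => (CoalgHomClass.map_comp_comul_apply φK a).symm) hn⟩
      rw [hΦ g b hg ⟨n, hn⟩, map_smul, map_mul φK, hΦ' _ _ (hg.map φK) hb', CoalgHomClass.counit_comp_apply φK b]
  have hzero : Φ' ((1 : K) ⊗ₜ[k] φ x) = 0 := by
    refine Submodule.span_induction (p := fun z _ => Φ' ((1 : K) ⊗ₜ[k] z) = 0) ?_ (by simp)
      (fun a b _ _ ha hb => by rw [TensorProduct.tmul_add, map_add, ha, hb, add_zero]) ?_ hx
    · rintro _ ⟨b, ⟨n, hn⟩, rfl⟩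
      have h1 := hΦ' 1 _ IsGroupLikeElem.one ⟨n, JordanSplit.one_tmul_mem_coFil K hn⟩
      rw [_root_.one_mul, TensorProduct.counit_tmul, CommSemiring.counit_apply] at h1
      rw [TensorProduct.tmul_sub, map_sub, h1, Algebra.algebraMap_eq_smul_one (A := A'), TensorProduct.tmul_smul,
        ← algebraMap_smul K (CoalgebraStruct.counit (R := k) b) ((1 : K) ⊗ₜ[k] (1 : A')), map_smul,
        ← Algebra.TensorProduct.one_def, map_one Φ', Algebra.algebraMap_eq_smul_one]
      exact sub_self _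
    · intro c z _ hz
      rw [smul_eq_mul, show (1 : K) ⊗ₜ[k] (c * z) = ((1 : K) ⊗ₜ[k] c) * ((1 : K) ⊗ₜ[k] z) by
        rw [Algebra.TensorProduct.tmul_mul_tmul, _root_.one_mul], map_mul Φ', hz, MulZeroClass.mul_zero]
  have hΦx : Φ ((1 : K) ⊗ₜ[k] x) = 0 := hφK (by
    rw [map_zero]
    exact (LinearMap.congr_fun hnat ((1 : K) ⊗ₜ[k] x)).symm.trans hzero)
  obtain ⟨hJ, -⟩ := exists_multIdeal (k := k) (A := A)
  let q : K ⊗[k] A →ₐ[K] K ⊗[k] (A ⧸ multIdeal k A) :=
    Algebra.TensorProduct.map (AlgHom.id K K) (Ideal.Quotient.mkₐ k (multIdeal k A))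
  have hqΦ : q.toLinearMap ∘ₗ (Φ : K ⊗[k] A →ₐ[K] K ⊗[k] A).toLinearMap = q.toLinearMap := by
      refine JordanSplit.ext_on ?_
      intro g b hg hb
      obtain ⟨n, hn⟩ := hb
      show q (Φ (g * b)) = q (g * b)
      rw [hΦ g b hg ⟨n, hn⟩, map_smul, map_mul q]
      rw [mul_comm (q g) (q b)]
      refine (Algebra.smul_def (CoalgebraStruct.counit (R := K) b) (q g)).trans ?_
      congr 1
      refine (LinearMap.eqOn_span ?_ (mem_span_of_mem_coFil_baseChange K hn) (f := q.toLinearMap)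
        (g := Algebra.linearMap K _ ∘ₗ CoalgebraStruct.counit (R := K))).symm
      rintro _ ⟨a, ha, rfl⟩
      have h2 : Ideal.Quotient.mk (multIdeal k A) a = algebraMap k _ (CoalgebraStruct.counit (R := k) a) := by
        rw [← Ideal.Quotient.mk_algebraMap, Ideal.Quotient.eq]
        exact Ideal.subset_span ⟨a, ⟨n, ha⟩, rfl⟩
      show (1 : K) ⊗ₜ[k] Ideal.Quotient.mk (multIdeal k A) a = algebraMap K _ (CoalgebraStruct.counit (R := K) ((1 : K) ⊗ₜ[k] a))
      rw [h2, TensorProduct.counit_tmul, CommSemiring.counit_apply, Algebra.algebraMap_eq_smul_one (A := A ⧸ multIdeal k A),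
        TensorProduct.tmul_smul, TensorProduct.smul_tmul', Algebra.TensorProduct.algebraMap_apply]
      rfl
  have h3 := LinearMap.congr_fun hqΦ ((1 : K) ⊗ₜ[k] x)
  refine Ideal.Quotient.eq_zero_iff_mem.1 (JordanSplit.one_tmul_inj (k := k) K ?_)
  show (1 : K) ⊗ₜ[k] Ideal.Quotient.mk (multIdeal k A) x = (1 : K) ⊗ₜ[k] (0 : A ⧸ multIdeal k A)
  rw [TensorProduct.tmul_zero]
  refine h3.symm.trans ?_
  show q (Φ ((1 : K) ⊗ₜ[k] x)) = 0
  rw [hΦx, map_zero]

end Algebra

section Scheme

variable {k : Type u} [Field k]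

/-- The homomorphism of spectra of a map of Hopf algebras. -/
def specHom {A C : Type u} [CommRing A] [HopfAlgebra k A] [CommRing C] [HopfAlgebra k C] (ψ : A →ₐc[k] C) :
    specGrp k C ⟶ specGrp k A :=
  ((hopfSpec (CommRingCat.of k)).map (CommHopfAlgCat.ofHom (R := k) ψ).op).hom.hom

instance isMonHom_specHom {A C : Type u} [CommRing A] [HopfAlgebra k A] [CommRing C] [HopfAlgebra k C]
    (ψ : A →ₐc[k] C) : IsMonHom (specHom ψ) :=
  ((hopfSpec (CommRingCat.of k)).map (CommHopfAlgCat.ofHom (R := k) ψ).op).hom.isMonHom_hom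

theorem specHom_left {A C : Type u} [CommRing A] [HopfAlgebra k A] [CommRing C] [HopfAlgebra k C] (ψ : A →ₐc[k] C) :
    (specHom ψ).left = Spec.map (CommRingCat.ofHom (ψ : A →ₐ[k] C).toRingHom) := rfl

theorem isClosedImmersion_specHom {A C : Type u} [CommRing A] [HopfAlgebra k A] [CommRing C] [HopfAlgebra k C]
    (ψ : A →ₐc[k] C) (hψ : Function.Surjective ψ) : IsClosedImmersion (specHom ψ).left := by
  rw [specHom_left]
  exact IsClosedImmersion.spec_of_surjective _ hψ

/-- A closed subgroup scheme of an affine group is cut out by a surjection of Hopf algebras. -/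
theorem exists_presentation {G M : Over (Spec (CommRingCat.of k))} [GrpObj G] [GrpObj M] (j : M ⟶ G) [IsMonHom j]
    [IsClosedImmersion j.left] {A : Type u} [CommRing A] [HopfAlgebra k A] (eG : G ≅ specGrp k A) [IsMonHom eG.hom] :
    ∃ (C : Type u) (_ : CommRing C) (_ : HopfAlgebra k C) (ψ : A →ₐc[k] C) (eM : M ≅ specGrp k C),
      IsMonHom eM.hom ∧ IsMonHom eM.inv ∧ Function.Surjective ψ ∧ j ≫ eG.hom = eM.hom ≫ specHom ψ := by
  haveI : IsAffine (specGrp k A).left := inferInstanceAs (IsAffine (Spec _))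
  haveI : IsIso eG.hom.left := inferInstanceAs (IsIso ((Over.forget _).map eG.hom))
  haveI : IsClosedImmersion (j ≫ eG.hom).left := by rw [Over.comp_left]; infer_instance
  haveI : IsAffine M.left := isAffine_of_isAffineHom (j ≫ eG.hom).left
  obtain ⟨C, _, _, ⟨e⟩⟩ := H21Hom.exists_hopf_model M
  let eM : M ≅ specGrp k C := (Grp.forget _).mapIso e
  haveI : IsMonHom eM.hom := e.hom.hom.isMonHom_hom
  haveI : IsMonHom eM.inv := e.inv.hom.isMonHom_hom
  haveI : IsIso eM.inv.left := inferInstanceAs (IsIso ((Over.forget _).map eM.inv))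
  let g : specGrp k C ⟶ specGrp k A := eM.inv ≫ j ≫ eG.hom
  obtain ⟨ψ, hψ⟩ := H21Hom.exists_bialgHom_of_hom g
  haveI hcl : IsClosedImmersion (Spec.map (CommRingCat.ofHom (ψ : A →ₐ[k] C).toRingHom)) := by
    rw [← hψ]
    show IsClosedImmersion (eM.inv.left ≫ (j ≫ eG.hom).left)
    infer_instance
  refine ⟨C, ‹_›, ‹_›, ψ, eM, inferInstance, inferInstance, ?_, ?_⟩
  · have h2 := (HasAffineProperty.iff_of_isAffine (P := @IsClosedImmersion)).mp hcl
    exact (RingHom.surjective_respectsIso.arrow_mk_iso_iff (arrowIsoΓSpecOfIsAffine _)).mpr h2.2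
  · have : g = specHom ψ := Over.OverMorphism.ext (hψ.trans (specHom_left ψ).symm)
    rw [← this, Iso.hom_inv_id_assoc]

/-- A map of Hopf algebras factors through a surjection whose kernel it kills. -/
theorem exists_factor {A C D : Type u} [CommRing A] [HopfAlgebra k A] [CommRing C] [HopfAlgebra k C]
    [CommRing D] [HopfAlgebra k D] (ψ : A →ₐc[k] C) (hψ : Function.Surjective ψ) (φ : A →ₐc[k] D)
    (h : RingHom.ker (ψ : A →ₐ[k] C) ≤ RingHom.ker (φ : A →ₐ[k] D)) :
    ∃ χ : C →ₐc[k] D, ∀ a, χ (ψ a) = φ a := by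
  let χ₀ : C →ₐ[k] D := (Ideal.Quotient.liftₐ _ (φ : A →ₐ[k] D) fun x hx => RingHom.mem_ker.1 (h hx)).comp
    (Ideal.quotientKerAlgEquivOfSurjective (f := (ψ : A →ₐ[k] C)) hψ).symm.toAlgHom
  have hχ : ∀ a, χ₀ (ψ a) = φ a := fun a => by
    have hs : (Ideal.quotientKerAlgEquivOfSurjective (f := (ψ : A →ₐ[k] C)) hψ).symm (ψ a) = Ideal.Quotient.mk _ a :=
      (AlgEquiv.symm_apply_eq _).2 rfl
    exact (congrArg (Ideal.Quotient.liftₐ _ (φ : A →ₐ[k] D) fun x hx => RingHom.mem_ker.1 (h hx)) hs).trans rfl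
  refine ⟨BialgHom.ofAlgHom χ₀ (AlgHom.ext fun c => ?_) (AlgHom.ext fun c => ?_), hχ⟩
  · obtain ⟨a, rfl⟩ := hψ c
    show CoalgebraStruct.counit (R := k) (χ₀ (ψ a)) = CoalgebraStruct.counit (R := k) (ψ a)
    rw [hχ, CoalgHomClass.counit_comp_apply, CoalgHomClass.counit_comp_apply]
  · obtain ⟨a, rfl⟩ := hψ c
    show TensorProduct.map χ₀.toLinearMap χ₀.toLinearMap (CoalgebraStruct.comul (R := k) (ψ a)) =
      CoalgebraStruct.comul (R := k) (χ₀ (ψ a))
    rw [hχ, ← CoalgHomClass.map_comp_comul_apply φ a, ← CoalgHomClass.map_comp_comul_apply ψ a]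
    generalize CoalgebraStruct.comul (R := k) a = z
    induction z using TensorProduct.induction_on with
    | zero => simp
    | tmul x y => simp [hχ]
    | add x y hx hy => simp only [map_add, hx, hy]

/-- The coordinate ring of a commutative affine group of finite type. -/
theorem exists_comm_model (G : Over (Spec (CommRingCat.of k))) [GrpObj G] [IsCommMonObj G] [IsAffine G.left]
    [LocallyOfFiniteType G.hom] :
    ∃ (A : Type u) (_ : CommRing A) (_ : HopfAlgebra k A) (eG : G ≅ specGrp k A),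
      Coalgebra.IsCocomm k A ∧ Algebra.FiniteType k A ∧ IsMonHom eG.hom ∧ IsMonHom eG.inv := by
  obtain ⟨A, _, _, ⟨e⟩⟩ := H21Hom.exists_hopf_model G
  let ei : G ≅ specGrp k A := (Grp.forget _).mapIso e
  haveI : IsMonHom ei.hom := e.hom.hom.isMonHom_hom
  haveI : IsMonHom ei.inv := e.inv.hom.isMonHom_hom
  haveI : IsIso ei.inv.left := inferInstanceAs (IsIso ((Over.forget _).map ei.inv))
  haveI : LocallyOfFiniteType (specGrp k A).hom := by rw [← Over.w ei.inv]; infer_instance
  have hft : Algebra.FiniteType k A := by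
    have h : (CommRingCat.ofHom (algebraMap k A)).hom.FiniteType :=
      (HasRingHomProperty.Spec_iff (P := @LocallyOfFiniteType)).1
        (show LocallyOfFiniteType (Spec.map (CommRingCat.ofHom (algebraMap k A))) from ‹_›)
    exact RingHom.finiteType_algebraMap.1 h
  refine ⟨A, ‹_›, ‹_›, ei, H21Hom.isCocomm_of_comm_points fun D _ _ a b => ?_, hft, inferInstance, inferInstance⟩
  refine (Spec.mapMulEquiv (R := k) (S := A) (T := D)).injective ?_
  rw [map_mul, map_mul]
  refine (cancel_mono ei.inv).1 ?_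
  rw [MonObj.mul_comp, MonObj.mul_comp, mul_comm]

/-- The largest subgroup of multiplicative type is cut out by `multIdeal`. -/
theorem exists_presentation_of_max {G M : Over (Spec (CommRingCat.of k))} [GrpObj G] [GrpObj M] (j : M ⟶ G)
    [IsMonHom j] [IsClosedImmersion j.left] (hM : SGA3x.IsMultTypeFT M)
    (hMmax : ∀ (M' : Over (Spec (CommRingCat.of k))) [GrpObj M'] (j' : M' ⟶ G) [IsMonHom j']
      [IsClosedImmersion j'.left], SGA3x.IsMultTypeFT M' → ∃ g : M' ⟶ M, g ≫ j = j')
    {A : Type u} [CommRing A] [HopfAlgebra k A] [Coalgebra.IsCocomm k A] [Algebra.FiniteType k A]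
    (eG : G ≅ specGrp k A) [IsMonHom eG.hom] [IsMonHom eG.inv] :
    ∃ (C : Type u) (_ : CommRing C) (_ : HopfAlgebra k C) (ψ : A →ₐc[k] C) (eM : M ≅ specGrp k C),
      IsMonHom eM.hom ∧ IsMonHom eM.inv ∧ Function.Surjective ψ ∧ j ≫ eG.hom = eM.hom ≫ specHom ψ ∧
      SGA3b.IsMultType k C ∧ RingHom.ker (ψ : A →ₐ[k] C) = multIdeal k A := by
  obtain ⟨C, iC, iH, ψ, eM, hh, hi, hψ, hcomp⟩ := exists_presentation j eG
  haveI := hh; haveI := hi
  have hC : SGA3b.IsMultType k C := isMultType_of_specGrp (isMultTypeFT_of_iso hM (Grp.mkIso' eM))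
  have hge := multIdeal_le_ker ψ hψ (isMultTypeConst_of_isMultType hC)
  suffices hle : RingHom.ker (ψ : A →ₐ[k] C) ≤ multIdeal k A from
    ⟨C, iC, iH, ψ, eM, hh, hi, hψ, hcomp, hC, le_antisymm hle hge⟩
  obtain ⟨hJ, hJm⟩ := exists_multIdeal (k := k) (A := A)
  haveI := hJ
  let q := Bialgebra.Quotient.mkBialgHom (R := k) (multIdeal k A)
  let j' : specGrp k (A ⧸ multIdeal k A) ⟶ G := specHom q ≫ eG.inv
  haveI : IsIso eG.inv.left := inferInstanceAs (IsIso ((Over.forget _).map eG.inv))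
  haveI : IsClosedImmersion j'.left := by
    haveI := isClosedImmersion_specHom q Ideal.Quotient.mk_surjective
    show IsClosedImmersion ((specHom q).left ≫ eG.inv.left)
    infer_instance
  haveI : IsMonHom j' := inferInstanceAs (IsMonHom (specHom q ≫ eG.inv))
  obtain ⟨g, hg⟩ := hMmax _ j'
    (isMultTypeFT_specGrp inferInstance (isMultType_of_isMultTypeConst hJm))
  have h1 : (g ≫ eM.hom) ≫ specHom ψ = specHom q := by
    rw [Category.assoc, ← hcomp, ← Category.assoc, hg]
    simp [j']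
  haveI : Mono (specHom ψ) := by
    haveI := isClosedImmersion_specHom ψ hψ
    exact Over.mono_of_mono_left _
  intro x hx
  let r : C →+* A ⧸ multIdeal k A := (Spec.preimage (g ≫ eM.hom).left).hom
  have h2 : r.comp (ψ : A →ₐ[k] C).toRingHom = (q : A →ₐ[k] A ⧸ multIdeal k A).toRingHom := by
    have h3 := congrArg (fun z => z.left) h1
    simp only [Over.comp_left, specHom_left] at h3
    rw [← Spec.map_preimage (g.left ≫ eM.hom.left), ← Spec.map_comp] at h3
    exact congrArg CommRingCat.Hom.hom (Spec.map_injective h3)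
  refine Ideal.Quotient.eq_zero_iff_mem.1 ?_
  have h4 := RingHom.congr_fun h2 x
  rw [show (Ideal.Quotient.mk (multIdeal k A)) x = (q : A →ₐ[k] A ⧸ multIdeal k A).toRingHom x from rfl, ← h4]
  show r (ψ x) = 0
  rw [show ψ x = 0 from hx, map_zero]

end Scheme

end

end Groth.Agent.H19Chev.LargestMult
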