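import Groth.Prelude.Def_AGF
import Groth.Prelude.Def_CoactBr
import Groth.Prelude.Def_GLin5
import Mathlib.FieldTheory.IsAlgClosed.AlgebraicClosure
import Mathlib.Data.ZMod.Basic
import Groth.Agent.H20HM.Points
import Groth.Agent.H20Red.Points
import Groth.Agent.H21Diag.SmoothLift
import Groth.Agent.H21Diag.Diag
import Mathlib.RingTheory.TensorProduct.MonoidAlgebra
import Mathlib.Algebra.DirectSum.Module

/-!
# Matrices of points of `GL_m` and diagonalisable subgroups of `GL_m`
-/

set_option autoImplicit false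
set_option maxHeartbeats 1000000
set_option backward.isDefEq.respectTransparency false
universe u
open CategoryTheory MonoidalCategory CartesianMonoidalCategory MonObj GrpObj AlgebraicGeometry
open AlgGrp
open CategoryTheory.Limits

namespace Groth.Agent.H19Chev.MuGLn

open Groth.Agent
set_option synthInstance.maxHeartbeats 400000


theorem exists_pt_eq {R : Type u} [CommRing R] {B C : Type u} [CommRing B] [Algebra R B] [CommRing C] [Algebra R C]
    (f : CoactBr.sp R C ⟶ CoactBr.sp R B) : ∃ φ : B →ₐ[R] C, CoactBr.pt φ = f := by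
  let φ₀ : B →+* C := (Spec.preimage f.left).hom
  have h1 : CommRingCat.ofHom (algebraMap R B) ≫ Spec.preimage f.left = CommRingCat.ofHom (algebraMap R C) :=
    Spec.map_injective ((Spec.map_comp _ _).trans ((congrArg (· ≫ _) (Spec.map_preimage f.left)).trans (Over.w f)))
  let φ : B →ₐ[R] C :=
    { φ₀ with
      commutes' := fun r => congrArg (fun φ' => CommRingCat.Hom.hom φ' r) h1 }
  exact ⟨φ, Over.OverMorphism.ext (Spec.map_preimage f.left)⟩

theorem pt_convMul' {R : Type u} [CommRing R] {A C : Type u} [CommRing A] [Bialgebra R A] [CommRing C] [Algebra R C]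
    (g h : WithConv (A →ₐ[R] C)) : CoactBr.pt (g * h).ofConv = CoactBr.pt g.ofConv * CoactBr.pt h.ofConv :=
  map_mul Spec.mapMulEquiv g h

/-- Complete families of orthogonal idempotent matrices are simultaneously diagonalisable. -/
theorem exists_diagonalize {F : Type u} [Field F] {J : Type} [Fintype J] [DecidableEq J] {m : ℕ}
    (P : J → Matrix (Fin m) (Fin m) F) (hP : ∀ a b, P a * P b = if a = b then P a else 0) (hsum : ∑ a, P a = 1) :
    ∃ (c : Fin m → J) (C : Matrix (Fin m) (Fin m) F), IsUnit C.det ∧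
      ∀ a, C * P a = Matrix.diagonal (fun i => if c i = a then (1 : F) else 0) * C := by
  classical
  let V : J → Submodule F (Fin m → F) := fun a => LinearMap.range (P a).mulVecLin
  have hfix : ∀ a, ∀ v ∈ V a, ∀ b, (P b).mulVec v = if b = a then v else 0 := by
    rintro a _ ⟨w, rfl⟩ b
    simp only [Matrix.mulVecLin_apply, Matrix.mulVec_mulVec, hP]
    split_ifs with h
    · subst h; rfl
    · exact Matrix.zero_mulVec w
  have hint : DirectSum.IsInternal V := by
    rw [DirectSum.isInternal_submodule_iff_iSupIndep_and_iSup_eq_top]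
    refine ⟨fun a => Submodule.disjoint_def.2 fun v hv hv' => ?_, eq_top_iff.2 fun v _ => ?_⟩
    · have hz : (⨆ (j) (_ : j ≠ a), V j) ≤ LinearMap.ker (P a).mulVecLin := by
        refine iSup₂_le fun j hj w hw => ?_
        rw [LinearMap.mem_ker, Matrix.mulVecLin_apply, hfix j w hw a, if_neg (Ne.symm hj)]
      have h1 := LinearMap.mem_ker.1 (hz hv')
      rw [Matrix.mulVecLin_apply, hfix a v hv a, if_pos rfl] at h1
      exact h1
    · have : v = ∑ a, (P a).mulVec v := by rw [← Matrix.sum_mulVec, hsum, Matrix.one_mulVec]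
      rw [this]
      exact Submodule.sum_mem _ fun a _ => Submodule.mem_iSup_of_mem a ⟨v, rfl⟩
  let b := fun a => Module.finBasis F (V a)
  let bV := hint.collectedBasis b
  let e : (Σ a, Fin (Module.finrank F (V a))) ≃ Fin m :=
    Fintype.equivOfCardEq (by rw [← Module.finrank_eq_card_basis bV, Module.finrank_pi, Fintype.card_fin])
  let bb := bV.reindex e
  let c : Fin m → J := fun i => (e.symm i).1
  have hmem : ∀ i, bb i ∈ V (c i) := fun i => by
    rw [Module.Basis.reindex_apply]
    exact hint.collectedBasis_mem b (e.symm i)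
  let B0 : Matrix (Fin m) (Fin m) F := Matrix.of fun i j => bb j i
  have hB0 : B0 = (Pi.basisFun F (Fin m)).toMatrix bb := by
    ext i j; simp [B0, Module.Basis.toMatrix_apply]
  obtain ⟨C, hC1, hC2⟩ : ∃ C, B0 * C = 1 ∧ C * B0 = 1 :=
    ⟨bb.toMatrix (Pi.basisFun F (Fin m)), hB0 ▸ Module.Basis.toMatrix_mul_toMatrix_flip _ _,
      hB0 ▸ Module.Basis.toMatrix_mul_toMatrix_flip _ _⟩
  have hkey : ∀ a, P a * B0 = B0 * Matrix.diagonal (fun i => if c i = a then (1 : F) else 0) := fun a => by
    ext i j
    rw [Matrix.mul_diagonal]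
    have h := congrFun (hfix (c j) (bb j) (hmem j) a) i
    rw [show (P a * B0) i j = (P a).mulVec (bb j) i from rfl, h]
    by_cases hj : a = c j
    · rw [if_pos hj, if_pos hj.symm, _root_.mul_one]; rfl
    · rw [if_neg hj, if_neg fun h' => hj h'.symm, MulZeroClass.mul_zero]; rfl
  refine ⟨c, C, IsUnit.of_mul_eq_one B0.det (by rw [← Matrix.det_mul, hC2, Matrix.det_one]), fun a => ?_⟩
  calc C * P a = C * (P a * B0) * C := by
        rw [Matrix.mul_assoc, Matrix.mul_assoc, hC1, Matrix.mul_one]
    _ = _ := by rw [hkey, ← Matrix.mul_assoc, hC2, Matrix.one_mul]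

section Points
set_option backward.isDefEq.respectTransparency true
attribute [local instance 2000] Hom.group Hom.monoid

variable (k : Type u) [Field k] (K : Type u) [Field K] [Algebra k K] (m : ℕ)

/-- GL_m over k, base changed to K. -/
noncomputable abbrev GLK : Over (Spec (CommRingCat.of K)) :=
  Red.bc (Spec.map (CommRingCat.ofHom (algebraMap k K))) (CoactBr.sp k (CoordGrp.GLn m k))

variable {K} {B : Type u} [CommRing B] [Algebra K B] [Algebra k B] [IsScalarTower k K B]

/-- A K-algebra seen over k. -/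
noncomputable def Jiso : CoactBr.sp k B ≅
    (Over.map (Spec.map (CommRingCat.ofHom (algebraMap k K)))).obj (CoactBr.sp K B) :=
  Over.isoMk (Iso.refl _) (by
    show 𝟙 _ ≫ Spec.map (CommRingCat.ofHom (algebraMap K B)) ≫ Spec.map (CommRingCat.ofHom (algebraMap k K)) =
      Spec.map (CommRingCat.ofHom (algebraMap k B))
    rw [Category.id_comp, ← Spec.map_comp, ← CommRingCat.ofHom_comp, ← IsScalarTower.algebraMap_eq])

/-- The k-algebra map of a point. -/
noncomputable def gp (x : CoactBr.sp K B ⟶ GLK k K m) : H20HM.GP k m B :=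
  WithConv.toConv (exists_pt_eq ((Jiso k).hom ≫ H21Diag.bcHom _ _ _ x)).choose

theorem pt_gp (x : CoactBr.sp K B ⟶ GLK k K m) :
    CoactBr.pt (gp k m x).ofConv = (Jiso k).hom ≫ H21Diag.bcHom _ _ _ x :=
  (exists_pt_eq ((Jiso k).hom ≫ H21Diag.bcHom _ _ _ x)).choose_spec

theorem gp_mul (x y : CoactBr.sp K B ⟶ GLK k K m) : gp k m (x * y) = gp k m x * gp k m y := by
  refine WithConv.ofConv_injective (CoactBr.pt_injective ?_)
  rw [pt_convMul', pt_gp, pt_gp, pt_gp, (H21Diag.bcHom _ _ _).map_mul, MonObj.comp_mul]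

theorem gp_one : gp k m (1 : CoactBr.sp K B ⟶ GLK k K m) = 1 := by
  have h := gp_mul k m (1 : CoactBr.sp K B ⟶ GLK k K m) 1
  rw [_root_.mul_one] at h
  refine H20HM.glMat_ext ?_
  have h2 := congrArg H20HM.glMat h
  rw [H20HM.glMat_mul] at h2
  have hu := (Matrix.isUnit_iff_isUnit_det _).2 (H20HM.isUnit_det_glMat (gp k m (1 : CoactBr.sp K B ⟶ GLK k K m)))
  rw [H20HM.glMat_one]
  exact hu.mul_left_cancel (h2.symm.trans (_root_.mul_one _).symm)

/-- The matrix of a point. -/
noncomputable def mat (x : CoactBr.sp K B ⟶ GLK k K m) : Matrix (Fin m) (Fin m) B := H20HM.glMat (gp k m x)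

theorem mat_mul (x y : CoactBr.sp K B ⟶ GLK k K m) : mat k m (x * y) = mat k m x * mat k m y := by
  rw [mat, gp_mul, H20HM.glMat_mul]; rfl

theorem mat_one : mat k m (1 : CoactBr.sp K B ⟶ GLK k K m) = 1 := by
  rw [mat, gp_one, H20HM.glMat_one]

theorem mat_inj {x y : CoactBr.sp K B ⟶ GLK k K m} (h : mat k m x = mat k m y) : x = y := by
  have h' : gp k m x = gp k m y := H20HM.glMat_ext h
  have h2 : (Jiso k (K := K) (B := B)).hom ≫ H21Diag.bcHom _ _ _ x = (Jiso k).hom ≫ H21Diag.bcHom _ _ _ y := by
    rw [← pt_gp, ← pt_gp, h']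
  exact (H21Diag.bcEquiv _ _ _).symm.injective ((cancel_epi _).1 h2)

theorem mat_comp {B' : Type u} [CommRing B'] [Algebra K B'] [Algebra k B'] [IsScalarTower k K B']
    (ψ : B →ₐ[K] B') (x : CoactBr.sp K B ⟶ GLK k K m) :
    mat k m (CoactBr.pt ψ ≫ x) = (mat k m x).map ψ := by
  have h : gp k m (CoactBr.pt ψ ≫ x) = WithConv.toConv ((ψ.restrictScalars k).comp (gp k m x).ofConv) := by
    refine WithConv.ofConv_injective (CoactBr.pt_injective ?_)
    rw [WithConv.ofConv_toConv, CoactBr.pt_comp, pt_gp, pt_gp]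
    show (Jiso k).hom ≫ (H21Diag.bcEquiv _ _ _).symm (CoactBr.pt ψ ≫ x) = _
    rw [H21Diag.bcEquiv, Adjunction.homEquiv_naturality_left_symm, ← Category.assoc, ← Category.assoc]
    refine congrArg (· ≫ _) ?_
    refine Over.OverMorphism.ext ?_
    simp [Jiso, CoactBr.pt_left]
    exact (Category.id_comp _).trans (Category.comp_id _).symm
  rw [mat, h]
  rfl

/-- The point with a given matrix. -/
noncomputable def ofMat (M : Matrix (Fin m) (Fin m) B) (hM : IsUnit M.det) : CoactBr.sp K B ⟶ GLK k K m :=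
  H21Diag.bcEquiv _ _ _ ((Jiso k).inv ≫ CoactBr.pt (H20HM.glPt (k := k) M hM).ofConv)

theorem mat_ofMat (M : Matrix (Fin m) (Fin m) B) (hM : IsUnit M.det) : mat k m (ofMat (K := K) k m M hM) = M := by
  have h : gp k m (ofMat (K := K) k m M hM) = H20HM.glPt (k := k) M hM := by
    refine WithConv.ofConv_injective (CoactBr.pt_injective ?_)
    rw [pt_gp]
    show (Jiso k).hom ≫ (H21Diag.bcEquiv _ _ _).symm (H21Diag.bcEquiv _ _ _ _) = _
    rw [Equiv.symm_apply_apply, Iso.hom_inv_id_assoc]
  rw [mat, h, H20HM.glMat_glPt]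

end Points

set_option backward.isDefEq.respectTransparency true

section BasePoints

variable (k : Type u) [Field k] (m : ℕ) {B : Type u} [CommRing B] [Algebra k B]

/-- The matrix of a point of `GL_m` over `k`. -/
noncomputable def ptMat (x : CoactBr.sp k B ⟶ CoactBr.sp k (CoordGrp.GLn m k)) : Matrix (Fin m) (Fin m) B :=
  H20HM.glMat (WithConv.toConv (exists_pt_eq x).choose : H20HM.GP k m B)

theorem pt_choose (x : CoactBr.sp k B ⟶ CoactBr.sp k (CoordGrp.GLn m k)) :
    CoactBr.pt (exists_pt_eq x).choose = x := (exists_pt_eq x).choose_spec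

theorem ptMat_pt (ψ : CoordGrp.GLn m k →ₐ[k] B) :
    ptMat k m (CoactBr.pt ψ) = H20HM.glMat (WithConv.toConv ψ : H20HM.GP k m B) := by
  rw [ptMat, CoactBr.pt_injective (pt_choose k m (CoactBr.pt ψ))]

theorem ptMat_mul (x y : CoactBr.sp k B ⟶ CoactBr.sp k (CoordGrp.GLn m k)) :
    ptMat k m (x * y) = ptMat k m x * ptMat k m y := by
  rw [ptMat, ptMat, ptMat, ← H20HM.glMat_mul]
  refine congrArg H20HM.glMat (WithConv.ofConv_injective (CoactBr.pt_injective ?_))
  rw [pt_convMul', WithConv.ofConv_toConv, pt_choose, WithConv.ofConv_toConv, pt_choose, WithConv.ofConv_toConv,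
    pt_choose]

theorem ptMat_one : ptMat k m (1 : CoactBr.sp k B ⟶ CoactBr.sp k (CoordGrp.GLn m k)) = 1 := by
  rw [ptMat, show (exists_pt_eq (1 : CoactBr.sp k B ⟶ CoactBr.sp k (CoordGrp.GLn m k))).choose =
    (1 : H20HM.GP k m B).ofConv from CoactBr.pt_injective ?_]
  · rw [WithConv.toConv_ofConv, H20HM.glMat_one]
  · rw [pt_choose, CoactBr.one_eq_pt]
    rfl

theorem ptMat_inj {x y : CoactBr.sp k B ⟶ CoactBr.sp k (CoordGrp.GLn m k)} (h : ptMat k m x = ptMat k m y) :
    x = y := by
  have h' : (exists_pt_eq x).choose = (exists_pt_eq y).choose :=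
    congrArg WithConv.ofConv
      (H20HM.glMat_ext h : (WithConv.toConv (exists_pt_eq x).choose : H20HM.GP k m B) =
        WithConv.toConv (exists_pt_eq y).choose)
  exact (pt_choose k m x).symm.trans ((congrArg CoactBr.pt h').trans (pt_choose k m y))

theorem ptMat_comp {B' : Type u} [CommRing B'] [Algebra k B'] (ψ : B →ₐ[k] B')
    (x : CoactBr.sp k B ⟶ CoactBr.sp k (CoordGrp.GLn m k)) :
    ptMat k m (CoactBr.pt ψ ≫ x) = (ptMat k m x).map ψ := by
  conv_lhs => rw [← pt_choose k m x, ← CoactBr.pt_comp, ptMat_pt]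
  rfl

variable (K : Type u) [Field K] [Algebra k K]

/-- The matrix of a base-changed point. -/
theorem mat_map {C : Type u} [CommRing C] [Algebra K C] [Algebra k C] [IsScalarTower k K C]
    (incl : B →ₐ[k] C) (f : CoactBr.sp k B ⟶ CoactBr.sp k (CoordGrp.GLn m k)) :
    mat k m (H21Diag.bcEquiv _ _ _ ((Jiso k (K := K)).inv ≫ CoactBr.pt incl) ≫
      (Over.pullback (Spec.map (CommRingCat.ofHom (algebraMap k K)))).map f) = (ptMat k m f).map incl := by
  have hg : gp k m (H21Diag.bcEquiv _ _ _ ((Jiso k (K := K)).inv ≫ CoactBr.pt incl) ≫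
      (Over.pullback (Spec.map (CommRingCat.ofHom (algebraMap k K)))).map f) =
      WithConv.toConv (incl.comp (exists_pt_eq f).choose) := by
    refine WithConv.ofConv_injective (CoactBr.pt_injective ?_)
    rw [pt_gp, WithConv.ofConv_toConv, CoactBr.pt_comp, pt_choose]
    show (Jiso k).hom ≫ (H21Diag.bcEquiv _ _ _).symm (_ ≫ _) = _
    rw [H21Diag.bcEquiv, Adjunction.homEquiv_naturality_right_symm]
    show (Jiso k).hom ≫ (H21Diag.bcEquiv _ _ _).symm (H21Diag.bcEquiv _ _ _ _) ≫ f = _
    rw [Equiv.symm_apply_apply, Category.assoc, Iso.hom_inv_id_assoc]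
  rw [mat, hg]
  rfl

end BasePoints

section Algebra

variable {K : Type u} [Field K] {M : Type} [CommGroup M] {m : ℕ}

theorem hom_ext_of {A : Type u} [CommRing A] [Algebra K A] (f g : MonoidAlgebra K M →ₐ[K] A)
    (h : ∀ χ : M, f (MonoidAlgebra.single χ 1) = g (MonoidAlgebra.single χ 1)) : f = g :=
  MonoidAlgebra.algHom_ext h (Subsingleton.elim _ _)

/-- The diagonal matrix of monomials. -/
noncomputable def monoDiag (R : Type u) [CommRing R] (c : Fin m → M) :
    Matrix (Fin m) (Fin m) (MonoidAlgebra R M) :=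
  Matrix.diagonal fun i => MonoidAlgebra.single (c i) 1

theorem isUnit_det_monoDiag (R : Type u) [CommRing R] (c : Fin m → M) : IsUnit (monoDiag R c).det := by
  rw [monoDiag, Matrix.det_diagonal]
  exact IsUnit.prod_univ_iff.2 fun i => (Group.isUnit (c i)).map (MonoidAlgebra.of R M)

/-- A matrix over the group algebra of a finite commutative group which behaves like a representation is conjugate to
a diagonal matrix of monomials. -/
theorem exists_diag_form [Fintype M] [DecidableEq M] (U : Matrix (Fin m) (Fin m) (MonoidAlgebra K M))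
    (hone : U.map (MonoidAlgebra.lift K K M 1) = 1)
    (hmul : ∀ χ₁ χ₂ : M →* MonoidAlgebra K (M × M),
      U.map (MonoidAlgebra.lift K _ M χ₁) * U.map (MonoidAlgebra.lift K _ M χ₂) =
        U.map (MonoidAlgebra.lift K _ M (χ₁ * χ₂))) :
    ∃ (c : Fin m → M) (C : Matrix (Fin m) (Fin m) K), IsUnit C.det ∧
      C.map (algebraMap K (MonoidAlgebra K M)) * U = monoDiag K c * C.map (algebraMap K (MonoidAlgebra K M)) := by
  classical
  let P : M → Matrix (Fin m) (Fin m) K := fun a => Matrix.of fun i j => (U i j).coeff a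
  have hU : ∀ i j, U i j = ∑ a : M, MonoidAlgebra.single a (P a i j) := by
    intro i j
    ext χ
    rw [MonoidAlgebra.coeff_sum, Finset.sum_apply', Finset.sum_eq_single χ]
    · simp [P]
    · intro a _ ha
      simp [MonoidAlgebra.coeff_single, ha]
    · exact fun h => absurd (Finset.mem_univ _) h
  have hcoef : ∀ {B : Type u} [CommRing B] [Algebra K B] (χ : M →* B) (i j : Fin m),
      U.map (MonoidAlgebra.lift K B M χ) i j = ∑ a : M, P a i j • χ a := by
    intro B _ _ χ i j
    rw [Matrix.map_apply, hU, map_sum]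
    exact Finset.sum_congr rfl fun a _ => MonoidAlgebra.lift_single _ _ _
  have hsum : ∑ a, P a = 1 := by
    ext i j
    have := congrFun (congrFun hone i) j
    rw [hcoef] at this
    simpa [Matrix.sum_apply] using this
  have hP : ∀ a b, P a * P b = if a = b then P a else 0 := by
    let χ₁ : M →* MonoidAlgebra K (M × M) := (MonoidAlgebra.of K (M × M)).comp (MonoidHom.inl M M)
    let χ₂ : M →* MonoidAlgebra K (M × M) := (MonoidAlgebra.of K (M × M)).comp (MonoidHom.inr M M)
    intro a b
    ext i j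
    have he₁ : ∀ (x : M) (r : K), r • χ₁ x = MonoidAlgebra.single (x, (1 : M)) r := fun x r => by
      show r • MonoidAlgebra.single (x, (1 : M)) (1 : K) = _
      rw [MonoidAlgebra.smul_single', _root_.mul_one]
    have he₂ : ∀ (x : M) (r : K), r • χ₂ x = MonoidAlgebra.single ((1 : M), x) r := fun x r => by
      show r • MonoidAlgebra.single ((1 : M), x) (1 : K) = _
      rw [MonoidAlgebra.smul_single', _root_.mul_one]
    have he₁₂ : ∀ (x : M) (r : K), r • (χ₁ * χ₂) x = MonoidAlgebra.single (x, x) r := fun x r => by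
      show r • (MonoidAlgebra.single (x, (1 : M)) (1 : K) * MonoidAlgebra.single ((1 : M), x) (1 : K)) = _
      rw [MonoidAlgebra.single_mul_single, MonoidAlgebra.smul_single', Prod.mk_mul_mk, _root_.mul_one,
        _root_.one_mul, _root_.mul_one, _root_.mul_one]
    have h := congrFun (congrFun (hmul χ₁ χ₂) i) j
    rw [Matrix.mul_apply] at h
    simp only [hcoef, he₁, he₂, he₁₂, Finset.sum_mul, Finset.mul_sum, MonoidAlgebra.single_mul_single,
      Prod.mk_mul_mk, _root_.mul_one, _root_.one_mul] at h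
    have h' := congrArg (fun z => z.coeff (a, b)) h
    simp only [MonoidAlgebra.coeff_sum, Finset.sum_apply', MonoidAlgebra.coeff_single, Finsupp.single_apply,
      Prod.mk.injEq, ite_and, Finset.sum_ite_eq', Finset.mem_univ, if_true] at h'
    rw [Matrix.mul_apply, h']
    split_ifs with hab
    · subst hab; simp
    · simp [hab]
  obtain ⟨c, C, hC, hCP⟩ := exists_diagonalize P hP hsum
  refine ⟨c, C, hC, ?_⟩
  have hss : ∀ (x : M) (f : Fin m → K),
      ∑ l, MonoidAlgebra.single x (f l) = MonoidAlgebra.single x (∑ l, f l) :=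
    fun x f => (map_sum (MonoidAlgebra.singleAddHom x) f Finset.univ).symm
  ext i j
  rw [Matrix.mul_apply, monoDiag, Matrix.diagonal_mul]
  simp only [Matrix.map_apply, hU, Finset.mul_sum, MonoidAlgebra.coe_algebraMap, Function.comp_apply,
    MonoidAlgebra.single_mul_single, _root_.one_mul, _root_.mul_one, Algebra.algebraMap_self, RingHom.id_apply]
  rw [Finset.sum_comm, Finset.sum_eq_single (c i)]
  · have h2 : ∑ l, C i l * P (c i) l j = C i j := by
      have := congrFun (congrFun (hCP (c i)) i) j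
      rwa [Matrix.mul_apply, Matrix.diagonal_mul, if_pos rfl, _root_.one_mul] at this
    rw [hss, h2]
  · intro a _ ha
    have h2 : ∑ l, C i l * P a l j = 0 := by
      have := congrFun (congrFun (hCP a) i) j
      rwa [Matrix.mul_apply, Matrix.diagonal_mul, if_neg (Ne.symm ha), MulZeroClass.zero_mul] at this
    rw [hss, h2, MonoidAlgebra.single_zero]
  · exact fun h => absurd (Finset.mem_univ _) h

variable {k : Type u} [Field k]

/-- The diagonal monomial matrix defines a homomorphism of Hopf algebras. -/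
theorem exists_bialgHom (c : Fin m → M) :
    ∃ φ : CoordGrp.GLn m k →ₐc[k] MonoidAlgebra k M, ∀ i j, φ (CoordGrp.GLn.X i j) = monoDiag k c i j := by
  classical
  let φ₀ : H20HM.GP k m (MonoidAlgebra k M) := H20HM.glPt _ (isUnit_det_monoDiag k c)
  have hφX : ∀ i j, φ₀.ofConv (CoordGrp.GLn.X i j) = monoDiag k c i j := fun i j => by
    rw [← H20HM.glMat_apply, H20HM.glMat_glPt]
  refine ⟨BialgHom.ofAlgHom φ₀.ofConv ?_ ?_, hφX⟩
  · have h : WithConv.toConv ((Bialgebra.counitAlgHom k (MonoidAlgebra k M)).comp φ₀.ofConv) =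
        WithConv.toConv (Bialgebra.counitAlgHom k (CoordGrp.GLn m k)) := H20HM.glMat_ext (by
      ext i j
      simp only [H20HM.glMat_apply, AlgHom.comp_apply, hφX,
        Bialgebra.counitAlgHom_apply, CoordGrp.GLn.counit_X, monoDiag, Matrix.diagonal_apply]
      split_ifs <;> simp)
    exact congrArg WithConv.ofConv h
  · have h : WithConv.toConv ((Algebra.TensorProduct.map φ₀.ofConv φ₀.ofConv).comp
          (Bialgebra.comulAlgHom k (CoordGrp.GLn m k))) =
        WithConv.toConv ((Bialgebra.comulAlgHom k (MonoidAlgebra k M)).comp φ₀.ofConv) := H20HM.glMat_ext (by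
      ext i j
      simp only [H20HM.glMat_apply, AlgHom.comp_apply, hφX, Bialgebra.comulAlgHom_apply,
        CoordGrp.GLn.comul_X, map_sum, Algebra.TensorProduct.map_tmul, monoDiag, Matrix.diagonal_apply]
      rw [Finset.sum_eq_single i]
      · by_cases h : i = j
        · subst h; simp
        · simp [h]
      · intro l _ hl; simp [Ne.symm hl]
      · exact fun h => absurd (Finset.mem_univ _) h)
    exact congrArg WithConv.ofConv h

theorem surjective_of_generates [Finite M] {c : Fin m → M} (hgen : Subgroup.closure (Set.range c) = ⊤)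
    (φ : CoordGrp.GLn m k →ₐ[k] MonoidAlgebra k M) (hφ : ∀ i j, φ (CoordGrp.GLn.X i j) = monoDiag k c i j) :
    Function.Surjective φ := by
  classical
  have hall : ∀ x : M, MonoidAlgebra.single x (1 : k) ∈ φ.range := fun x => by
    have hx : x ∈ Subgroup.closure (Set.range c) := hgen ▸ Subgroup.mem_top x
    rw [← Subgroup.mem_toSubmonoid, Subgroup.closure_toSubmonoid_of_finite] at hx
    induction hx using Submonoid.closure_induction with
    | mem y hy =>
      obtain ⟨i, rfl⟩ := hy
      exact ⟨CoordGrp.GLn.X i i, (hφ i i).trans (Matrix.diagonal_apply_eq _ _)⟩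
    | one => exact one_mem _
    | mul a b _ _ ha hb =>
      have := mul_mem ha hb
      rwa [MonoidAlgebra.single_mul_single, _root_.mul_one] at this
  intro z
  suffices z ∈ φ.range from this
  induction z using MonoidAlgebra.induction_linear with
  | zero => exact zero_mem _
  | add a b ha hb => exact add_mem ha hb
  | single x r =>
    rw [show MonoidAlgebra.single x r = r • MonoidAlgebra.single x (1 : k) by simp]
    exact Subalgebra.smul_mem _ (hall x) r

variable (K) [Algebra k K]

theorem exists_isPullback (incl : MonoidAlgebra k M →+* MonoidAlgebra K M)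
    (h : incl = MonoidAlgebra.mapRingHom M (algebraMap k K)) :
    IsPullback (Spec.map (CommRingCat.ofHom incl))
      (Spec.map (CommRingCat.ofHom (algebraMap K (MonoidAlgebra K M))))
      (Spec.map (CommRingCat.ofHom (algebraMap k (MonoidAlgebra k M))))
      (Spec.map (CommRingCat.ofHom (algebraMap k K))) := by
  open scoped AlgebraMonoidAlgebra in
  exact h ▸ isPullback_SpecMap_of_isPushout _ _ _ _
    (CommRingCat.isPushout_of_isPushout k (MonoidAlgebra k M) K (MonoidAlgebra K M))

end Algebra

attribute [local instance 2000] Hom.group Hom.monoid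

section Subgroups

variable (k : Type u) [Field k] (m : ℕ) {M : Type} [CommGroup M]

/-- Multiplication of character points of a diagonalisable group. -/
theorem pt_lift_mul {B : Type u} [CommRing B] [Algebra k B] (χ₁ χ₂ : M →* B) :
    (CoactBr.pt (MonoidAlgebra.lift k B M χ₁) : CoactBr.sp k B ⟶ CoactBr.sp k (MonoidAlgebra k M)) *
        CoactBr.pt (MonoidAlgebra.lift k B M χ₂) =
      CoactBr.pt (MonoidAlgebra.lift k B M (χ₁ * χ₂)) := by
  rw [CoactBr.pt_mul_pt]
  refine congrArg CoactBr.pt (hom_ext_of _ _ fun χ => ?_)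
  simp [MonoidAlgebra.comul_single]

theorem pt_lift_one {B : Type u} [CommRing B] [Algebra k B] :
    (CoactBr.pt (MonoidAlgebra.lift k B M 1) : CoactBr.sp k B ⟶ CoactBr.sp k (MonoidAlgebra k M)) = 1 := by
  rw [CoactBr.one_eq_pt]
  refine congrArg CoactBr.pt (hom_ext_of _ _ fun χ => ?_)
  simp

/-- A diagonalisable subgroup of `GL_m` over a field is conjugate to a diagonal one, and the exponents generate. -/
theorem exists_normal_form [Fintype M] [DecidableEq M]
    (f : CoactBr.sp k (MonoidAlgebra k M) ⟶ CoactBr.sp k (CoordGrp.GLn m k)) [IsMonHom f] [Mono f] :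
    ∃ (c : Fin m → M) (C : Matrix (Fin m) (Fin m) k), IsUnit C.det ∧
      C.map (algebraMap k (MonoidAlgebra k M)) * ptMat k m f =
        monoDiag k c * C.map (algebraMap k (MonoidAlgebra k M)) ∧
      Subgroup.closure (Set.range c) = ⊤ := by
  obtain ⟨c, C, hC, hCU⟩ := exists_diag_form (ptMat k m f)
    (by rw [← ptMat_comp, pt_lift_one, MonObj.one_comp, ptMat_one])
    (fun χ₁ χ₂ => by rw [← ptMat_comp, ← ptMat_comp, ← ptMat_comp, ← ptMat_mul, ← MonObj.mul_comp, pt_lift_mul])
  refine ⟨c, C, hC, hCU, ?_⟩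
  set H := Subgroup.closure (Set.range c)
  let χ : M →* MonoidAlgebra k (M ⧸ H) := (MonoidAlgebra.of k (M ⧸ H)).comp (QuotientGroup.mk' H)
  have hDmap : ∀ ψ : M →* MonoidAlgebra k (M ⧸ H), (∀ i, ψ (c i) = 1) →
      C.map (algebraMap k (MonoidAlgebra k (M ⧸ H))) * (ptMat k m f).map (MonoidAlgebra.lift k _ M ψ) =
        C.map (algebraMap k (MonoidAlgebra k (M ⧸ H))) := by
    intro ψ hψ
    have h := congrArg (fun z => z.map (MonoidAlgebra.lift k _ M ψ)) hCU
    have hD1 : (monoDiag k c).map (MonoidAlgebra.lift k _ M ψ) = 1 := by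
      rw [monoDiag, Matrix.diagonal_map (map_zero _), ← Matrix.diagonal_one]
      congr 1
      funext i
      rw [MonoidAlgebra.lift_single, one_smul, hψ]
    simp only [Matrix.map_mul, Matrix.map_map, hD1, Matrix.one_mul] at h
    rwa [show ∀ f : MonoidAlgebra k M →ₐ[k] MonoidAlgebra k (M ⧸ H),
      ⇑f ∘ ⇑(algebraMap k (MonoidAlgebra k M)) = ⇑(algebraMap k (MonoidAlgebra k (M ⧸ H))) from
        fun f => funext f.commutes] at h
  have hCu : IsUnit (C.map (algebraMap k (MonoidAlgebra k (M ⧸ H)))) :=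
    ((Matrix.isUnit_iff_isUnit_det _).2 hC).map (algebraMap k (MonoidAlgebra k (M ⧸ H))).mapMatrix
  have hcancel := hCu.mul_left_cancel ((hDmap χ fun i =>
    (congrArg (MonoidAlgebra.of k (M ⧸ H)) ((QuotientGroup.eq_one_iff _).2
      (Subgroup.subset_closure ⟨i, rfl⟩))).trans (map_one _)).trans (hDmap 1 fun i => rfl).symm)
  have h1 : CoactBr.pt (MonoidAlgebra.lift k _ M χ) ≫ f = CoactBr.pt (MonoidAlgebra.lift k _ M 1) ≫ f :=
    ptMat_inj k m (by rw [ptMat_comp, ptMat_comp]; exact hcancel)
  have h2 := CoactBr.pt_injective ((cancel_mono f).1 h1)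
  refine eq_top_iff.2 fun x _ => (QuotientGroup.eq_one_iff x).1 ?_
  have h3 := AlgHom.congr_fun h2 (MonoidAlgebra.single x 1)
  rw [MonoidAlgebra.lift_single, MonoidAlgebra.lift_single, one_smul, one_smul] at h3
  exact MonoidAlgebra.of_injective (h3.trans (map_one _).symm)

variable (K : Type u) [Field K] [Algebra k K] (M)

/-- The inclusion of group algebras. -/
noncomputable def inclM : MonoidAlgebra k M →ₐ[k] MonoidAlgebra K M :=
  MonoidAlgebra.lift k (MonoidAlgebra K M) M (MonoidAlgebra.of K M)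

@[simp] theorem inclM_single (x : M) (r : k) :
    inclM k M K (MonoidAlgebra.single x r) = MonoidAlgebra.single x (algebraMap k K r) := by
  simp [inclM, Algebra.smul_def]

/-- The comparison of diagonalisable groups under extension of the field. -/
noncomputable def rhoM : CoactBr.sp K (MonoidAlgebra K M) ⟶
    Red.bc (Spec.map (CommRingCat.ofHom (algebraMap k K))) (CoactBr.sp k (MonoidAlgebra k M)) :=
  H21Diag.bcEquiv _ _ _ ((Jiso k (K := K)).inv ≫ CoactBr.pt (inclM k M K))

theorem isIso_rhoM : IsIso (rhoM k M K) := by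
  have hincl : (inclM k M K).toRingHom = MonoidAlgebra.mapRingHom M (algebraMap k K) := by
    refine MonoidAlgebra.ringHom_ext (fun r => ?_) (fun χ => ?_) <;> simp
  have hsq := exists_isPullback K (inclM k M K).toRingHom hincl
  have hl : (rhoM k M K).left = hsq.isoPullback.hom := by
    apply pullback.hom_ext
    · refine Eq.trans ?_ hsq.isoPullback_hom_fst.symm
      refine (H21Diag.bcEquiv_left_fst _ _ _ _).trans ?_
      exact Category.id_comp _
    · exact (Over.w (rhoM k M K)).trans hsq.isoPullback_hom_snd.symm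
  haveI : IsIso (rhoM k M K).left := hl ▸ hsq.isoPullback.isIso_hom
  exact H21Diag.isIso_of_left _

theorem mat_rhoM (f : CoactBr.sp k (MonoidAlgebra k M) ⟶ CoactBr.sp k (CoordGrp.GLn m k)) :
    mat k m (rhoM k M K ≫ (Over.pullback (Spec.map (CommRingCat.ofHom (algebraMap k K)))).map f) =
      (ptMat k m f).map (inclM k M K) :=
  mat_map k m K (inclM k M K) f

end Subgroups

end Groth.Agent.H19Chev.MuGLn
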