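import Groth.Agent.H19Chev.SmoothQuotient
import Groth.Agent.H19Quot.AffineQuot

/-!
# A connected group is the product of its affine part and its anti-affine part
-/

set_option autoImplicit false
set_option linter.style.haveILetI false
set_option backward.isDefEq.respectTransparency false
set_option maxHeartbeats 1000000
set_option synthInstance.maxHeartbeats 400000
universe u

open CategoryTheory CategoryTheory.Limits MonoidalCategory CartesianMonoidalCategory MonObj AlgebraicGeometry
open Groth.Agent Groth.Agent.H25AbCube Groth.Agent.H19Quot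

noncomputable section

namespace Groth.Agent.H19Chev

attribute [local instance] Functor.grpObjObj

variable {k : Type u} [Field k]

/-- If a subobject maps onto the quotient, it and the kernel multiply onto the group. -/
theorem surjective_mul_left {S : Scheme.{u}} {G A N M : Over S} [GrpObj G] [GrpObj A] [GrpObj N]
    (i : N ⟶ G) (q : G ⟶ A) [IsMonHom q] (hk : AlgGrp.IsKernel i q) (j : M ⟶ G) [Surjective (j ≫ q).left] :
    Surjective ((j ⊗ₘ i) ≫ μ[G]).left := by
  let P : Over S := Over.mk (pullback.fst q.left (j ≫ q).left ≫ G.hom)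
  let a : P ⟶ G := Over.homMk (pullback.fst q.left (j ≫ q).left) rfl
  let b : P ⟶ M := Over.homMk (pullback.snd q.left (j ≫ q).left) (by
    show _ = pullback.fst q.left (j ≫ q).left ≫ G.hom
    rw [← Over.w q, ← Over.w (j ≫ q), pullback.condition_assoc])
  have hab : a ≫ q = b ≫ j ≫ q := Over.OverMorphism.ext pullback.condition
  obtain ⟨x, hx⟩ := H19Grp.kernel_lift hk ((b ≫ j)⁻¹ * a) (by
    rw [MonObj.mul_comp, GrpObj.inv_comp, Category.assoc, hab, inv_mul_cancel])
  have ha : lift b x ≫ (j ⊗ₘ i) ≫ μ[G] = a := by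
    rw [← Category.assoc, lift_map, ← Hom.mul_def, hx, mul_inv_cancel_left]
  haveI : Surjective a.left := inferInstanceAs (Surjective (pullback.fst q.left (j ≫ q).left))
  haveI : Surjective ((lift b x).left ≫ ((j ⊗ₘ i) ≫ μ[G]).left) := by
    rw [← Over.comp_left, ha]; infer_instance
  exact Surjective.of_comp (lift b x).left _

/-- If a subobject maps onto the quotient, the kernel and it multiply onto the group. -/
theorem surjective_mul_right {S : Scheme.{u}} {G A N M : Over S} [GrpObj G] [GrpObj A] [GrpObj N]
    (i : N ⟶ G) (q : G ⟶ A) [IsMonHom q] (hk : AlgGrp.IsKernel i q) (j : M ⟶ G) [Surjective (j ≫ q).left] :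
    Surjective ((i ⊗ₘ j) ≫ μ[G]).left := by
  let P : Over S := Over.mk (pullback.fst q.left (j ≫ q).left ≫ G.hom)
  let a : P ⟶ G := Over.homMk (pullback.fst q.left (j ≫ q).left) rfl
  let b : P ⟶ M := Over.homMk (pullback.snd q.left (j ≫ q).left) (by
    show _ = pullback.fst q.left (j ≫ q).left ≫ G.hom
    rw [← Over.w q, ← Over.w (j ≫ q), pullback.condition_assoc])
  have hab : a ≫ q = b ≫ j ≫ q := Over.OverMorphism.ext pullback.condition
  obtain ⟨x, hx⟩ := H19Grp.kernel_lift hk (a * (b ≫ j)⁻¹) (by
    rw [MonObj.mul_comp, GrpObj.inv_comp, Category.assoc, hab, mul_inv_cancel])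
  have ha : lift x b ≫ (i ⊗ₘ j) ≫ μ[G] = a := by
    rw [← Category.assoc, lift_map, ← Hom.mul_def, hx, inv_mul_cancel_right]
  haveI : Surjective a.left := inferInstanceAs (Surjective (pullback.fst q.left (j ≫ q).left))
  haveI : Surjective ((lift x b).left ≫ ((i ⊗ₘ j) ≫ μ[G]).left) := by
    rw [← Over.comp_left, ha]; infer_instance
  exact Surjective.of_comp (lift x b).left _

/-- The anti-affine part of a smooth connected group maps onto every abelian quotient. -/
theorem surjective_incl_comp {G A : Over (Spec (CommRingCat.of k))} [GrpObj G] [GrpObj A] [Smooth G.hom]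
    [QuasiCompact G.hom] [ConnectedSpace G.left] [IsProper A.hom] (q : G ⟶ A) [IsMonHom q] [Flat q.left]
    [Surjective q.left] : Surjective (H19Grp.AffinizationKernel.incl G ≫ q).left := by
  haveI : IsSeparated G.hom := H19Grp.AffineQuotient.isSeparated_of_grp G
  obtain ⟨hAs, hAc⟩ := smooth_connected_quotient q
  haveI := hAs; haveI := hAc
  let m₀ := H19Grp.AffinizationKernel.incl G
  obtain ⟨gM, hm⟩ := H19Grp.AffinizationKernel.exists_grpObj G
  haveI := hm
  haveI : LocallyOfFiniteType (H19Grp.AffinizationKernel.N G).hom := by rw [← Over.w m₀]; infer_instance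
  haveI : QuasiCompact (H19Grp.AffinizationKernel.N G).hom := by rw [← Over.w m₀]; infer_instance
  obtain ⟨C, gC, p, iC, hp, hiC, hpi, hpf, hps, hpp, hiCc⟩ :=
    AbelianCat.exists_image (m₀ ≫ q) ⟨inferInstance, inferInstance⟩ ⟨inferInstance, inferInstance⟩
  haveI := hp; haveI := hiC; haveI := hpf; haveI := hps; haveI := hpp; haveI := hiCc
  haveI : IsCommMonObj A := by
    haveI := geometricallyIntegral_av A
    exact isCommMonObj_of_av
  have hNC : AlgGrp.IsNormalHom iC := fun T b x => ⟨x, by rw [mul_comm b, mul_inv_cancel_right]⟩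
  obtain ⟨R, gR, π, hπ, hRlft, hRqc, hπf, hπs, hπp, hkπ⟩ := H19Quot.exists_quotientGroup iC hNC
  haveI := hπ; haveI := hRlft; haveI := hRqc; haveI := hπf; haveI := hπs; haveI := hπp
  haveI : IsAffine R.left := by
    haveI : Flat (q ≫ π).left := by rw [Over.comp_left]; infer_instance
    haveI : Surjective (q ≫ π).left := by rw [Over.comp_left]; infer_instance
    refine H19Quot.isAffine_of_kill_incl (q ≫ π) ?_
    rw [← Category.assoc, ← hpi, Category.assoc, H19Grp.kernel_comp_eq_one hkπ, MonObj.comp_one]
  obtain ⟨hRs, hRc⟩ := smooth_connected_quotient π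
  haveI := hRs; haveI := hRc
  haveI : IsProper R.hom := by
    haveI : IsSeparated R.hom := H19Grp.AffineQuotient.isSeparated_of_grp R
    haveI : UniversallyClosed (π.left ≫ R.hom) := by rw [Over.w π]; infer_instance
    haveI : UniversallyClosed R.hom := UniversallyClosed.of_comp_surjective π.left R.hom
    exact {}
  have hπ1 : π = 1 := by
    rw [← Category.comp_id π, eq_one_of_affine_to_proper_field (𝟙 R), MonObj.comp_one]
  obtain ⟨g, hg⟩ := H19Grp.kernel_lift hkπ (𝟙 A) (by rw [Category.id_comp, hπ1])
  haveI : IsSplitEpi iC := ⟨⟨g, hg⟩⟩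
  haveI := H19Grp.kernel_mono hkπ
  haveI : IsIso iC := isIso_of_mono_of_isSplitEpi iC
  haveI : IsIso iC.left := inferInstanceAs (IsIso ((Over.forget _).map iC))
  rw [← hpi, Over.comp_left]
  haveI : Surjective p.left := hps
  infer_instance

end Groth.Agent.H19Chev
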