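import Groth.Agent.H23FunFld.Approx
import Groth.Agent.H23FunFld.Places
import Groth.Agent.H23FunFld.Degree
import Groth.Agent.H23Geom.Separating
import Groth.Agent.H23Geom.Criteria
import Mathlib.FieldTheory.IsAlgClosed.Basic
import Mathlib.FieldTheory.Perfect
import Mathlib.RingTheory.Valuation.LocalSubring

/-!
# Unramified rational places of function fields
-/

set_option autoImplicit false
set_option linter.style.haveILetI false

universe u

namespace Groth.Agent.H19Chev

open WithZero H23FunFld IntermediateField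

variable {k F L : Type u} [Field k] [Field F] [Field L] [Algebra k F] [Algebra k L]

theorem val_const (P : FunFld.Place k F) {c : k} (hc : c ≠ 0) : P.1 (algebraMap k F c) = 1 := by
  refine le_antisymm (P.2.1 c) ?_
  have h := P.2.1 c⁻¹
  rw [map_inv₀, map_inv₀] at h
  exact (inv_le_one₀ (zero_lt_iff.2 (val_ne_zero P (by simpa using hc)))).1 h

theorem transcendental_of_val (hF : FunFld.IsFunctionField k F) (P : FunFld.Place k F) {t : F}
    (ht : P.1 t = exp (-1 : ℤ)) : Transcendental k t := fun h => by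
  obtain ⟨c, rfl⟩ := hF.2 t h
  rcases eq_or_ne c 0 with rfl | hc
  · rw [map_zero, map_zero] at ht
    exact exp_ne_zero ht.symm
  · rw [val_const P hc, ← exp_zero, exp_inj] at ht
    exact absurd ht (by decide)

/-- A uniformizer at a given place which is a unit at finitely many others. -/
theorem exists_uniformizer (P : FunFld.Place k F) (S : Finset (FunFld.Place k F)) :
    ∃ t : F, P.1 t = exp (-1 : ℤ) ∧ ∀ Q ∈ S, Q ≠ P → Q.1 t = 1 := by
  classical
  obtain ⟨w, -, hw⟩ := exists_val_eq P (-1)
  obtain ⟨t, ht⟩ := approximation (insert P S) (fun Q => if Q = P then w else 1)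
    (fun Q => if Q = P then -2 else -1)
  refine ⟨t, ?_, fun Q hQ hne => ?_⟩
  · have h := ht P (Finset.mem_insert_self _ _)
    rw [if_pos rfl, if_pos rfl] at h
    have hlt : P.1 (t - w) < P.1 w := by rw [hw]; exact h.trans_lt (exp_lt_exp.2 (by decide))
    have := P.1.map_add_eq_of_lt_left hlt
    rwa [add_sub_cancel, hw] at this
  · have h := ht Q (Finset.mem_insert_of_mem hQ)
    rw [if_neg hne, if_neg hne] at h
    have hlt : Q.1 (t - 1) < Q.1 1 := by
      rw [map_one]; exact h.trans_lt (by rw [← exp_zero]; exact exp_lt_exp.2 (by decide))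
    have := Q.1.map_add_eq_of_lt_left hlt
    rwa [add_sub_cancel, map_one] at this

/-- Over an algebraically closed field every place is rational. -/
theorem exists_const [IsAlgClosed k] (hF : FunFld.IsFunctionField k F) (P : FunFld.Place k F) {x : F}
    (hx : P.1 x ≤ 1) : ∃ c : k, P.1 (x - algebraMap k F c) < 1 := by
  let R := IsLocalRing.ResidueField P.O
  letI a : Algebra k R := FunFld.Place.algRes P
  have h3 : @Module.Finite k R _ _ a.toModule := finiteDimensional_residueField hF P
  haveI : Algebra.IsIntegral k R := @Algebra.IsIntegral.of_finite k R _ _ a h3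
  obtain ⟨c, hc⟩ := (IsAlgClosed.algebraMap_bijective_of_isIntegral (k := k)
    (K := R)).2 (IsLocalRing.residue P.O ⟨x, hx⟩)
  refine ⟨c, ?_⟩
  have h : (⟨x, hx⟩ : P.O) - algebraMap k P.O c ∈ IsLocalRing.maximalIdeal P.O := by
    rw [← IsLocalRing.residue_eq_zero_iff, map_sub, sub_eq_zero]
    exact hc.symm
  have h2 := (ValuationSubring.valuation_lt_one_iff P.O _).1 h
  exact ((Valuation.isEquiv_valuation_valuationSubring P.1).lt_one_iff_lt_one).2 h2

/-- A rational unramified place has a unique extension of embeddings. -/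
theorem algHom_eq_of_place [IsAlgClosed k] (hF : FunFld.IsFunctionField k F) (P : FunFld.Place k F)
    {t : F} (ht : P.1 t = exp (-1 : ℤ)) (τ₁ τ₂ : F →ₐ[k] L) (hτ : τ₁ t = τ₂ t) (Q : FunFld.Place k L)
    (h₁ : ∀ x, P.1 x ≤ 1 → Q.1 (τ₁ x) ≤ 1) (h₂ : ∀ x, P.1 x ≤ 1 → Q.1 (τ₂ x) ≤ 1)
    (htQ : Q.1 (τ₁ t) < 1) : τ₁ = τ₂ := by
  have ht0 : t ≠ 0 := by rintro rfl; rw [map_zero] at ht; exact exp_ne_zero ht.symm
  have hpow : ∀ (n : ℕ) (x : F), P.1 x ≤ 1 → Q.1 (τ₁ x - τ₂ x) ≤ Q.1 (τ₁ t) ^ n := by
    intro n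
    induction n with
    | zero =>
      intro x hx
      rw [pow_zero]
      exact (Q.1.map_sub _ _).trans (max_le (h₁ x hx) (h₂ x hx))
    | succ n ih =>
      intro x hx
      obtain ⟨c, hc⟩ := exists_const hF P hx
      have hx' : P.1 ((x - algebraMap k F c) / t) ≤ 1 := by
        rw [map_div₀, ht, div_le_one₀ (zero_lt_iff.2 exp_ne_zero)]
        rcases eq_or_ne (P.1 (x - algebraMap k F c)) 0 with h | h
        · rw [h]; exact zero_le
        · have hl : log (P.1 (x - algebraMap k F c)) < 0 := by
            rw [← exp_log h] at hc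
            exact exp_lt_exp.1 (hc.trans_eq exp_zero.symm)
          rw [← exp_log h, exp_le_exp]
          omega
      have he : x = algebraMap k F c + t * ((x - algebraMap k F c) / t) := by
        rw [mul_div_cancel₀ _ ht0, add_sub_cancel]
      calc Q.1 (τ₁ x - τ₂ x) = Q.1 (τ₁ t * (τ₁ ((x - algebraMap k F c) / t) - τ₂ ((x - algebraMap k F c) / t))) := by
            conv_lhs => rw [he]
            rw [map_add, map_add, map_mul, map_mul, AlgHom.commutes, AlgHom.commutes, ← hτ, mul_sub]
            ring_nf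
        _ ≤ Q.1 (τ₁ t) * Q.1 (τ₁ t) ^ n := by rw [map_mul]; exact mul_le_mul' le_rfl (ih _ hx')
        _ = Q.1 (τ₁ t) ^ (n + 1) := (pow_succ' _ _).symm
  have hint : ∀ x, P.1 x ≤ 1 → τ₁ x = τ₂ x := by
    intro x hx
    by_contra h
    have hne : Q.1 (τ₁ x - τ₂ x) ≠ 0 := val_ne_zero Q (sub_ne_zero.2 h)
    obtain ⟨n, hn⟩ := exists_pow_mul_lt_one (b := (Q.1 (τ₁ x - τ₂ x))⁻¹) htQ
    have h' := (mul_le_mul' (hpow n x hx) (le_refl (Q.1 (τ₁ x - τ₂ x))⁻¹)).trans_lt (hn n le_rfl)
    rw [mul_inv_cancel₀ hne] at h'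
    exact lt_irrefl _ h'
  ext x
  rcases le_total (P.1 x) 1 with hx | hx
  · exact hint x hx
  · have := hint x⁻¹ (by rw [map_inv₀]; exact inv_le_one_of_one_le₀ hx)
    rw [map_inv₀, map_inv₀] at this
    exact inv_injective this

/-- A uniformizer over a perfect field is separating. -/
theorem isSeparable_of_uniformizer [IsAlgClosed k] (hF : FunFld.IsFunctionField k F) (P : FunFld.Place k F)
    {t : F} (ht : P.1 t = exp (-1 : ℤ)) : Algebra.IsSeparable (adjoin k ({t} : Set F)) F := by
  have hg := H23Geom.isGeometric_of_perfectField hF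
  haveI := finiteDimensional_adjoin hF (transcendental_of_val hF P ht)
  rcases CharP.exists' k with h0 | ⟨p, hp, hpk⟩
  · haveI : CharZero (adjoin k ({t} : Set F)) := charZero_of_injective_algebraMap (algebraMap k _).injective
    infer_instance
  · haveI : CharP F p := charP_of_injective_algebraMap (algebraMap k F).injective p
    obtain ⟨x, -, hsep⟩ := H23Geom.exists_separating hF hg
    refine H23Geom.isSeparable_of_D_ne_zero hF hg fun hD => ?_
    have hM := H23Geom.mem_M_of_D_eq_zero p hF x hD
    haveI : ExpChar F p := ExpChar.prime hp.out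
    haveI : ExpChar k p := ExpChar.prime hp.out
    let R : IntermediateField k F :=
      { (frobenius F p).fieldRange with
        algebraMap_mem' := fun c => ⟨algebraMap k F ((frobeniusEquiv k p).symm c), by
          rw [frobenius_def, ← map_pow]
          exact congrArg (algebraMap k F) (frobeniusEquiv_symm_pow_p k p c)⟩ }
    have hR : t ∈ R := (adjoin_le_iff.2 (show Set.range (fun y : F => y ^ p) ⊆ R from by
      rintro _ ⟨y, rfl⟩
      exact ⟨y, frobenius_def p y⟩)) hM
    obtain ⟨y, hy⟩ := hR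
    rw [frobenius_def] at hy
    rw [← hy, map_pow] at ht
    have hy0 : P.1 y ≠ 0 := fun h => by rw [h, zero_pow hp.out.ne_zero] at ht; exact exp_ne_zero ht.symm
    rw [← exp_log hy0, ← exp_nsmul, exp_inj, nsmul_eq_mul] at ht
    have h1 : (p : ℤ) ∣ 1 := ⟨-log (P.1 y), by linarith⟩
    exact hp.out.one_lt.ne' (by exact_mod_cast Int.eq_one_of_dvd_one (by positivity) h1)

end Groth.Agent.H19Chev
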