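import Groth.Agent.H19Chev.FieldBasic

/-!
# Affine normal subgroups with proper quotient in groups of finite type over a field
-/

set_option autoImplicit false
set_option linter.style.haveILetI false
set_option backward.isDefEq.respectTransparency false
set_option maxHeartbeats 1000000
set_option synthInstance.maxHeartbeats 400000
universe u

open CategoryTheory CategoryTheory.Limits MonoidalCategory CartesianMonoidalCategory MonObj AlgebraicGeometry
open Groth.Agent Groth.Agent.H25AbCube Groth.Agent.H19Quot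

noncomputable section

namespace Groth.Agent.H19Chev

attribute [local instance] Functor.grpObjObj

variable {k : Type u} [Field k]

local notation "Pts" X => 𝟙_ (Over (Spec (CommRingCat.of k))) ⟶ X

/-- A factorisation of a homomorphism through a monomorphism of groups is a homomorphism. -/
theorem isMonHom_of_mono {A B C : Over (Spec (CommRingCat.of k))} [GrpObj A] [GrpObj B] [GrpObj C] (f : A ⟶ B)
    (g : B ⟶ C) [IsMonHom g] [Mono g] [IsMonHom (f ≫ g)] : IsMonHom f := by
  refine ⟨?_, ?_⟩
  · rw [← cancel_mono g, Category.assoc, IsMonHom.one_hom g, IsMonHom.one_hom (f ≫ g)]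
  · rw [← cancel_mono g, Category.assoc, IsMonHom.mul_hom (f ≫ g), Category.assoc, IsMonHom.mul_hom g,
      ← Category.assoc (_ ⊗ₘ _), tensorHom_comp_tensorHom]

/-- A separated group covered by finitely many translates of the image of a proper scheme is proper. -/
theorem isProper_of_translates [IsAlgClosed k] {G L : Over (Spec (CommRingCat.of k))} [GrpObj G]
    [LocallyOfFiniteType G.hom] [QuasiCompact G.hom] [IsProper L.hom] (j : L ⟶ G) (s : Finset (Pts G))
    (hs : ∀ x : Pts G, ∃ g ∈ s, ∃ a : Pts L, a ≫ j = x * g⁻¹) : IsProper G.hom := by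
  haveI : IsSeparated G.hom := H19Grp.AffineQuotient.isSeparated_of_grp G
  haveI : JacobsonSpace G.left := LocallyOfFiniteType.jacobsonSpace G.hom
  let f : (g : s) → L.left ⟶ G.left := fun g => (j * (toUnit L ≫ (g.1 : Pts G))).left
  haveI : Surjective (Sigma.desc f) := by
    refine ⟨fun y => ?_⟩
    have hc : IsClosed (Set.range (Sigma.desc f)) := by
      have hr : Set.range (Sigma.desc f) = ⋃ g : s, Set.range (f g) := by
        ext z
        constructor
        · rintro ⟨w, rfl⟩
          obtain ⟨g, w', rfl⟩ := (sigmaOpenCover (fun _ : s => L.left)).exists_eq w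
          refine Set.mem_iUnion.2 ⟨g, w', ?_⟩
          rw [← Scheme.Hom.comp_apply]
          exact congrArg (fun φ : L.left ⟶ G.left => φ w') (Sigma.ι_desc f g).symm
        · intro hz
          obtain ⟨g, w, rfl⟩ := Set.mem_iUnion.1 hz
          exact ⟨Sigma.ι (fun _ : s => L.left) g w, by rw [← Scheme.Hom.comp_apply, Sigma.ι_desc]⟩
      rw [hr]
      refine isClosed_iUnion_of_finite fun g => ?_
      haveI : IsProper (f g ≫ G.hom) := by
        rw [Over.w (j * (toUnit L ≫ (g.1 : Pts G)))]; infer_instance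
      haveI : IsProper (f g) := IsProper.of_comp (f g) G.hom
      exact (f g).isClosedMap.isClosed_range
    have hsub : closedPoints G.left ⊆ Set.range (Sigma.desc f) := fun z hz => by
      obtain ⟨x, rfl⟩ := Stab.exists_pnt hz
      obtain ⟨g, hg, a, ha⟩ := hs x
      refine ⟨Sigma.ι (fun _ : s => L.left) ⟨g, hg⟩ (Stab.pnt a), ?_⟩
      rw [← Scheme.Hom.comp_apply, Sigma.ι_desc]
      show (j * (toUnit L ≫ (g : Pts G))).left (a.left _) = _
      rw [← Scheme.Hom.comp_apply, ← Over.comp_left, MonObj.comp_mul, ha, pts_comp_toUnit, inv_mul_cancel_right]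
    have := closure_minimal hsub hc
    rw [closure_closedPoints] at this
    exact this trivial
  haveI : UniversallyClosed (Sigma.desc f ≫ G.hom) := by
    rw [show Sigma.desc f ≫ G.hom = Sigma.desc (fun _ : s => L.hom) from Sigma.hom_ext _ _ fun g => by
      rw [Sigma.ι_desc_assoc, Sigma.ι_desc, Over.w (j * (toUnit L ≫ (g.1 : Pts G)))]]
    exact universallyClosed_sigmaDesc _
  haveI : UniversallyClosed G.hom := UniversallyClosed.of_comp_surjective (Sigma.desc f) G.hom
  exact {}

/-- High enough power endomorphisms kill the nilradical. -/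
theorem exists_nilradical_le (X : Over (Spec (CommRingCat.of k))) [LocallyOfFiniteType X.hom] [QuasiCompact X.hom] :
    ∃ N : ℕ, ∀ m ≥ N, ∀ P : FrobDescent.PowEnd k m, X.left.nilradical ≤ (P.Φ X).ker := by
  classical
  haveI : IsNoetherianRing (CommRingCat.of k) := inferInstanceAs (IsNoetherianRing k)
  haveI : IsLocallyNoetherian X.left := LocallyOfFiniteType.isLocallyNoetherian X.hom
  haveI : CompactSpace X.left := QuasiCompact.compactSpace_of_compactSpace X.hom
  obtain ⟨t, ht⟩ := isCompact_univ.elim_finite_subcover (fun U : X.left.affineOpens => (U.1 : Set X.left))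
    (fun U => U.1.2) (fun z _ => by
      obtain ⟨_, ⟨U, hU, rfl⟩, hz, -⟩ := X.left.isBasis_affineOpens.exists_subset_of_mem_open
        (Set.mem_univ z) isOpen_univ
      exact Set.mem_iUnion.2 ⟨⟨U, hU⟩, hz⟩)
  have hN : ∀ U : X.left.affineOpens, ∃ N : ℕ, ∀ f : Γ(X.left, U.1), IsNilpotent f → f ^ N = 0 := fun U => by
    haveI := IsLocallyNoetherian.component_noetherian (X := X.left) U
    obtain ⟨N, hN⟩ := IsNoetherianRing.isNilpotent_nilradical Γ(X.left, U.1)
    refine ⟨N, fun f hf => ?_⟩
    have := Ideal.pow_mem_pow (mem_nilradical.2 hf) N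
    rwa [hN] at this
  choose N hN using hN
  refine ⟨t.sup N, fun m hm P => ?_⟩
  haveI := P.affine X
  refine Scheme.IdealSheafData.le_of_iSup_eq_top (fun U : t => U.1) ?_ ?_
  · refine eq_top_iff.2 fun z _ => ?_
    obtain ⟨U, hU, hzU⟩ := Set.mem_iUnion₂.1 (ht (Set.mem_univ z))
    exact TopologicalSpace.Opens.mem_iSup.2 ⟨⟨U, hU⟩, hzU⟩
  · intro U f hf
    rw [Scheme.Hom.ker_apply, RingHom.mem_ker]
    obtain ⟨e, he⟩ := P.app X U.1.1
    refine (he f).trans ?_
    have hnil : IsNilpotent f := by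
      rw [show X.left.nilradical.ideal U.1 = ((⊥ : X.left.IdealSheafData).ideal U.1).radical from rfl,
        Scheme.IdealSheafData.ideal_bot, Pi.bot_apply] at hf
      obtain ⟨r, hr⟩ := hf
      exact ⟨r, Ideal.mem_bot.1 hr⟩
    rw [pow_eq_zero_of_le ((Finset.le_sup U.2).trans hm) (hN U.1 f hnil), map_zero]

/-- An open closed connected subgroup contains every connected subscheme through the unit. -/
theorem range_subset_idComp {G H T : Over (Spec (CommRingCat.of k))} [GrpObj G] (j : H ⟶ G) [IsOpenImmersion j.left]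
    [IsClosedImmersion j.left] (h1 : Stab.pnt (1 : Pts G) ∈ Set.range j.left) (m : T ⟶ G) [ConnectedSpace T.left]
    (t : Pts T) (ht : t ≫ m = 1) : Set.range m.left ⊆ Set.range j.left := by
  have hclo : IsClopen (Set.range j.left) :=
    ⟨j.left.isClosedEmbedding.isClosed_range, j.left.isOpenEmbedding.isOpen_range⟩
  have hconn : _root_.IsPreconnected (Set.range m.left) :=
    Set.image_univ ▸ isPreconnected_univ.image m.left m.left.continuous.continuousOn
  exact hconn.subset_isClopen hclo ⟨Stab.pnt (1 : Pts G), ⟨Stab.pnt t, congrArg Stab.pnt ht⟩, h1⟩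

/-- A group of finite type has an affine normal subgroup with proper quotient. -/
theorem exists_affine_proper_quotient (G : Over (Spec (CommRingCat.of k))) [GrpObj G] [LocallyOfFiniteType G.hom]
    [QuasiCompact G.hom] :
    ∃ (N : Over (Spec (CommRingCat.of k))) (_ : GrpObj N) (i : N ⟶ G) (Q : Over (Spec (CommRingCat.of k)))
      (_ : GrpObj Q) (q : G ⟶ Q), IsMonHom i ∧ IsClosedImmersion i.left ∧ IsAffine N.left ∧
        AlgGrp.IsNormalHom i ∧ IsMonHom q ∧ Surjective q.left ∧ Flat q.left ∧
        LocallyOfFinitePresentation q.left ∧ AlgGrp.IsKernel i q ∧ IsProper Q.hom := by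
  classical
  let K := AlgebraicClosure k
  let F := GeomTate.bc k K
  haveI := GeomTate.flat_σ k K
  haveI := GeomTate.surjective_σ k K
  haveI : LocallyOfFiniteType (F.obj G).hom :=
    inferInstanceAs (LocallyOfFiniteType (pullback.snd G.hom (GeomTate.σ k K)))
  haveI : QuasiCompact (F.obj G).hom := inferInstanceAs (QuasiCompact (pullback.snd G.hom (GeomTate.σ k K)))
  -- the reduced group and its identity component
  obtain ⟨gR, hrr⟩ := H19Grp.GroupCI.exists_grpObj_reduced (F.obj G)
  let R : Over (Spec (CommRingCat.of K)) := Over.mk ((F.obj G).left.nilradical.subschemeι ≫ (F.obj G).hom)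
  let rr : R ⟶ F.obj G := Over.homMk (F.obj G).left.nilradical.subschemeι rfl
  haveI : IsMonHom rr := hrr
  haveI : IsClosedImmersion rr.left := inferInstanceAs (IsClosedImmersion (F.obj G).left.nilradical.subschemeι)
  haveI : IsReduced R.left := inferInstanceAs (IsReduced (F.obj G).left.nilradical.subscheme)
  haveI : Surjective rr.left := ⟨fun x => by
    have : Set.range (F.obj G).left.nilradical.subschemeι = Set.univ := by
      rw [Scheme.IdealSheafData.range_subschemeι, Scheme.support_nilradical]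
      rfl
    exact this.ge trivial⟩
  haveI : Mono rr := Over.mono_of_mono_left _
  haveI : LocallyOfFiniteType R.hom := by rw [← Over.w rr]; infer_instance
  haveI : QuasiCompact R.hom := by rw [← Over.w rr]; infer_instance
  haveI : Smooth R.hom := H19Grp.smooth_of_isReduced_perfect R
  haveI : CompactSpace R.left := QuasiCompact.compactSpace_of_compactSpace R.hom
  obtain ⟨H, gH, j, hj, hjc, hjo, hHn, hHs, hHq, h1⟩ := exists_smooth_idComp R
  haveI := hj; haveI := hjc; haveI := hjo; haveI := hHn; haveI := hHs; haveI := hHq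
  haveI : Mono j := Over.mono_of_mono_left _
  obtain ⟨L, gL, l, Q', gQ', q', hl, hlc, hLa, hLs, hLn, hnorm, hq', hq's, hq'f, hq'p, hk', hQ'p, hQ's, hQ'n⟩ :=
    exists_chevalley H
  haveI := hl; haveI := hlc; haveI := hLa; haveI := hLs; haveI := hLn
  haveI := hq'; haveI := hq's; haveI := hq'f; haveI := hq'p; haveI := hQ'p
  let lR : L ⟶ R := l ≫ j
  haveI : IsClosedImmersion lR.left := by rw [Over.comp_left]; infer_instance
  haveI : Mono lR := Over.mono_of_mono_left _
  let lG : L ⟶ F.obj G := lR ≫ rr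
  haveI : IsClosedImmersion lG.left := by rw [Over.comp_left]; infer_instance
  -- affine smooth connected subgroups land in it
  have hallR : ∀ (L' : Over (Spec (CommRingCat.of K))) [GrpObj L'] [IsAffine L'.left] [Smooth L'.hom]
      [ConnectedSpace L'.left] (m : L' ⟶ R) [IsMonHom m], ∃ g : L' ⟶ L, g ≫ lR = m := by
    intro L' _ _ _ _ m _
    have hsub := range_subset_idComp j h1 m (1 : 𝟙_ _ ⟶ L') (MonObj.one_comp m)
    have hlo : IsOpenImmersion.lift j.left m.left hsub ≫ j.left = m.left := IsOpenImmersion.lift_fac _ _ _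
    let m' : L' ⟶ H := Over.homMk (IsOpenImmersion.lift j.left m.left hsub) (by
      rw [← Over.w j, ← Category.assoc, hlo, Over.w m])
    have hm' : m' ≫ j = m := Over.OverMorphism.ext hlo
    haveI : IsMonHom (m' ≫ j) := hm' ▸ inferInstance
    haveI : IsMonHom m' := isMonHom_of_mono m' j
    obtain ⟨g, hg⟩ := H19Grp.kernel_lift hk' m' (eq_one_of_affine_to_proper (m' ≫ q'))
    exact ⟨g, by rw [← hm', ← hg, Category.assoc]⟩
  have hredlift : ∀ {T : Over (Spec (CommRingCat.of K))} [IsReduced T.left] (m : T ⟶ F.obj G),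
      ∃ y : T ⟶ R, y ≫ rr = m := fun {T} _ m => by
    obtain ⟨y, hy⟩ := H17.exists_lift_of_range_subset m.left rr.left (fun z _ => rr.left.surjective z)
    exact ⟨Over.homMk y (by rw [← Over.w m, ← hy, Category.assoc, Over.w rr]), Over.OverMorphism.ext hy⟩
  have hst : ∀ s : K ≃ₐ[k] K, (lG.left ≫ Twist.τ s G).ker ≤ lG.left.ker := fun s => by
    obtain ⟨f, hf⟩ := Twist.exists_twist_of_forall s lG fun L' _ _ _ _ m _ => by
      haveI : IsReduced L'.left := isReduced_smooth
      obtain ⟨m₁, hm₁⟩ := hredlift m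
      haveI : IsMonHom (m₁ ≫ rr) := hm₁ ▸ inferInstance
      haveI : IsMonHom m₁ := isMonHom_of_mono m₁ rr
      obtain ⟨g, hg⟩ := hallR L' m₁
      exact ⟨g, by rw [← Category.assoc, hg, hm₁]⟩
    refine (Scheme.Hom.le_ker_comp f _).trans (le_of_eq ?_)
    rw [hf]
  -- it is normal in the reduced group
  have hnR : AlgGrp.IsNormalHom lR := by
    haveI : Smooth (R ⊗ L).hom := by show Smooth (pullback.fst R.hom L.hom ≫ R.hom); infer_instance
    haveI : IsReduced (R ⊗ L).left := isReduced_smooth
    haveI : JacobsonSpace (R ⊗ L).left := LocallyOfFiniteType.jacobsonSpace (R ⊗ L).hom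
    let c : R ⊗ L ⟶ R := fst R L * (snd R L ≫ lR) * (fst R L)⁻¹
    have hsub : Set.range c.left ⊆ Set.range lR.left := by
      have hcl : IsClosed (c.left ⁻¹' Set.range lR.left) :=
        lR.left.isClosedEmbedding.isClosed_range.preimage c.left.continuous
      have hpts : closedPoints (R ⊗ L).left ⊆ c.left ⁻¹' Set.range lR.left := fun z hz => by
        obtain ⟨w, rfl⟩ := Stab.exists_pnt hz
        let g : 𝟙_ _ ⟶ R := w ≫ fst R L
        let m : L ⟶ R := (toUnit L ≫ g) * lR * (toUnit L ≫ g)⁻¹
        have hg : ∀ {T : Over (Spec (CommRingCat.of K))} (y : T ⟶ L),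
            y ≫ m = (toUnit T ≫ g) * (y ≫ lR) * (toUnit T ≫ g)⁻¹ := fun y => by
          rw [MonObj.comp_mul, MonObj.comp_mul, GrpObj.comp_inv, ← Category.assoc, comp_toUnit]
        haveI : IsMonHom m := by
          refine ⟨?_, ?_⟩
          · have e : ∀ (X : Over (Spec (CommRingCat.of K))) [GrpObj X], η[X] = (1 : 𝟙_ _ ⟶ X) := fun X _ => by
              rw [Hom.one_def, toUnit_unique (toUnit _) (𝟙 _), Category.id_comp]
            rw [e L, hg, MonObj.one_comp, _root_.mul_one, mul_inv_cancel, e R]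
          · have hμ : μ[L] = fst L L * snd L L := by rw [Hom.mul_def, lift_fst_snd, Category.id_comp]
            have hμR : (m ⊗ₘ m) ≫ μ[R] = (fst L L ≫ m) * (snd L L ≫ m) := by
              rw [Hom.mul_def, lift_fst_comp_snd_comp]
            rw [hμR, hg, hg, hμ, hg, MonObj.mul_comp]
            simp only [_root_.mul_assoc, inv_mul_cancel_left]
        obtain ⟨y, hy⟩ := hallR L m
        refine ⟨Stab.pnt (w ≫ snd R L ≫ y), ?_⟩
        have hwc : (w ≫ snd R L ≫ y) ≫ lR = w ≫ c := by
          rw [Category.assoc, Category.assoc, hy, ← Category.assoc, hg, MonObj.comp_mul, MonObj.comp_mul,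
            GrpObj.comp_inv, toUnit_unique (toUnit (𝟙_ _)) (𝟙 _), Category.id_comp, ← Category.assoc w (snd R L)]
        show lR.left ((w ≫ snd R L ≫ y).left _) = c.left (w.left _)
        rw [← Scheme.Hom.comp_apply, ← Scheme.Hom.comp_apply, ← Over.comp_left, ← Over.comp_left, hwc]
      rintro _ ⟨z, rfl⟩
      have := closure_minimal hpts hcl
      rw [closure_closedPoints] at this
      exact this trivial
    obtain ⟨y, hy⟩ := H17.exists_lift_of_range_subset c.left lR.left hsub
    let y' : R ⊗ L ⟶ L := Over.homMk y (by rw [← Over.w lR, ← Category.assoc, hy, Over.w c])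
    have hy' : y' ≫ lR = c := Over.OverMorphism.ext hy
    intro T g x
    refine ⟨lift g x ≫ y', ?_⟩
    rw [Category.assoc, hy', MonObj.comp_mul, MonObj.comp_mul, GrpObj.comp_inv, lift_fst, lift_snd_assoc]
  obtain ⟨q₀, hq₀⟩ : ∃ q₀ : ℕ, ExpChar k q₀ := ExpChar.exists k
  haveI : ExpChar K q₀ := expChar_of_injective_ringHom (algebraMap k K).injective q₀
  obtain ⟨n₁, hn₁⟩ : ∃ n₁ : ℕ, ∀ n ≥ n₁, ∀ P : FrobDescent.PowEnd K (q₀ ^ n),
      rr.left.ker ≤ (P.Φ (F.obj G)).ker := by
    have hker : rr.left.ker = (F.obj G).left.nilradical := Scheme.IdealSheafData.ker_subschemeι _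
    obtain ⟨N, hN⟩ := exists_nilradical_le (F.obj G)
    cases ‹ExpChar K q₀› with
    | zero =>
      haveI : Smooth (F.obj G).hom := H19Grp.smooth_of_charZero (F.obj G)
      haveI : IsReduced (F.obj G).left := isReduced_smooth
      exact ⟨0, fun n _ P => by rw [hker, Scheme.nilradical_eq_bot]; exact bot_le⟩
    | prime hp =>
      exact ⟨N, fun n hn P => hker.le.trans (hN _ (hn.trans (Nat.lt_pow_self hp.one_lt).le) P)⟩
  have hconj : ∀ n ≥ n₁, ∀ (P : FrobDescent.PowEnd K (q₀ ^ n)) (T : Over (Spec (CommRingCat.of K)))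
      (g x : T ⟶ F.obj G), FrobDescent.Mem P lG x → FrobDescent.Mem P lG (g * x * g⁻¹) := by
    rintro n hn P T g x ⟨z, hz⟩
    let φ : Over.mk (P.Φ T ≫ T.hom) ⟶ T := Over.homMk (P.Φ T) rfl
    have hle : rr.left.ker ≤ (φ ≫ g).left.ker := by
      rw [Over.comp_left, show φ.left = P.Φ T from rfl, P.nat g]
      exact (hn₁ n hn P).trans (Scheme.Hom.le_ker_comp _ _)
    let g' : Over.mk (P.Φ T ≫ T.hom) ⟶ R := Over.homMk (IsClosedImmersion.lift rr.left (φ ≫ g).left hle) (by
      rw [← Over.w rr, IsClosedImmersion.lift_fac_assoc, Over.w (φ ≫ g)])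
    have hg' : g' ≫ rr = φ ≫ g := Over.OverMorphism.ext (IsClosedImmersion.lift_fac _ _ _)
    obtain ⟨w, hw⟩ := hnR _ g' z
    refine ⟨w, ?_⟩
    show w ≫ lR ≫ rr = φ ≫ (g * x * g⁻¹)
    rw [← Category.assoc, ← hw, MonObj.mul_comp, MonObj.mul_comp, GrpObj.inv_comp, hg', Category.assoc z,
      show z ≫ lR ≫ rr = φ ≫ x from hz, MonObj.comp_mul, MonObj.comp_mul, GrpObj.comp_inv]
  obtain ⟨N, gN, i, hi, hic, hNa, hNn, y, hy, -⟩ :=
    FrobDescent.exists_descended_of_stable q₀ lG hst n₁ hconj
  haveI := hi; haveI := hic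
  obtain ⟨Q, gQ, q, hq, hQlft, hQqc, hqf, hqs, hqp, hk⟩ := H19Quot.exists_quotientGroup i hNn
  haveI := hq; haveI := hQlft; haveI := hQqc; haveI := hqf; haveI := hqs; haveI := hqp
  refine ⟨N, gN, i, Q, gQ, q, hi, hic, hNa, hNn, hq, hqs, hqf, hqp, hk, ?_⟩
  haveI : IsMonHom (F.map q) := inferInstance
  haveI : Surjective (F.map q).left := MorphismProperty.overPullbackMap _ _ inferInstance
  haveI : LocallyOfFiniteType (F.obj Q).hom :=
    inferInstanceAs (LocallyOfFiniteType (pullback.snd Q.hom (GeomTate.σ k K)))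
  haveI : QuasiCompact (F.obj Q).hom := inferInstanceAs (QuasiCompact (pullback.snd Q.hom (GeomTate.σ k K)))
  let qH : H ⟶ F.obj Q := j ≫ rr ≫ F.map q
  have hl0 : l ≫ qH = 1 := by
    show l ≫ j ≫ rr ≫ F.map q = 1
    rw [← Category.assoc l j, ← Category.assoc lR rr, show lR ≫ rr = lG from rfl, ← hy, Category.assoc,
      ← Functor.map_comp, H19Grp.kernel_comp_eq_one hk, map_one_bc, MonObj.comp_one]
  obtain ⟨χ, hχ, -⟩ := H19Grp.QuotientDesc.existsUnique_desc q' qH fun T a b hab => by
    obtain ⟨x, hx⟩ := H19Grp.kernel_lift hk' (a * b⁻¹) (by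
      rw [MonObj.mul_comp, GrpObj.inv_comp, hab, mul_inv_cancel])
    have h1 : (a * b⁻¹) ≫ qH = 1 := by rw [← hx, Category.assoc, hl0, MonObj.comp_one]
    rwa [MonObj.mul_comp, GrpObj.inv_comp, mul_inv_eq_one] at h1
  obtain ⟨t, ht⟩ := finite_classes j h1
  have hp : IsProper (F.obj Q).hom := by
    refine isProper_of_translates χ (t.image fun g => g ≫ rr ≫ F.map q) fun x => ?_
    obtain ⟨a, rfl⟩ := exists_pt_lift (F.map q) x
    obtain ⟨b, rfl⟩ := exists_pt_lift rr a
    obtain ⟨g, hg, c, hc⟩ := ht b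
    refine ⟨g ≫ rr ≫ F.map q, Finset.mem_image_of_mem _ hg, c ≫ q', ?_⟩
    rw [Category.assoc, hχ, eq_mul_inv_iff_mul_eq, show c ≫ qH = (c ≫ j) ≫ rr ≫ F.map q from (Category.assoc _ _ _).symm,
      hc, Category.assoc b, ← MonObj.mul_comp, inv_mul_cancel_right]
  exact MorphismProperty.of_pullback_snd_of_descendsAlong (P := @IsProper) (Q := H18Descent.fpqc)
    (g := GeomTate.σ k K) ⟨⟨inferInstance, inferInstance⟩, inferInstance⟩ hp

end Groth.Agent.H19Chev
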