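import Groth.Agent.H19Chev.IdComp
import Groth.Agent.H19Grp.HomFlat
import Groth.Agent.H19Grp.PointsEqClosed

/-!
# Quasi-complements of abelian subvarieties of algebraic groups
-/

set_option autoImplicit false
set_option linter.style.haveILetI false
set_option backward.isDefEq.respectTransparency false
set_option maxHeartbeats 1000000
set_option synthInstance.maxHeartbeats 100000
universe u

open CategoryTheory CategoryTheory.Limits MonoidalCategory CartesianMonoidalCategory MonObj AlgebraicGeometry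
open Groth.Agent Groth.Agent.H25AbCube Groth.Agent.H19Quot

noncomputable section

namespace Groth.Agent.H19Chev

variable {k : Type u} [Field k]

/-- The product map of two commuting homomorphisms is a homomorphism. -/
theorem isMonHom_mul_map {A N G : Over (Spec (CommRingCat.of k))} [GrpObj A] [GrpObj N] [GrpObj G]
    (i : A ⟶ G) [IsMonHom i] (j : N ⟶ G) [IsMonHom j]
    (hc : ∀ (T : Over (Spec (CommRingCat.of k))) (a : T ⟶ A) (x : T ⟶ N), (a ≫ i) * (x ≫ j) = (x ≫ j) * (a ≫ i)) :
    IsMonHom ((i ⊗ₘ j) ≫ μ[G]) := by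
  have hm : ∀ {T : Over (Spec (CommRingCat.of k))} (w : T ⟶ A ⊗ N),
      w ≫ (i ⊗ₘ j) ≫ μ[G] = ((w ≫ fst A N) ≫ i) * ((w ≫ snd A N) ≫ j) := fun w => by
    rw [Hom.mul_def, Category.assoc, Category.assoc, ← comp_lift, lift_fst_comp_snd_comp, Category.assoc]
  refine ⟨?_, ?_⟩
  · rw [hm]
    have h1 : η[A ⊗ N] ≫ fst A N = η[A] := IsMonHom.one_hom (fst A N)
    have h2 : η[A ⊗ N] ≫ snd A N = η[N] := IsMonHom.one_hom (snd A N)
    rw [h1, h2, IsMonHom.one_hom i, IsMonHom.one_hom j]
    have e : (η[G] : 𝟙_ _ ⟶ G) = 1 := by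
      rw [Hom.one_def, toUnit_unique (toUnit _) (𝟙 _), Category.id_comp]
    rw [e, _root_.mul_one]
  · have hμ : μ[A ⊗ N] = fst (A ⊗ N) (A ⊗ N) * snd (A ⊗ N) (A ⊗ N) := by
      rw [Hom.mul_def, lift_fst_snd, Category.id_comp]
    have hμG : ((i ⊗ₘ j) ≫ μ[G] ⊗ₘ (i ⊗ₘ j) ≫ μ[G]) ≫ μ[G] =
        (fst (A ⊗ N) (A ⊗ N) ≫ (i ⊗ₘ j) ≫ μ[G]) * (snd (A ⊗ N) (A ⊗ N) ≫ (i ⊗ₘ j) ≫ μ[G]) := by
      rw [Hom.mul_def, lift_fst_comp_snd_comp]
    rw [hμG, hμ, hm, hm, hm, MonObj.mul_comp, MonObj.mul_comp, MonObj.mul_comp, MonObj.mul_comp]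
    simp only [_root_.mul_assoc]
    congr 1
    rw [← _root_.mul_assoc, hc, _root_.mul_assoc]

/-- Points with values in an algebraically closed field lift along surjective morphisms. -/
theorem exists_point_lift_field {K : Type u} [Field K] [Algebra k K] [IsAlgClosed K]
    {X Y : Over (Spec (CommRingCat.of k))} (f : X ⟶ Y) [Surjective f.left] [LocallyOfFiniteType f.left]
    (y : Over.mk (Spec.map (CommRingCat.ofHom (algebraMap k K))) ⟶ Y) :
    ∃ x : Over.mk (Spec.map (CommRingCat.ofHom (algebraMap k K))) ⟶ X, x ≫ f = y := by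
  let y' : Spec (CommRingCat.of K) ⟶ Y.left := y.left
  let P : Over (Spec (CommRingCat.of K)) := Over.mk (pullback.snd f.left y')
  haveI : LocallyOfFiniteType P.hom := inferInstanceAs (LocallyOfFiniteType (pullback.snd f.left y'))
  haveI : Surjective P.hom := MorphismProperty.pullback_snd (P := @Surjective) _ _ inferInstance
  haveI : JacobsonSpace P.left := LocallyOfFiniteType.jacobsonSpace P.hom
  obtain ⟨x₀, -⟩ := P.hom.surjective (IsLocalRing.closedPoint K)
  obtain ⟨z, -, hz⟩ := nonempty_inter_closedPoints (Z := (Set.univ : Set P.left)) ⟨x₀, trivial⟩ isClosed_univ.isLocallyClosed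
  obtain ⟨a, -⟩ := Stab.exists_pnt hz
  have ha : a.left ≫ pullback.snd f.left y' = 𝟙 _ := Over.w a
  have hcomp : (a.left ≫ pullback.fst f.left y') ≫ f.left = y' := by
    rw [Category.assoc, pullback.condition, ← Category.assoc, ha]
    exact Category.id_comp _
  refine ⟨Over.homMk (a.left ≫ pullback.fst f.left y') ?_, Over.OverMorphism.ext hcomp⟩
  show (a.left ≫ pullback.fst f.left y') ≫ X.hom = _
  rw [← Over.w f, ← Category.assoc, hcomp]
  exact Over.w y

/-- An abelian subvariety of a connected algebraic group has a quasi-complement. -/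
theorem exists_quasiComplement (G A : Over (Spec (CommRingCat.of k))) [GrpObj G] [GrpObj A] [Smooth G.hom]
    [QuasiCompact G.hom] [ConnectedSpace G.left] (i : A ⟶ G) [IsMonHom i] [IsClosedImmersion i.left]
    [Smooth A.hom] [ConnectedSpace A.left] [IsProper A.hom] :
    ∃ (N : Over (Spec (CommRingCat.of k))) (_ : GrpObj N) (j : N ⟶ G), IsMonHom j ∧ IsClosedImmersion j.left ∧
      AlgGrp.IsNormalHom j ∧
      (∀ (T : Over (Spec (CommRingCat.of k))) (a : T ⟶ A) (n : T ⟶ N), (a ≫ i) * (n ≫ j) = (n ≫ j) * (a ≫ i)) ∧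
      Flat ((i ⊗ₘ j) ≫ μ[G]).left ∧ Surjective ((i ⊗ₘ j) ≫ μ[G]).left ∧
      IsFinite (pullback.fst i.left j.left ≫ A.hom) ∧ (PerfectField k → Smooth N.hom) := by
  haveI := geometricallyIntegral_av A
  haveI : IsCommMonObj A := isCommMonObj_of_av
  haveI : IsSeparated G.hom := H19Grp.AffineQuotient.isSeparated_of_grp G
  haveI : CompactSpace G.left := QuasiCompact.compactSpace_of_compactSpace G.hom
  haveI : IsNoetherianRing (CommRingCat.of k) := inferInstanceAs (IsNoetherianRing k)
  haveI : IsLocallyNoetherian G.left := LocallyOfFiniteType.isLocallyNoetherian G.hom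
  obtain ⟨φ₀, n, hn, hφ₀⟩ := exists_projection i
  let φ : G ⟶ A := φ₀ * (toUnit G ≫ (η[G] ≫ φ₀)⁻¹)
  have hpt : ∀ {T : Over (Spec (CommRingCat.of k))} (c : 𝟙_ (Over (Spec (CommRingCat.of k))) ⟶ A) (x : T ⟶ G),
      x ≫ toUnit G ≫ c = toUnit T ≫ c := fun c x => by rw [← Category.assoc, comp_toUnit]
  have hφ1 : η[G] ≫ φ = η[A] := by
    rw [MonObj.comp_mul, hpt, toUnit_unique (toUnit (𝟙_ _)) (𝟙 _), Category.id_comp, mul_inv_cancel, Hom.one_def,
      toUnit_unique (toUnit (𝟙_ _)) (𝟙 _), Category.id_comp]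
  haveI : IsMonHom φ := isMonHom_to_av φ hφ1
  have hφi : ∀ {T : Over (Spec (CommRingCat.of k))} (a : T ⟶ A), (a ≫ i) ≫ φ = a ^ n := fun {T} a => by
    have h := hφ₀ T 1 a
    rw [_root_.one_mul] at h
    rw [MonObj.comp_mul, hpt, h, mul_right_comm, Hom.one_def, Category.assoc, ← MonObj.comp_mul, mul_inv_cancel,
      MonObj.comp_one, _root_.one_mul]
  haveI := isFinite_pow (A := A) hn
  haveI := surjective_pow (A := A) hn
  have hconj : ∀ {T : Over (Spec (CommRingCat.of k))} (g a : T ⟶ G), a ≫ φ = 1 → (g * a * g⁻¹) ≫ φ = 1 :=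
    fun g a ha => by rw [MonObj.mul_comp, MonObj.mul_comp, GrpObj.inv_comp, ha, _root_.mul_one, mul_inv_cancel]
  -- the kernel, reduced when the field is perfect
  have hN : ∃ (N : Over (Spec (CommRingCat.of k))) (_ : GrpObj N) (j : N ⟶ G), IsMonHom j ∧
      IsClosedImmersion j.left ∧ AlgGrp.IsNormalHom j ∧ j ≫ φ = 1 ∧ (PerfectField k → Smooth N.hom) ∧
      ∀ (T : Over (Spec (CommRingCat.of k))) [IsReduced T.left] (x : T ⟶ G), x ≫ φ = 1 → ∃ y : T ⟶ N, y ≫ j = x := by
    obtain ⟨N₀, gN₀, j₀, hj₀, hj₀c, hk₀⟩ := H19Grp.AffineQuotient.exists_kernel φ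
    haveI := hj₀; haveI := hj₀c
    by_cases hperf : PerfectField k
    · haveI : LocallyOfFiniteType N₀.hom := by rw [← Over.w j₀]; infer_instance
      obtain ⟨gN, hnr⟩ := H19Grp.GroupCI.exists_grpObj_reduced N₀
      let N : Over (Spec (CommRingCat.of k)) := Over.mk (N₀.left.nilradical.subschemeι ≫ N₀.hom)
      let nr : N ⟶ N₀ := Over.homMk N₀.left.nilradical.subschemeι rfl
      haveI : IsMonHom nr := hnr
      haveI : IsClosedImmersion nr.left := inferInstanceAs (IsClosedImmersion N₀.left.nilradical.subschemeι)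
      haveI : IsReduced N.left := inferInstanceAs (IsReduced N₀.left.nilradical.subscheme)
      haveI : Surjective nr.left := ⟨fun x => by
        have : Set.range N₀.left.nilradical.subschemeι = Set.univ := by
          rw [Scheme.IdealSheafData.range_subschemeι, Scheme.support_nilradical]
          rfl
        exact this.ge trivial⟩
      let j : N ⟶ G := nr ≫ j₀
      haveI : IsClosedImmersion j.left := by rw [Over.comp_left]; infer_instance
      haveI : LocallyOfFiniteType N.hom := by rw [← Over.w j]; infer_instance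
      haveI : QuasiCompact N.hom := by rw [← Over.w j]; infer_instance
      haveI : Smooth N.hom := H19Grp.smooth_of_isReduced_perfect N
      have hjφ : j ≫ φ = 1 := by rw [Category.assoc, H19Grp.kernel_comp_eq_one hk₀, MonObj.comp_one]
      have hlift : ∀ (T : Over (Spec (CommRingCat.of k))) [IsReduced T.left] (x : T ⟶ G), x ≫ φ = 1 →
          ∃ y : T ⟶ N, y ≫ j = x := fun T _ x hx => by
        obtain ⟨y₀, hy₀⟩ := H19Grp.kernel_lift hk₀ x hx
        obtain ⟨y, hy⟩ := H17.exists_lift_of_range_subset y₀.left nr.left (fun z _ => nr.left.surjective z)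
        exact ⟨Over.homMk y (by rw [← Over.w y₀, ← hy, Category.assoc, Over.w nr]),
          (Category.assoc _ _ _).symm.trans ((congrArg (· ≫ j₀) (Over.OverMorphism.ext hy)).trans hy₀)⟩
      refine ⟨N, gN, j, inferInstance, inferInstance, fun T g x => ?_, hjφ, fun _ => inferInstance, hlift⟩
      haveI : Smooth (G ⊗ N).hom := by show Smooth (pullback.fst G.hom N.hom ≫ G.hom); infer_instance
      haveI : IsReduced (G ⊗ N).left := isReduced_smooth
      obtain ⟨y, hy⟩ := hlift _ (fst G N * (snd G N ≫ j) * (fst G N)⁻¹) (by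
        rw [MonObj.mul_comp, MonObj.mul_comp, GrpObj.inv_comp, Category.assoc (snd G N), hjφ, MonObj.comp_one,
          _root_.mul_one, mul_inv_cancel])
      refine ⟨lift g x ≫ y, ?_⟩
      rw [Category.assoc, hy, MonObj.comp_mul, MonObj.comp_mul, GrpObj.comp_inv, lift_fst, lift_snd_assoc]
    · refine ⟨N₀, gN₀, j₀, hj₀, hj₀c, fun T g x => ?_, H19Grp.kernel_comp_eq_one hk₀, fun h => absurd h hperf,
        fun T _ x hx => H19Grp.kernel_lift hk₀ x hx⟩
      obtain ⟨z, hz⟩ := H19Grp.kernel_lift hk₀ _ (hconj g (x ≫ j₀) (by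
        rw [Category.assoc, H19Grp.kernel_comp_eq_one hk₀, MonObj.comp_one]))
      exact ⟨z, hz.symm⟩
  obtain ⟨N, gN, j, hj, hjc, hjn, hjφ, hNs, hlift⟩ := hN
  haveI := hj; haveI := hjc
  haveI : LocallyOfFiniteType N.hom := by rw [← Over.w j]; infer_instance
  haveI : QuasiCompact N.hom := by rw [← Over.w j]; infer_instance
  have hc : ∀ (T : Over (Spec (CommRingCat.of k))) (a : T ⟶ A) (x : T ⟶ N),
      (a ≫ i) * (x ≫ j) = (x ≫ j) * (a ≫ i) := fun T a x => central_av i a (x ≫ j)
  haveI := isMonHom_mul_map i j hc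
  haveI : LocallyOfFiniteType (A ⊗ N).hom := by
    show LocallyOfFiniteType (pullback.fst A.hom N.hom ≫ A.hom); infer_instance
  haveI : QuasiCompact (A ⊗ N).hom := by
    show QuasiCompact (pullback.fst A.hom N.hom ≫ A.hom); infer_instance
  obtain ⟨h1, h2, h3⟩ := AbelianCat.props_hom ((i ⊗ₘ j) ≫ μ[G]) ⟨inferInstance, inferInstance⟩
    ⟨inferInstance, inferInstance⟩
  haveI := h1; haveI := h2; haveI := h3
  haveI : Surjective ((i ⊗ₘ j) ≫ μ[G]).left := by
    refine ⟨Set.range_eq_univ.1 (H19Grp.PointsDense.eq_univ_of_points (K := AlgebraicClosure k)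
      (Set.image_univ ▸ ((i ⊗ₘ j) ≫ μ[G]).left.isConstructible_image Topology.IsConstructible.univ) fun w => ?_)⟩
    haveI : LocallyOfFiniteType ((𝟙 A) ^ n : A ⟶ A).left := inferInstance
    obtain ⟨a, ha⟩ := exists_point_lift_field ((𝟙 A) ^ n : A ⟶ A) (w ≫ φ)
    rw [MonObj.comp_pow, Category.comp_id] at ha
    let T := Over.mk (Spec.map (CommRingCat.ofHom (algebraMap k (AlgebraicClosure k))))
    haveI : IsReduced T.left := inferInstanceAs (IsReduced (Spec (CommRingCat.of (AlgebraicClosure k))))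
    obtain ⟨x, hx⟩ := hlift T ((a ≫ i)⁻¹ * w) (by
      rw [MonObj.mul_comp, GrpObj.inv_comp, hφi, ha, inv_mul_cancel])
    refine ⟨IsLocalRing.closedPoint _, (lift a x).left (IsLocalRing.closedPoint _), ?_⟩
    have he : lift a x ≫ (i ⊗ₘ j) ≫ μ[G] = w := by
      rw [← Category.assoc, lift_map, ← Hom.mul_def, hx, mul_inv_cancel_left]
    rw [← Scheme.Hom.comp_apply, ← Over.comp_left, he]
  refine ⟨N, gN, j, hj, hjc, hjn, hc, H19Grp.flat_of_surjective _, inferInstance, ?_, hNs⟩
  -- the intersection lies in the torsion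
  let P : Over (Spec (CommRingCat.of k)) := Over.mk (pullback.fst i.left j.left ≫ A.hom)
  let p : P ⟶ A := Over.homMk (pullback.fst i.left j.left) rfl
  let p' : P ⟶ N := Over.homMk (pullback.snd i.left j.left) (by
    show pullback.snd i.left j.left ≫ N.hom = pullback.fst i.left j.left ≫ A.hom
    rw [← Over.w i, ← Over.w j, pullback.condition_assoc])
  have hpp : p ≫ i = p' ≫ j := Over.OverMorphism.ext pullback.condition
  obtain ⟨K, gK, κ, hκ, hκc, hkκ⟩ := H19Grp.AffineQuotient.exists_kernel φ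
  haveI := hκc
  have hpow : p ≫ ((𝟙 A) ^ n : A ⟶ A) = 1 := by
    rw [MonObj.comp_pow, Category.comp_id, ← hφi, hpp, Category.assoc, hjφ, MonObj.comp_one]
  let F := pullback ((𝟙 A) ^ n : A ⟶ A).left η[A].left
  haveI : IsFinite (pullback.snd ((𝟙 A) ^ n : A ⟶ A).left η[A].left) :=
    MorphismProperty.pullback_snd (P := @IsFinite) _ _ inferInstance
  have hw : pullback.fst i.left j.left ≫ ((𝟙 A) ^ n : A ⟶ A).left = P.hom ≫ η[A].left := by
    have := congrArg (·.left) hpow
    rw [Hom.one_def, Over.comp_left, Over.comp_left,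
      show (toUnit P).left = P.hom from (Category.comp_id _).symm.trans (Over.w (toUnit P))] at this
    exact this
  let l := pullback.lift (pullback.fst i.left j.left) P.hom hw
  haveI : IsClosedImmersion (pullback.fst i.left j.left) :=
    MorphismProperty.pullback_fst (P := @IsClosedImmersion) _ _ inferInstance
  haveI : IsClosedImmersion η[A].left :=
    isClosedImmersion_of_comp_eq_id A.hom _ (Over.w η[A])
  haveI : IsClosedImmersion (pullback.fst ((𝟙 A) ^ n : A ⟶ A).left η[A].left) :=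
    MorphismProperty.pullback_fst (P := @IsClosedImmersion) _ _ inferInstance
  haveI : IsClosedImmersion (l ≫ pullback.fst ((𝟙 A) ^ n : A ⟶ A).left η[A].left) := by
    rw [pullback.lift_fst]; infer_instance
  haveI : IsClosedImmersion l :=
    IsClosedImmersion.of_comp l (pullback.fst ((𝟙 A) ^ n : A ⟶ A).left η[A].left)
  show IsFinite P.hom
  rw [show P.hom = l ≫ pullback.snd _ _ from (pullback.lift_snd _ _ hw).symm]
  infer_instance

end Groth.Agent.H19Chev
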