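import Groth.Agent.H19Chev.Place
import Groth.Agent.H7Lim.Nagata.Criteria
import Groth.Agent.H11Curve.Complete
import Groth.Agent.H8Props.FieldDimFormula
import Groth.Agent.H25AbCube.HomFactor
import Groth.Agent.H19Chev.CellPic
import Mathlib.RingTheory.AlgebraicIndependent.Adjoin
import Groth.Agent.H26Weil.NormValue
import Groth.Agent.H19Grp.AffineQuotient
import Mathlib.FieldTheory.Galois.Basic
import Mathlib.AlgebraicGeometry.Morphisms.FiniteType

/-!
# Groups without rational curves are proper
-/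

set_option autoImplicit false
set_option linter.style.haveILetI false
set_option backward.isDefEq.respectTransparency false
set_option maxHeartbeats 1000000
set_option synthInstance.maxHeartbeats 100000
universe u

open CategoryTheory CategoryTheory.Limits MonoidalCategory CartesianMonoidalCategory MonObj AlgebraicGeometry
open Groth.Agent WithZero

noncomputable section

namespace Groth.Agent.H19Chev

variable {k : Type u} [Field k]

/-- The spectrum of an algebra over the field. -/
abbrev sp (k : Type u) [Field k] (A : Type u) [CommRing A] [Algebra k A] : Over (Spec (CommRingCat.of k)) :=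
  Over.mk (Spec.map (CommRingCat.ofHom (algebraMap k A)))

/-- The morphism of spectra of a homomorphism. -/
abbrev spMap {A B : Type u} [CommRing A] [Algebra k A] [CommRing B] [Algebra k B] (φ : A →ₐ[k] B) :
    sp k B ⟶ sp k A :=
  Over.homMk (Spec.map (CommRingCat.ofHom φ.toRingHom)) (by
    show Spec.map _ ≫ Spec.map _ = Spec.map _
    rw [← Spec.map_comp, ← CommRingCat.ofHom_comp]
    exact congrArg (fun g => Spec.map (CommRingCat.ofHom g)) φ.comp_algebraMap)

theorem spMap_comp {A B C : Type u} [CommRing A] [Algebra k A] [CommRing B] [Algebra k B] [CommRing C]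
    [Algebra k C] (φ : A →ₐ[k] B) (ψ : B →ₐ[k] C) : spMap ψ ≫ spMap φ = spMap (ψ.comp φ) :=
  Over.OverMorphism.ext (by
    show Spec.map _ ≫ Spec.map _ = Spec.map _
    rw [← Spec.map_comp, ← CommRingCat.ofHom_comp]
    rfl)

theorem spMap_id {A : Type u} [CommRing A] [Algebra k A] : spMap (AlgHom.id k A) = 𝟙 (sp k A) :=
  Over.OverMorphism.ext (Spec.map_id _)

/-- The valuation ring of a place as a subalgebra. -/
def placeAlg {F : Type u} [Field F] [Algebra k F] (P : FunFld.Place k F) : Subalgebra k F :=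
  { P.O.toSubring with algebraMap_mem' := fun c => P.2.1 c }

variable {G : Over (Spec (CommRingCat.of k))}

/-- Points in an affine open are ring homomorphisms. -/
theorem exists_ringHom_of_range {A : Type u} [CommRing A] [Algebra k A] (f : sp k A ⟶ G) {U : G.left.Opens}
    (hU : IsAffineOpen U) (hf : Set.range f.left ⊆ U) :
    ∃ φ : Γ(G.left, U) →+* A, Spec.map (CommRingCat.ofHom φ) ≫ hU.fromSpec = f.left := by
  refine ⟨(Spec.preimage (IsOpenImmersion.lift hU.fromSpec f.left (by rwa [hU.range_fromSpec]))).hom, ?_⟩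
  exact (congrArg (· ≫ hU.fromSpec) (Spec.map_preimage _)).trans (IsOpenImmersion.lift_fac _ _ _)

theorem ringHom_unique {A : Type u} [CommRing A] {U : G.left.Opens} (hU : IsAffineOpen U)
    {φ ψ : Γ(G.left, U) →+* A}
    (h : Spec.map (CommRingCat.ofHom φ) ≫ hU.fromSpec = Spec.map (CommRingCat.ofHom ψ) ≫ hU.fromSpec) : φ = ψ :=
  congrArg CommRingCat.Hom.hom (Spec.map_injective ((cancel_mono hU.fromSpec).1 h))

/-- A point whose coordinates lie in a subalgebra comes from it. -/
theorem exists_factor {A : Type u} [CommRing A] [Algebra k A] (f : sp k A ⟶ G) {U : G.left.Opens}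
    (hU : IsAffineOpen U) (φ : Γ(G.left, U) →+* A) (hφ : Spec.map (CommRingCat.ofHom φ) ≫ hU.fromSpec = f.left)
    (R : Subalgebra k A) (hR : ∀ a, φ a ∈ R) : ∃ l : sp k R ⟶ G, spMap R.val ≫ l = f := by
  let φ' : Γ(G.left, U) →+* R := φ.codRestrict R hR
  have hval : (R.val : R →+* A).comp φ' = φ := RingHom.ext fun a => rfl
  obtain ⟨ψ, hψ⟩ := Spec.map_surjective (hU.fromSpec ≫ G.hom)
  have hw : (Spec.map (CommRingCat.ofHom φ') ≫ hU.fromSpec) ≫ G.hom =
      Spec.map (CommRingCat.ofHom (algebraMap k R)) := by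
    rw [Category.assoc, ← hψ, ← Spec.map_comp]
    congr 1
    ext c
    have h := Over.w f
    rw [← hφ, Category.assoc, ← hψ] at h
    change Spec.map (CommRingCat.ofHom φ) ≫ Spec.map ψ = Spec.map _ at h
    rw [← Spec.map_comp] at h
    exact congr($(Spec.map_injective h) c)
  refine ⟨Over.homMk (Spec.map (CommRingCat.ofHom φ') ≫ hU.fromSpec) hw, Over.OverMorphism.ext ?_⟩
  show Spec.map _ ≫ Spec.map _ ≫ _ = _
  rw [← Spec.map_comp_assoc, ← CommRingCat.ofHom_comp, ← hφ]
  exact congrArg (fun g => Spec.map (CommRingCat.ofHom g) ≫ hU.fromSpec) hval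

/-- The coordinates of a point are integral at all but finitely many places. -/
theorem exists_finset_integral [LocallyOfFiniteType G.hom] {F : Type u} [Field F] [Algebra k F]
    (hF : FunFld.IsFunctionField k F) (f : sp k F ⟶ G) :
    ∃ S : Finset (FunFld.Place k F), ∀ P ∉ S, ∃ l : sp k (placeAlg P) ⟶ G, spMap (placeAlg P).val ≫ l = f := by
  classical
  obtain ⟨_, ⟨U, hU, rfl⟩, hxU, -⟩ := G.left.isBasis_affineOpens.exists_subset_of_mem_open
    (Set.mem_univ (f.left (IsLocalRing.closedPoint F))) isOpen_univ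
  obtain ⟨φ, hφ⟩ := exists_ringHom_of_range f hU (by
    rintro _ ⟨x, rfl⟩
    rwa [Subsingleton.elim (α := PrimeSpectrum F) x (IsLocalRing.closedPoint F)])
  obtain ⟨ψ, hψ⟩ := Spec.map_surjective (hU.fromSpec ≫ G.hom)
  have hfin : ψ.hom.FiniteType := by
    have h : LocallyOfFiniteType (Spec.map ψ) := hψ ▸ inferInstance
    exact (HasRingHomProperty.Spec_iff (P := @LocallyOfFiniteType)).1 h
  have hφψ : φ.comp ψ.hom = algebraMap k F := by
    have h := Over.w f
    rw [← hφ, Category.assoc, ← hψ] at h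
    change Spec.map (CommRingCat.ofHom φ) ≫ Spec.map ψ = Spec.map _ at h
    rw [← Spec.map_comp] at h
    exact congrArg CommRingCat.Hom.hom (Spec.map_injective h)
  letI := ψ.hom.toAlgebra
  haveI : Algebra.FiniteType k Γ(G.left, U) := hfin
  obtain ⟨s, hs⟩ := (Algebra.FiniteType.out : (⊤ : Subalgebra k Γ(G.left, U)).FG)
  let φa : Γ(G.left, U) →ₐ[k] F := { φ with commutes' := fun c => congr($hφψ c) }
  refine ⟨s.biUnion fun a => (H23FunFld.finite_support_ord hF (φ a)).toFinset, fun P hP =>
    exists_factor f hU φ hφ _ fun a => ?_⟩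
  have hle : (Algebra.adjoin k (s : Set Γ(G.left, U))).map φa ≤ placeAlg P := by
    rw [AlgHom.map_adjoin, Algebra.adjoin_le_iff]
    rintro _ ⟨x, hx, rfl⟩
    show P.1 (φ x) ≤ 1
    have h0 : P.ord (φ x) = 0 := by
      by_contra h
      exact hP (Finset.mem_biUnion.2 ⟨x, hx, (Set.Finite.mem_toFinset _).2 h⟩)
    rcases eq_or_ne (φ x) 0 with h | h
    · simp [h]
    · exact (H23FunFld.val_le_one_iff P h).2 h0.ge
  rw [hs] at hle
  exact hle ⟨a, trivial, rfl⟩

variable [GrpObj G] [IsCommMonObj G]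

local notation "Pts" X => 𝟙_ (Over (Spec (CommRingCat.of k))) ⟶ X

/-- If points over rational function fields are constant, points over function fields are integral. -/
theorem exists_factor_place [IsAlgClosed k] [LocallyOfFiniteType G.hom]
    (h : ∀ (F : Type u) [Field F] [Algebra k F] (t : F), Transcendental k t →
      ∀ g : sp k (IntermediateField.adjoin k ({t} : Set F)) ⟶ G, ∃ a : Pts G, g = toUnit _ ≫ a)
    {F : Type u} [Field F] [Algebra k F] (hF : FunFld.IsFunctionField k F) (P : FunFld.Place k F)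
    (f : sp k F ⟶ G) : ∃ l : sp k (placeAlg P) ⟶ G, spMap (placeAlg P).val ≫ l = f := by
  classical
  obtain ⟨S, hS⟩ := exists_finset_integral hF f
  obtain ⟨t, ht, htS⟩ := exists_uniformizer P S
  have htt := transcendental_of_val hF P ht
  haveI := isSeparable_of_uniformizer hF P ht
  haveI := H23FunFld.finiteDimensional_adjoin hF htt
  set E := IntermediateField.adjoin k ({t} : Set F) with hE
  let Ω := SeparableClosure F
  haveI : Algebra.IsSeparable E Ω := Algebra.IsSeparable.trans E F Ω
  haveI : IsSepClosure E Ω := ⟨inferInstance, inferInstance⟩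
  haveI : IsGalois E Ω := IsSepClosure.isGalois
  let L : IntermediateField E Ω := IntermediateField.normalClosure E F Ω
  haveI : IsGalois E L := IsGalois.normalClosure E F Ω
  haveI : FiniteDimensional E L := inferInstance
  haveI : IsScalarTower k E L := inferInstance
  let jF : F →ₐ[E] L := (IsScalarTower.toAlgHom E F Ω).codRestrict L.toSubalgebra fun x =>
    AlgHom.fieldRange_le_normalClosure (IsScalarTower.toAlgHom E F Ω) ⟨x, rfl⟩
  let tE : E := ⟨t, IntermediateField.mem_adjoin_simple_self k t⟩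
  have htτ : ∀ τ : F →ₐ[E] L, τ t = algebraMap E L tE := fun τ => τ.commutes tE
  have htL : Transcendental k (jF t) := fun h' =>
    htt ((isAlgebraic_algHom_iff (jF.restrictScalars k) jF.toRingHom.injective).1 h')
  -- the function field upstairs
  have hL : FunFld.IsFunctionField k L := by
    refine H26Weil.isFunctionField_of_isFF ⟨jF t, htL, ?_⟩
    let φ : E →ₐ[k] L := IsScalarTower.toAlgHom k E L
    have hmap : φ.fieldRange = IntermediateField.adjoin k ({jF t} : Set L) := by
      have h1 : IntermediateField.adjoin k ({jF t} : Set L) = E.map (jF.restrictScalars k) := by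
        refine Eq.trans ?_ (IntermediateField.adjoin_map k ({t} : Set F) (jF.restrictScalars k)).symm
        rw [Set.image_singleton]
        rfl
      rw [h1]
      ext z
      exact ⟨fun ⟨x, hx⟩ => ⟨x.1, x.2, (jF.commutes x).trans hx⟩,
        fun ⟨x, hx, hxz⟩ => ⟨⟨x, hx⟩, (jF.commutes ⟨x, hx⟩).symm.trans hxz⟩⟩
    rw [← hmap]
    exact Module.Finite.of_equiv_equiv (AlgEquiv.ofInjectiveField φ).toRingEquiv (RingEquiv.refl L)
      (RingHom.ext fun _ => rfl)
  -- a place above
  obtain ⟨Q, hQ, hQt⟩ : ∃ Q : FunFld.Place k L, (∀ x, P.1 x ≤ 1 → Q.1 (jF x) ≤ 1) ∧ Q.1 (jF t) < 1 := by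
    let A : Subalgebra k L := (placeAlg P).map (jF.restrictScalars k)
    have htA : jF t ∈ A := ⟨t, ht.le.trans (exp_zero (M := ℤ) ▸ exp_le_exp.2 (by decide)), rfl⟩
    have hI : (Ideal.span {(⟨jF t, htA⟩ : A)} : Ideal A) ≠ ⊤ := by
      rw [Ne, Ideal.span_singleton_eq_top]
      intro hu
      obtain ⟨⟨_, b, hb, rfl⟩, hb'⟩ := isUnit_iff_exists_inv.1 hu
      have hbt : t * b = 1 := jF.toRingHom.injective (by
        simpa using congrArg Subtype.val hb')
      have h1 : P.1 t * P.1 b = 1 := by rw [← map_mul, hbt, map_one]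
      have h2 : (1 : WithZero (Multiplicative ℤ)) ≤ exp (-1 : ℤ) :=
        h1 ▸ ht ▸ mul_le_of_le_one_right zero_le hb
      rw [← exp_zero, exp_le_exp] at h2
      exact absurd h2 (by decide)
    obtain ⟨O, hle, hI'⟩ := Ideal.image_subset_nonunits_valuationSubring
      (A := A.toSubring) (Ideal.span {(⟨jF t, htA⟩ : A)}) hI
    have hxO : jF t ∈ O.nonunits := hI' ⟨_, Ideal.mem_span_singleton_self _, rfl⟩
    have hx0 : jF t ≠ 0 := fun h' => htL (h' ▸ isAlgebraic_zero)
    have hinv : (jF t)⁻¹ ∉ O := ((O.mem_nonunits_iff_or).1 hxO).resolve_left hx0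
    obtain ⟨Q, hQ⟩ := H23FunFld.exists_place_of_valuationSubring hL O (fun c => hle (A.algebraMap_mem c))
      fun h' => hinv (h' ▸ ValuationSubring.mem_top _)
    refine ⟨Q, fun x hx => (hQ _).2 (hle ⟨x, hx, rfl⟩), lt_of_not_ge fun h' => hinv ((hQ _).1 ?_)⟩
    rw [map_inv₀]
    exact inv_le_one_of_one_le₀ h'
  -- the other conjugates are integral
  have hother : ∀ τ : F →ₐ[E] L, τ ≠ jF → ∃ l : sp k (placeAlg Q) ⟶ G,
      spMap (placeAlg Q).val ≫ l = spMap (τ.restrictScalars k) ≫ f := by
    intro τ hτ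
    let O' := Q.O.comap τ.toRingHom
    have hτt : Q.1 (τ t) < 1 := by rw [htτ τ, ← htτ jF]; exact hQt
    have hmem : ∀ x, x ∈ O' ↔ Q.1 (τ x) ≤ 1 := fun x => Iff.rfl
    have hO' : O' ≠ ⊤ := fun h' => by
      have h2 := (hmem t⁻¹).1 (h' ▸ ValuationSubring.mem_top _)
      rw [map_inv₀, map_inv₀, inv_le_one₀ (zero_lt_iff.2 fun h3 => ?_)] at h2
      · exact hτt.not_ge h2
      · rw [map_eq_zero, map_eq_zero] at h3
        exact htt (h3 ▸ isAlgebraic_zero)
    obtain ⟨P', hP'⟩ := H23FunFld.exists_place_of_valuationSubring hF O'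
      (fun c => (hmem _).2 (by
        rw [show τ (algebraMap k F c) = algebraMap k L c from (τ.restrictScalars k).commutes c]
        exact Q.2.1 c)) hO'
    have hne : P' ≠ P := fun h' => hτ (AlgHom.ext fun x => by
      exact congr($(algHom_eq_of_place hF P ht (τ.restrictScalars k) (jF.restrictScalars k)
        ((htτ τ).trans (htτ jF).symm) Q (fun y hy => (hmem y).1 ((hP' y).1 (h' ▸ hy))) hQ hτt) x))
    have hP'S : P' ∉ S := fun h' => by
      have h1 := htS P' h' hne
      have h2 := (hmem t⁻¹).1 ((hP' t⁻¹).1 (by rw [map_inv₀, h1, inv_one]))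
      rw [map_inv₀, map_inv₀, inv_le_one₀ (zero_lt_iff.2 fun h3 => ?_)] at h2
      · exact hτt.not_ge h2
      · rw [map_eq_zero, map_eq_zero] at h3
        exact htt (h3 ▸ isAlgebraic_zero)
    obtain ⟨l, hl⟩ := hS P' hP'S
    let ρ : placeAlg P' →ₐ[k] placeAlg Q :=
      ((τ.restrictScalars k).comp (placeAlg P').val).codRestrict (placeAlg Q) fun x => (hmem _).1 ((hP' _).1 x.2)
    refine ⟨spMap ρ ≫ l, ?_⟩
    rw [← hl, ← Category.assoc, ← Category.assoc, spMap_comp, spMap_comp]
    rfl
  -- the trace is constant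
  let fτ : (F →ₐ[E] L) → (sp k L ⟶ G) := fun τ => spMap (τ.restrictScalars k) ≫ f
  let e := ∏ τ, fτ τ
  obtain ⟨a, ha⟩ : ∃ a : Pts G, e = toUnit _ ≫ a := by
    have hinv : ∀ σ : L ≃ₐ[E] L, spMap (σ.toAlgHom.restrictScalars k) ≫ e = e := fun σ => by
      let pre : (sp k L ⟶ G) →* (sp k L ⟶ G) :=
        { toFun := fun x => spMap (σ.toAlgHom.restrictScalars k) ≫ x
          map_one' := MonObj.comp_one _
          map_mul' := fun x y => MonObj.comp_mul _ _ _ }
      show pre e = e
      rw [map_prod]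
      refine Fintype.prod_equiv (AlgEquiv.arrowCongr AlgEquiv.refl σ) _ _ fun τ => ?_
      show spMap _ ≫ spMap _ ≫ f = spMap _ ≫ f
      rw [← Category.assoc, spMap_comp]
      rfl
    obtain ⟨_, ⟨U, hU, rfl⟩, hxU, -⟩ := G.left.isBasis_affineOpens.exists_subset_of_mem_open
      (Set.mem_univ (e.left (IsLocalRing.closedPoint L))) isOpen_univ
    obtain ⟨φ, hφ⟩ := exists_ringHom_of_range e hU (by
      rintro _ ⟨x, rfl⟩
      rwa [Subsingleton.elim (α := PrimeSpectrum L) x (IsLocalRing.closedPoint L)])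
    let ιE : E →ₐ[k] L := IsScalarTower.toAlgHom k E L
    have hfix : ∀ u, φ u ∈ ιE.range := fun u => by
      have h1 : ∀ σ : L ≃ₐ[E] L, σ (φ u) = φ u := fun σ => by
        have h2 : Spec.map (CommRingCat.ofHom ((σ : L →+* L).comp φ)) ≫ hU.fromSpec =
            Spec.map (CommRingCat.ofHom φ) ≫ hU.fromSpec := by
          rw [CommRingCat.ofHom_comp, Spec.map_comp, Category.assoc, hφ]
          exact congrArg CommaMorphism.left (hinv σ)
        exact congr($(ringHom_unique hU h2) u)
      exact IntermediateField.mem_bot.1 ((IsGalois.mem_bot_iff_fixed (F := E) (E := L) (φ u)).2 h1)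
    obtain ⟨g, hg⟩ := exists_factor e hU φ hφ ιE.range hfix
    obtain ⟨a, ha⟩ := h F t htt (spMap (AlgEquiv.ofInjectiveField ιE).symm.toAlgHom ≫ g)
    refine ⟨a, ?_⟩
    have hg' : g = spMap (AlgEquiv.ofInjectiveField ιE).toAlgHom ≫ toUnit _ ≫ a := by
      rw [← ha, ← Category.assoc, spMap_comp, AlgEquiv.comp_symm, spMap_id, Category.id_comp]
    rw [← hg, hg', ← Category.assoc, ← Category.assoc, comp_toUnit]
  -- so the given point is integral upstairs
  obtain ⟨l, hl⟩ : ∃ l : sp k (placeAlg Q) ⟶ G, spMap (placeAlg Q).val ≫ l = fτ jF := by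
    choose! lτ hlτ using hother
    let j := spMap (placeAlg Q).val
    let pre : (sp k (placeAlg Q) ⟶ G) →* (sp k L ⟶ G) :=
      { toFun := fun x => j ≫ x
        map_one' := MonObj.comp_one _
        map_mul' := fun x y => MonObj.comp_mul _ _ _ }
    refine ⟨(toUnit _ ≫ a) * (∏ τ ∈ Finset.univ.erase jF, lτ τ)⁻¹, ?_⟩
    show pre _ = _
    rw [map_mul, map_inv, map_prod, show pre (toUnit _ ≫ a) = e by
      rw [ha]; show j ≫ _ ≫ a = _; rw [← Category.assoc, comp_toUnit],
      show ∏ x ∈ Finset.univ.erase jF, pre (lτ x) = ∏ x ∈ Finset.univ.erase jF, fτ x from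
        Finset.prod_congr rfl fun τ hτ => hlτ τ (Finset.ne_of_mem_erase hτ),
      mul_inv_eq_iff_eq_mul]
    exact (Finset.mul_prod_erase Finset.univ fτ (Finset.mem_univ jF)).symm
  -- and hence downstairs
  haveI : IsLocalRing (placeAlg Q) := inferInstanceAs (IsLocalRing Q.O)
  obtain ⟨_, ⟨U, hU, rfl⟩, hxU, -⟩ := G.left.isBasis_affineOpens.exists_subset_of_mem_open
    (Set.mem_univ (l.left (IsLocalRing.closedPoint (placeAlg Q)))) isOpen_univ
  have hrange : Set.range l.left ⊆ U := by
    rintro _ ⟨x, rfl⟩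
    exact ((IsLocalRing.specializes_closedPoint x).map l.left.continuous).mem_open U.2 hxU
  obtain ⟨φl, hφl⟩ := exists_ringHom_of_range l hU hrange
  obtain ⟨φ, hφ⟩ := exists_ringHom_of_range f hU (by
    rintro _ ⟨x, rfl⟩
    refine hrange ?_
    obtain ⟨z⟩ : Nonempty (Spec (CommRingCat.of L)) := inferInstance
    refine ⟨(spMap (placeAlg Q).val).left z, ?_⟩
    rw [← Scheme.Hom.comp_apply, ← Over.comp_left, hl, Over.comp_left, Scheme.Hom.comp_apply]
    exact congrArg f.left (Subsingleton.elim (α := PrimeSpectrum F) _ _))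
  refine exists_factor f hU φ hφ _ fun u => ?_
  have h2 : Spec.map (CommRingCat.ofHom ((jF : F →+* L).comp φ)) ≫ hU.fromSpec =
      Spec.map (CommRingCat.ofHom (((placeAlg Q).val : placeAlg Q →+* L).comp φl)) ≫ hU.fromSpec := by
    rw [CommRingCat.ofHom_comp, CommRingCat.ofHom_comp, Spec.map_comp, Spec.map_comp, Category.assoc,
      Category.assoc, hφ, hφl]
    exact (congrArg CommaMorphism.left hl).symm
  have h3 : Q.1 (jF (φ u)) ≤ 1 := (congr($(ringHom_unique hU h2) u)).symm ▸ (φl u).2
  show P.1 (φ u) ≤ 1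
  by_contra hlt
  rw [not_le] at hlt
  have hne : φ u ≠ 0 := fun h0 => by rw [h0, map_zero] at hlt; exact absurd hlt (not_lt.2 zero_le)
  have hy : P.1 ((φ u)⁻¹ / t) ≤ 1 := by
    rw [map_div₀, map_inv₀, ht, div_le_one₀ (zero_lt_iff.2 exp_ne_zero)]
    have h0 : P.1 (φ u) ≠ 0 := H23FunFld.val_ne_zero P hne
    have hl : 0 < log (P.1 (φ u)) := by
      rw [← exp_log h0] at hlt
      exact exp_lt_exp.1 (exp_zero.trans_lt hlt)
    rw [← exp_log h0, ← exp_neg, exp_le_exp]
    omega
  have h4 := hQ _ hy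
  rw [map_div₀, map_inv₀, map_div₀, map_inv₀, div_le_one₀ (zero_lt_iff.2 fun h5 => htL (by
    rw [map_eq_zero] at h5; exact h5 ▸ isAlgebraic_zero))] at h4
  have h6 : (1 : WithZero (Multiplicative ℤ)) ≤ (Q.1 (jF (φ u)))⁻¹ :=
    (one_le_inv₀ (zero_lt_iff.2 fun h5 => hne (by rwa [map_eq_zero, map_eq_zero] at h5))).2 h3
  exact absurd (h6.trans h4) hQt.not_ge

omit [GrpObj G] [IsCommMonObj G] in
/-- Spreading out a point with values in a fraction field of the polynomial ring. -/
theorem exists_cell_of_point_aux [IsAlgClosed k] [LocallyOfFiniteType G.hom] (K : Type u) [Field K] [Algebra k K]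
    [Algebra (MvPolynomial (Fin 1) k) K] [IsFractionRing (MvPolynomial (Fin 1) k) K]
    [IsScalarTower k (MvPolynomial (Fin 1) k) K] (g' : sp k K ⟶ G) (hg' : ∀ a : Pts G, g' ≠ toUnit _ ≫ a) :
    ∃ (V : (aff k 1).left.Opens) (π : cell V ⟶ G), Nonempty V ∧ ∀ a : Pts G, π ≠ toUnit _ ≫ a := by
  classical
  let A := MvPolynomial (Fin 1) k
  obtain ⟨_, ⟨U, hU, rfl⟩, hxU, -⟩ := G.left.isBasis_affineOpens.exists_subset_of_mem_open
    (Set.mem_univ (g'.left (IsLocalRing.closedPoint K))) isOpen_univ
  obtain ⟨φ, hφ⟩ := exists_ringHom_of_range g' hU (by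
    rintro _ ⟨y, rfl⟩
    rwa [Subsingleton.elim (α := PrimeSpectrum K) y (IsLocalRing.closedPoint K)])
  obtain ⟨ψ, hψ⟩ := Spec.map_surjective (hU.fromSpec ≫ G.hom)
  have hfin : ψ.hom.FiniteType := by
    have h' : LocallyOfFiniteType (Spec.map ψ) := hψ ▸ inferInstance
    exact (HasRingHomProperty.Spec_iff (P := @LocallyOfFiniteType)).1 h'
  have hφψ : φ.comp ψ.hom = algebraMap k K := by
    have h' := Over.w g'
    rw [← hφ, Category.assoc, ← hψ] at h'
    change Spec.map (CommRingCat.ofHom φ) ≫ Spec.map ψ = Spec.map _ at h'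
    rw [← Spec.map_comp] at h'
    exact congrArg CommRingCat.Hom.hom (Spec.map_injective h')
  letI := ψ.hom.toAlgebra
  haveI : Algebra.FiniteType k Γ(G.left, U) := hfin
  obtain ⟨s, hs⟩ := (Algebra.FiniteType.out : (⊤ : Subalgebra k Γ(G.left, U)).FG)
  let φa : Γ(G.left, U) →ₐ[k] K := { φ with commutes' := fun c => congr($hφψ c) }
  obtain ⟨⟨d, hd⟩, hds⟩ := IsLocalization.exist_integer_multiples (nonZeroDivisors A) s (fun u => φ u)
  let Ad := Localization.Away d
  have hunit : IsUnit (algebraMap A K d) := IsLocalization.map_units K ⟨d, hd⟩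
  let j : Ad →ₐ[k] K :=
    { IsLocalization.Away.lift d hunit with
      commutes' := fun c => by
        show IsLocalization.Away.lift d hunit (algebraMap k Ad c) = _
        rw [IsScalarTower.algebraMap_apply k A Ad, IsLocalization.Away.lift_eq, ← IsScalarTower.algebraMap_apply] }
  have hjA : ∀ a, j (algebraMap A Ad a) = algebraMap A K a := fun a => IsLocalization.Away.lift_eq d hunit a
  have hjinj : Function.Injective j := by
    refine (injective_iff_map_eq_zero j).2 fun z hz => ?_
    obtain ⟨n, a, ha⟩ := IsLocalization.Away.surj d z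
    have h1 := congrArg j ha
    rw [map_mul, hz, zero_mul, hjA] at h1
    rw [(IsFractionRing.injective A K) (h1.symm.trans (map_zero _).symm), map_zero] at ha
    exact (IsUnit.mul_left_eq_zero ((IsLocalization.Away.algebraMap_isUnit d).pow n)).1 ha
  have hmem : ∀ u, φ u ∈ j.range := by
    have hle : (Algebra.adjoin k (s : Set Γ(G.left, U))).map φa ≤ j.range := by
      rw [AlgHom.map_adjoin, Algebra.adjoin_le_iff]
      rintro _ ⟨u, hu, rfl⟩
      obtain ⟨a, ha⟩ := hds u hu
      refine ⟨algebraMap A Ad a * IsLocalization.Away.invSelf d, ?_⟩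
      show j _ = φ u
      have h2 : j (IsLocalization.Away.invSelf d) * algebraMap A K d = 1 := by
        rw [← hjA, ← map_mul, mul_comm, IsLocalization.Away.mul_invSelf, map_one]
      rw [map_mul, hjA, ha, Algebra.smul_def, _root_.mul_assoc, mul_comm (φ u), ← _root_.mul_assoc, mul_comm (algebraMap A K _),
        h2, _root_.one_mul]
    rw [hs] at hle
    exact fun u => hle ⟨u, trivial, rfl⟩
  obtain ⟨l, hl⟩ := exists_factor g' hU φ hφ j.range hmem
  let ej : Ad ≃ₐ[k] j.range := AlgEquiv.ofInjective j hjinj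
  let l' : sp k Ad ⟶ G := spMap ej.symm.toAlgHom ≫ l
  have hl' : spMap j ≫ l' = g' := by
    rw [← Category.assoc, spMap_comp, ← hl]
    congr 2
    exact AlgHom.ext fun z => (congrArg Subtype.val (ej.apply_symm_apply z))
  let m : sp k Ad ⟶ aff k 1 := spMap (IsScalarTower.toAlgHom k A Ad)
  haveI : IsOpenImmersion m.left := IsOpenImmersion.of_isLocalization d
  let V : (aff k 1).left.Opens := m.left.opensRange
  let i : cell V ⟶ sp k Ad := Over.homMk m.left.isoOpensRange.inv (by
    show m.left.isoOpensRange.inv ≫ _ = V.ι ≫ _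
    rw [← Over.w m, ← Category.assoc, Scheme.Hom.isoOpensRange_inv_comp])
  haveI : IsDomain Ad := hjinj.isDomain
  refine ⟨V, i ≫ l', ⟨⟨m.left (Classical.arbitrary (α := Spec (CommRingCat.of Ad))), _, rfl⟩⟩, fun a ha => hg' a ?_⟩
  have hi : IsIso i := by
    refine ⟨Over.homMk m.left.isoOpensRange.hom ?_, ?_, ?_⟩
    · show m.left.isoOpensRange.hom ≫ V.ι ≫ _ = _
      rw [Scheme.Hom.isoOpensRange_hom_ι_assoc]
      exact Over.w m
    · exact Over.OverMorphism.ext m.left.isoOpensRange.inv_hom_id
    · exact Over.OverMorphism.ext m.left.isoOpensRange.hom_inv_id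
  haveI := hi
  rw [← hl', show l' = toUnit _ ≫ a by rw [← cancel_epi i, ha, ← Category.assoc, comp_toUnit],
    ← Category.assoc, comp_toUnit]

omit [GrpObj G] [IsCommMonObj G] in
/-- A point with values in a rational function field which is not constant gives a rational curve. -/
theorem exists_cell_of_point [IsAlgClosed k] [LocallyOfFiniteType G.hom] [IsSeparated G.hom] {F : Type u} [Field F]
    [Algebra k F] {t : F} (ht : Transcendental k t) (g : sp k (IntermediateField.adjoin k ({t} : Set F)) ⟶ G)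
    (hg : ∀ a : Pts G, g ≠ toUnit _ ≫ a) :
    ∃ (V : (aff k 1).left.Opens) (π : cell V ⟶ G), Nonempty V ∧ ∀ a : Pts G, π ≠ toUnit _ ≫ a := by
  let K := FractionRing (MvPolynomial (Fin 1) k)
  let x : Fin 1 → F := fun _ => t
  have hx : AlgebraicIndependent k x := algebraicIndependent_unique_type_iff.2 ht
  let e : K ≃ₐ[k] IntermediateField.adjoin k ({t} : Set F) :=
    hx.aevalEquivField.trans (IntermediateField.equivOfEq (by rw [Set.range_const]))
  let g' : sp k K ⟶ G := spMap e.symm.toAlgHom ≫ g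
  have hg' : ∀ a : Pts G, g' ≠ toUnit _ ≫ a := fun a h' => hg a (by
    have : g = spMap e.toAlgHom ≫ g' := by
      rw [← Category.assoc, spMap_comp, AlgEquiv.comp_symm, spMap_id, Category.id_comp]
    rw [this, h', ← Category.assoc, comp_toUnit])
  exact exists_cell_of_point_aux K g' hg'

omit [GrpObj G] [IsCommMonObj G] in
/-- The function field of a curve. -/
theorem isFunctionField_of_dim_one [IsAlgClosed k] (A F : Type u) [CommRing A] [IsDomain A] [Field F]
    [Algebra k A] [Algebra.FiniteType k A] [Algebra A F] [IsFractionRing A F] [Algebra k F] [IsScalarTower k A F]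
    (hA : ringKrullDim A = 1) : FunFld.IsFunctionField k F := by
  classical
  refine H26Weil.isFunctionField_of_isFF ?_
  obtain ⟨n, hn, hn'⟩ := H8Props.FieldDim.exists_dim_trdeg k A
  obtain rfl : n = 1 := by
    have h1 : ((n : ℕ) : WithBot ℕ∞) = ((1 : ℕ) : WithBot ℕ∞) := hn.symm.trans (hA.trans Nat.cast_one.symm)
    exact_mod_cast h1
  have htr : Algebra.trdeg k F = 1 := by
    haveI : Algebra.IsAlgebraic A F := IsLocalization.isAlgebraic _ (nonZeroDivisors A)
    rw [← Nat.cast_one, ← hn', ← trdeg_add_eq k A (A := F), trdeg_eq_zero_iff.2 this, add_zero]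
  obtain ⟨x, hx⟩ : ∃ x : F, Transcendental k x :=
    (trdeg_ne_zero_iff.1 (by rw [htr]; exact one_ne_zero) : Algebra.Transcendental k F).1
  refine ⟨x, hx, ?_⟩
  have hbasis : IsTranscendenceBasis k (fun _ : Unit => x) :=
    (algebraicIndependent_unique_type_iff.2 hx).isTranscendenceBasis_of_lift_trdeg_le_of_finite (by simp [htr])
  have halg := hbasis.isAlgebraic_field
  rw [Set.range_const] at halg
  obtain ⟨S, hS⟩ := (Algebra.FiniteType.out : (⊤ : Subalgebra k A).FG)
  obtain ⟨E, hE⟩ : ∃ E, E = IntermediateField.adjoin k ({x} : Set F) := ⟨_, rfl⟩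
  rw [← hE] at halg ⊢
  haveI := halg
  obtain ⟨M, hM⟩ : ∃ M, M = IntermediateField.adjoin E (algebraMap A F '' (S : Set A)) := ⟨_, rfl⟩
  haveI : FiniteDimensional E M := by
    haveI : Finite ↑(algebraMap A F '' (S : Set A)) := (S.finite_toSet.image _).to_subtype
    subst hM
    exact IntermediateField.finiteDimensional_adjoin fun z _ => (Algebra.IsAlgebraic.isAlgebraic z).isIntegral
  have hmem : ∀ r : A, algebraMap A F r ∈ M := fun r => by
    have h' : (Algebra.adjoin k (S : Set A)).map (IsScalarTower.toAlgHom k A F) ≤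
        M.toSubalgebra.restrictScalars k := by
      rw [AlgHom.map_adjoin]
      exact Algebra.adjoin_le fun z hz => hM ▸ IntermediateField.subset_adjoin E _ hz
    rw [hS] at h'
    exact h' ⟨r, trivial, rfl⟩
  have htop : M = ⊤ := eq_top_iff.2 fun z _ => by
    obtain ⟨a, b, -, rfl⟩ := IsFractionRing.div_surjective A z
    exact div_mem (hmem a) (hmem b)
  exact Module.Finite.equiv ((IntermediateField.equivOfEq htop).trans IntermediateField.topEquiv).toLinearEquiv

/-- A commutative group which is not proper contains a rational curve. -/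
theorem exists_rational_curve [IsAlgClosed k] [LocallyOfFiniteType G.hom] [QuasiCompact G.hom]
    (hG : ¬ IsProper G.hom) :
    ∃ (V : (aff k 1).left.Opens) (π : cell V ⟶ G), Nonempty V ∧ ∀ a : Pts G, π ≠ toUnit _ ≫ a := by
  haveI : IsSeparated G.hom := H19Grp.AffineQuotient.isSeparated_of_grp G
  by_contra hcon
  have h : ∀ (F : Type u) [Field F] [Algebra k F] (t : F), Transcendental k t →
      ∀ g : sp k (IntermediateField.adjoin k ({t} : Set F)) ⟶ G, ∃ a : Pts G, g = toUnit _ ≫ a := by
    intro F _ _ t ht g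
    by_contra hg
    exact hcon (exists_cell_of_point ht g fun a ha => hg ⟨a, ha⟩)
  refine hG ?_
  haveI : UniversallyClosed G.hom := by
    refine H7Lim.Nagata.universallyClosed_of_curveExistence
      (fun W => H11Curve.isNagata_affineOpen_spec_field _ W.1 W.2) G.hom (𝟙 _) G.hom (Category.comp_id _) ?_
    intro C r _ _ _ hn c hc hdim Uo _ u g hgr hug kk hkk
    rw [Category.comp_id] at hgr
    subst hgr
    let R := C.presheaf.stalk c
    let F := FractionRing R
    obtain ⟨_, ⟨W, hW, rfl⟩, hcW, -⟩ := C.isBasis_affineOpens.exists_subset_of_mem_open (Set.mem_univ c) isOpen_univ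
    obtain ⟨alg, hj⟩ := H8Props.FieldDim.exists_algebra_chart g (A := Γ(C, W)) hW.fromSpec
    haveI := H8Props.FieldDim.finiteType_of_chart g (A := Γ(C, W)) hW.fromSpec hj
    haveI : Nonempty W := ⟨⟨c, hcW⟩⟩
    letI : Algebra Γ(C, W) R := C.presheaf.algebra_section_stalk (⟨c, hcW⟩ : W)
    let p := hW.primeIdealOf ⟨c, hcW⟩
    haveI : IsLocalization.AtPrime R p.asIdeal := hW.isLocalization_stalk ⟨c, hcW⟩
    letI algR : Algebra k R := ((algebraMap Γ(C, W) R).comp (algebraMap k Γ(C, W))).toAlgebra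
    haveI : IsScalarTower k Γ(C, W) R := IsScalarTower.of_algebraMap_eq fun _ => rfl
    haveI : IsScalarTower Γ(C, W) R F := inferInstance
    haveI : FaithfulSMul Γ(C, W) F := by
      rw [faithfulSMul_iff_algebraMap_injective, IsScalarTower.algebraMap_eq Γ(C, W) R F]
      exact (IsFractionRing.injective R F).comp
        (IsLocalization.injective R p.asIdeal.primeCompl_le_nonZeroDivisors)
    haveI : IsFractionRing Γ(C, W) F := IsFractionRing.of_field _ _ fun z => by
      obtain ⟨a, b, -, rfl⟩ := IsFractionRing.div_surjective R z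
      obtain ⟨⟨a₁, s₁⟩, ha⟩ := IsLocalization.surj p.asIdeal.primeCompl a
      obtain ⟨⟨b₁, t₁⟩, hb⟩ := IsLocalization.surj p.asIdeal.primeCompl b
      refine ⟨a₁ * t₁, b₁ * s₁, ?_⟩
      have hs : algebraMap R F (algebraMap Γ(C, W) R s₁) ≠ 0 :=
        (((IsLocalization.map_units R s₁).map (algebraMap R F))).ne_zero
      have ht' : algebraMap R F (algebraMap Γ(C, W) R t₁) ≠ 0 :=
        (((IsLocalization.map_units R t₁).map (algebraMap R F))).ne_zero
      have ha' : a * algebraMap Γ(C, W) R s₁ = algebraMap Γ(C, W) R a₁ := ha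
      have hb' : b * algebraMap Γ(C, W) R t₁ = algebraMap Γ(C, W) R b₁ := hb
      rw [IsScalarTower.algebraMap_apply Γ(C, W) R F, IsScalarTower.algebraMap_apply Γ(C, W) R F,
        map_mul (algebraMap Γ(C, W) R) a₁, map_mul (algebraMap Γ(C, W) R) b₁, ← ha', ← hb']
      simp only [map_mul]
      rw [mul_right_comm (algebraMap R F b), mul_div_mul_right _ _ ht', mul_div_mul_right _ _ hs]
    haveI : IsScalarTower k Γ(C, W) F := IsScalarTower.of_algebraMap_eq fun _ => by
      rw [IsScalarTower.algebraMap_apply k R F, IsScalarTower.algebraMap_apply Γ(C, W) R F,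
        ← IsScalarTower.algebraMap_apply k Γ(C, W) R]
    have hpc : hW.fromSpec p = c := hW.fromSpec_primeIdealOf ⟨c, hcW⟩
    haveI : p.asIdeal.IsMaximal := by
      refine (PrimeSpectrum.isClosed_singleton_iff_isMaximal p).1 ?_
      rw [show ({p} : Set (PrimeSpectrum Γ(C, W))) = hW.fromSpec ⁻¹' {c} from Set.ext fun q =>
        ⟨fun hq => by rw [Set.mem_singleton_iff.1 hq]; exact hpc,
          fun hq => hW.fromSpec.isOpenEmbedding.injective ((show hW.fromSpec q = c from hq).trans hpc.symm)⟩]
      exact hc.preimage hW.fromSpec.continuous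
    have hA : ringKrullDim Γ(C, W) = 1 := by
      rw [← H8Props.FieldDim.height_add_dim_quotient k Γ(C, W) p.asIdeal,
        ringKrullDim_eq_zero_of_isField (Ideal.Quotient.maximal_ideal_iff_isField_quotient _ |>.1 inferInstance),
        add_zero, ← H8Props.FieldDim.ringKrullDim_stalk_chart (A := Γ(C, W)) hW.fromSpec p]
      rw [hpc]
      exact hdim
    have hF : FunFld.IsFunctionField k F := isFunctionField_of_dim_one Γ(C, W) F hA
    haveI := H7Lim.Nagata.isDiscreteValuationRing_stalk
      (fun W => H11Curve.isNagata_affineOpen_spec_field _ W.1 W.2) g c (hn c) hdim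
    have hfs : C.fromSpecStalk c ≫ g = Spec.map (CommRingCat.ofHom (algebraMap k R)) := by
      rw [← hW.fromSpecStalk_eq_fromSpecStalk hcW, IsAffineOpen.fromSpecStalk, Category.assoc, hj,
        ← Spec.map_comp]
      rfl
    let f : sp k F ⟶ G := Over.homMk (kk ≫ u) (by
      show (kk ≫ u) ≫ G.hom = Spec.map _
      rw [Category.assoc, hug, ← Category.assoc, hkk, Category.assoc, hfs, ← Spec.map_comp]
      rfl)
    let v := (IsDiscreteValuationRing.maximalIdeal R).valuation F
    let P : FunFld.Place k F := ⟨v, fun a => by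
      rw [IsScalarTower.algebraMap_apply k R F]
      exact IsDedekindDomain.HeightOneSpectrum.valuation_le_one _ _,
      (IsDiscreteValuationRing.maximalIdeal R).valuation_surjective F⟩
    obtain ⟨l, hl⟩ := exists_factor_place h hF P f
    let ρ : R →ₐ[k] placeAlg P := (IsScalarTower.toAlgHom k R F).codRestrict (placeAlg P)
      fun a => IsDedekindDomain.HeightOneSpectrum.valuation_le_one _ a
    have hρ : Function.Bijective ρ := ⟨fun a b hab => IsFractionRing.injective R F (congrArg Subtype.val hab),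
      fun z => by
        obtain ⟨a, ha⟩ := IsDiscreteValuationRing.exists_lift_of_le_one z.2
        exact ⟨a, Subtype.ext ha⟩⟩
    let e := AlgEquiv.ofBijective ρ hρ
    refine ⟨(spMap e.symm.toAlgHom ≫ l).left, ?_, ?_⟩
    · rw [Over.w (spMap e.symm.toAlgHom ≫ l), hfs]
      rfl
    · show _ ≫ Spec.map _ ≫ l.left = _
      rw [← Category.assoc, ← Spec.map_comp, ← show (spMap (placeAlg P).val ≫ l).left = kk ≫ u from
        congrArg CommaMorphism.left hl]
      show _ = Spec.map _ ≫ l.left
      congr 2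
      ext z
      exact (congrArg Subtype.val (e.apply_symm_apply z))
  exact {}

end Groth.Agent.H19Chev
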