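import Groth.Agent.S17451
import Groth.Agent.H21Fix.SubgroupTop
import Groth.Agent.H21Split.Corad.Normal
import Groth.Agent.H21Diag.TorusBc
import Groth.Agent.H21Dyn.Scheme
import Groth.Agent.H19Chev.FieldBasic
import Groth.Agent.H19Chev.TorusCriterion

/-!
# Basic properties of extensions of abelian varieties by tori
-/

set_option autoImplicit false
set_option maxHeartbeats 1000000
set_option synthInstance.maxHeartbeats 100000
set_option linter.style.haveILetI false
set_option backward.isDefEq.respectTransparency false

universe u

open CategoryTheory CategoryTheory.Limits MonoidalCategory CartesianMonoidalCategory MonObj GrpObj AlgebraicGeometry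
open Groth.Agent

namespace Groth.Agent.H19Chev.SemiAb

variable {k : Type u} [Field k]

/-- a torus over an algebraically closed field is irreducible -/
theorem irreducibleSpace_torus [IsAlgClosed k] (T : Over (Spec (CommRingCat.of k))) [GrpObj T]
    (hT : Red.IsTorus T) : IrreducibleSpace T.left := by
  obtain ⟨n, e, -⟩ := H21Dyn.exists_split_algClosed T hT
  let f := (Over.forget _).mapIso e
  exact (Scheme.Hom.homeomorph f.hom).irreducibleSpace_iff.1
    (inferInstanceAs (IrreducibleSpace (PrimeSpectrum (H21Dyn.Lat k n))))

/-- over an algebraically closed field an extension of an abelian variety by a torus is smooth and connected -/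
theorem props_algClosed [IsAlgClosed k] {G T A : Over (Spec (CommRingCat.of k))} [GrpObj G] [GrpObj T] [GrpObj A]
    [LocallyOfFiniteType G.hom] [QuasiCompact G.hom] (i : T ⟶ G) (hT : Red.IsTorus T)
    (q : G ⟶ A) [IsMonHom q] [Surjective q.left] [Flat q.left] (hker : AlgGrp.IsKernel i q)
    [IsProper A.hom] [Smooth A.hom] [ConnectedSpace A.left] :
    Smooth G.hom ∧ ConnectedSpace G.left := by
  haveI : Smooth T.hom := H21Split.Corad.smooth_torus T hT
  haveI : QuasiCompact q.left := by
    haveI : QuasiCompact (q.left ≫ A.hom) := by rw [Over.w]; infer_instance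
    exact QuasiCompact.of_comp q.left A.hom
  haveI : LocallyOfFiniteType q.left := by
    haveI : LocallyOfFiniteType (q.left ≫ A.hom) := by rw [Over.w]; infer_instance
    exact locallyOfFiniteType_of_comp q.left A.hom
  haveI : IsNoetherianRing (CommRingCat.of k) := inferInstanceAs (IsNoetherianRing k)
  haveI : IsLocallyNoetherian A.left := LocallyOfFiniteType.isLocallyNoetherian A.hom
  haveI : LocallyOfFinitePresentation q.left := inferInstance
  haveI : Smooth q.left := H21Fix.smooth_of_kernel q i hker
  refine ⟨by rw [← Over.w q]; infer_instance, ?_⟩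
  haveI := irreducibleSpace_torus T hT
  haveI : GeometricallyIrreducible T.hom := H19Grp.geometricallyIrreducible_of_connectedSpace_group T
  exact H21Fix.connectedSpace_of_fibres q.left.isOpenMap q.left.surjective
    fun y => H21Fix.isPreconnected_fibre q i hker y

/-- kernels commute with base change -/
theorem isKernel_bc {S S' : Scheme.{u}} (e : S' ⟶ S) {N G H : Over S} [GrpObj N] [GrpObj G] [GrpObj H]
    (n : N ⟶ G) (f : G ⟶ H) (h : AlgGrp.IsKernel n f) :
    AlgGrp.IsKernel ((Over.pullback e).map n) ((Over.pullback e).map f) := by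
  let F := Over.pullback e
  refine (h.map F).of_iso (Iso.refl _) (Iso.refl _) (Functor.Monoidal.εIso F).symm (Iso.refl _)
    (by simp [F]) (toUnit_unique _ _) (by simp [F]) ?_
  show F.map η[H] ≫ 𝟙 _ = (Functor.Monoidal.εIso F).symm.hom ≫ Functor.LaxMonoidal.ε F ≫ F.map η[H]
  simp

/-- an extension of an abelian variety by a torus is smooth, connected and commutative -/
theorem props {G T A : Over (Spec (CommRingCat.of k))} [GrpObj G] [GrpObj T] [GrpObj A]
    [LocallyOfFiniteType G.hom] [QuasiCompact G.hom] (i : T ⟶ G) [IsMonHom i] (hT : Red.IsTorus T)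
    (q : G ⟶ A) [IsMonHom q] [Surjective q.left] [Flat q.left] (hker : AlgGrp.IsKernel i q)
    [IsProper A.hom] [Smooth A.hom] [ConnectedSpace A.left] :
    Smooth G.hom ∧ ConnectedSpace G.left ∧
      ∀ {X : Over (Spec (CommRingCat.of k))} (x y : X ⟶ G), x * y = y * x := by
  let K := AlgebraicClosure k
  let e : Spec (CommRingCat.of K) ⟶ Spec (CommRingCat.of k) := Spec.map (CommRingCat.ofHom (algebraMap k K))
  haveI : Flat e := (HasRingHomProperty.Spec_iff (P := @Flat)).2 (RingHom.flat_algebraMap_iff.2 inferInstance)
  haveI : Surjective e := ⟨fun z => ⟨IsLocalRing.closedPoint K, Subsingleton.elim _ _⟩⟩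
  let F : Over (Spec (CommRingCat.of k)) ⥤ Over (Spec (CommRingCat.of K)) := Over.pullback e
  letI : GrpObj (F.obj G) := Functor.grpObjObj
  letI : GrpObj (F.obj T) := Functor.grpObjObj
  letI : GrpObj (F.obj A) := Functor.grpObjObj
  haveI : IsMonHom (F.map q) := inferInstanceAs (IsMonHom ((Over.pullback e).map q))
  haveI : Surjective (F.map q).left :=
    MorphismProperty.of_isPullback (P := @Surjective) (H19Chev.isPullback_bc K q).flip ‹Surjective q.left›
  haveI : Flat (F.map q).left :=
    MorphismProperty.of_isPullback (P := @Flat) (H19Chev.isPullback_bc K q).flip ‹Flat q.left›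
  haveI : LocallyOfFiniteType (F.obj G).hom := inferInstanceAs (LocallyOfFiniteType (pullback.snd G.hom e))
  haveI : QuasiCompact (F.obj G).hom := inferInstanceAs (QuasiCompact (pullback.snd G.hom e))
  haveI : IsProper (F.obj A).hom := inferInstanceAs (IsProper (pullback.snd A.hom e))
  haveI : Smooth (F.obj A).hom := inferInstanceAs (Smooth (pullback.snd A.hom e))
  haveI : GeometricallyConnected A.hom :=
    H28NT.geometricallyConnected_of_section A.hom η[A].left (Over.w η[A])
  haveI : ConnectedSpace (F.obj A).left := inferInstanceAs (ConnectedSpace ↥(pullback A.hom e))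
  have hkerK : AlgGrp.IsKernel (F.map i) (F.map q) := isKernel_bc e i q hker
  obtain ⟨hsK, hcK⟩ := props_algClosed (F.map i) (H21Diag.isTorus_bc hT e) (F.map q) hkerK
  haveI := hcK
  haveI : Surjective (pullback.fst G.hom e) := MorphismProperty.pullback_fst (P := @Surjective) _ _ inferInstance
  haveI hsm : Smooth G.hom := by
    haveI : QuasiCompact e := inferInstance
    exact MorphismProperty.of_pullback_snd_of_descendsAlong (P := @Smooth)
      (Q := (@Surjective ⊓ @Flat ⊓ @QuasiCompact : MorphismProperty Scheme.{u})) (f := G.hom) (g := e)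
      ⟨⟨‹Surjective e›, ‹Flat e›⟩, ‹QuasiCompact e›⟩ hsK
  haveI : ConnectedSpace ↥(pullback G.hom e) := hcK
  haveI hconn : ConnectedSpace G.left :=
    (pullback.fst G.hom e).surjective.connectedSpace (pullback.fst G.hom e).continuous
  exact ⟨hsm, hconn, fun x y =>
    S17451.comm_of_extension G i (fun s t => H21Rank1.isTorus_comm hT s t) q hker x y⟩

end Groth.Agent.H19Chev.SemiAb
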