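import Groth.Agent.H19Chev.MinProperQuotient

/-!
# Quotients of smooth connected groups over an arbitrary field
-/

set_option autoImplicit false
set_option linter.style.haveILetI false
set_option backward.isDefEq.respectTransparency false
set_option maxHeartbeats 1000000
set_option synthInstance.maxHeartbeats 400000
universe u

open CategoryTheory CategoryTheory.Limits MonoidalCategory CartesianMonoidalCategory MonObj AlgebraicGeometry
open Groth.Agent Groth.Agent.H25AbCube Groth.Agent.H19Quot

noncomputable section

namespace Groth.Agent.H19Chev

attribute [local instance] Functor.grpObjObj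

variable {k : Type u} [Field k]

/-- A quotient of a smooth connected group is smooth and connected. -/
theorem smooth_connected_quotient {G Q : Over (Spec (CommRingCat.of k))} [GrpObj G] [GrpObj Q] [Smooth G.hom]
    [QuasiCompact G.hom] [ConnectedSpace G.left] [LocallyOfFiniteType Q.hom] (q : G ⟶ Q) [Flat q.left]
    [Surjective q.left] : Smooth Q.hom ∧ ConnectedSpace Q.left := by
  refine ⟨?_, q.left.surjective.connectedSpace q.left.continuous⟩
  let K := AlgebraicClosure k
  let F := GeomTate.bc k K
  haveI := GeomTate.flat_σ k K
  haveI := GeomTate.surjective_σ k K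
  haveI := geometricallyIntegral_grp G
  haveI : Smooth (F.obj G).hom := inferInstanceAs (Smooth (pullback.snd G.hom (GeomTate.σ k K)))
  haveI : GeometricallyIntegral (F.obj G).hom :=
    inferInstanceAs (GeometricallyIntegral (pullback.snd G.hom (GeomTate.σ k K)))
  haveI : IsNoetherianRing (CommRingCat.of K) := inferInstanceAs (IsNoetherianRing K)
  haveI : IsLocallyNoetherian (F.obj G).left := LocallyOfFiniteType.isLocallyNoetherian (F.obj G).hom
  haveI : AlgebraicGeometry.IsIntegral (F.obj G).left :=
    GeometricallyIntegral.isIntegral_of_subsingleton (F.obj G).hom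
  haveI : ConnectedSpace (F.obj G).left := inferInstance
  haveI : Flat (F.map q).left := MorphismProperty.overPullbackMap _ _ inferInstance
  haveI : Surjective (F.map q).left := MorphismProperty.overPullbackMap _ _ inferInstance
  haveI : LocallyOfFiniteType (F.obj Q).hom :=
    inferInstanceAs (LocallyOfFiniteType (pullback.snd Q.hom (GeomTate.σ k K)))
  obtain ⟨hQbs, -⟩ := smooth_connected_image (F.map q)
  haveI : MorphismProperty.DescendsAlong @Smooth H18Descent.fpqc.{u} :=
    inferInstanceAs (MorphismProperty.DescendsAlong @Smooth (@Surjective ⊓ @Flat ⊓ @QuasiCompact))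
  exact MorphismProperty.of_pullback_snd_of_descendsAlong (P := @Smooth) (Q := H18Descent.fpqc)
    (g := GeomTate.σ k K) ⟨⟨inferInstance, inferInstance⟩, inferInstance⟩ hQbs

end Groth.Agent.H19Chev
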