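import Groth.Agent.H19Chev.LargestMult
import Groth.Agent.H20Comod.Primitive
import Groth.Agent.H10Coh.StabBC.FieldLemmas

/-!
# Diagonalisable groups whose characters are rational up to powers are diagonalisable over the base field
-/

set_option autoImplicit false
set_option maxHeartbeats 1000000
set_option linter.style.haveILetI false
set_option backward.isDefEq.respectTransparency false

universe u v

open TensorProduct HopfRep Coalgebra

namespace Groth.Agent.H19Chev.SplitIsogeny

open Groth.Agent Groth.Agent.H20Comod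

noncomputable section

variable {k : Type u} [Field k] {K : Type u} [Field K] [Algebra k K] [IsAlgClosed K]
  {A : Type u} [CommRing A] [HopfAlgebra k A]

/-- a group-like element of finite order in a bialgebra domain over an algebraically closed field is trivial -/
theorem eq_one_of_pow_eq_one {C : Type*} [CommRing C] [IsDomain C] [Bialgebra K C] {g : C}
    {d : ℕ} (hd : 0 < d) (hpow : g ^ d = 1) (hg : CoalgebraStruct.counit (R := K) g = (1 : K)) : g = 1 := by
  classical
  have h0 : Polynomial.aeval g ((Polynomial.X ^ d - 1 : Polynomial K)) = 0 := by simp [hpow]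
  have hne : (Polynomial.X ^ d - 1 : Polynomial K) ≠ 0 := Polynomial.X_pow_sub_C_ne_zero hd 1
  rw [(IsAlgClosed.splits (Polynomial.X ^ d - 1 : Polynomial K)).eq_prod_roots] at h0
  simp only [map_mul, Polynomial.aeval_C, map_multiset_prod, Multiset.map_map, Function.comp_def, map_sub,
    Polynomial.aeval_X] at h0
  rcases mul_eq_zero.1 h0 with h | h
  · exact absurd ((algebraMap K C).injective (h.trans (map_zero _).symm))
      (Polynomial.leadingCoeff_ne_zero.2 hne)
  · obtain ⟨ζ, -, hζ⟩ := Multiset.mem_map.1 (Multiset.prod_eq_zero_iff.1 h)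
    have hgζ : g = algebraMap K C ζ := sub_eq_zero.1 hζ
    have : ζ = 1 := by rw [← hg, hgζ, Bialgebra.counit_algebraMap]
    rw [hgζ, this, map_one]

omit [IsAlgClosed K] in
/-- group-like elements descend along field extensions -/
theorem isGroupLike_of_map {L : Type u} [Field L] [Algebra k L] [Algebra L K] [IsScalarTower k L K] {x : L ⊗[k] A}
    (hx : IsGroupLikeElem K (Algebra.TensorProduct.map (IsScalarTower.toAlgHom k L K) (AlgHom.id k A) x)) :
    IsGroupLikeElem L x := by
  let ι : L →ₗ[k] K := (IsScalarTower.toAlgHom k L K).toLinearMap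
  let j := Algebra.TensorProduct.map (IsScalarTower.toAlgHom k L K) (AlgHom.id k A)
  let Φ : (L ⊗[k] A) ⊗[L] (L ⊗[k] A) → (K ⊗[k] A) ⊗[K] (K ⊗[k] A) := fun z =>
    AlgebraTensorModule.distribBaseChange k K A A
      (LinearMap.rTensor (A ⊗[k] A) ι ((AlgebraTensorModule.distribBaseChange k L A A).symm z))
  have hι : Function.Injective ι := (algebraMap L K).injective
  have hΦ : Function.Injective Φ := (LinearEquiv.injective _).comp
    ((Module.Flat.rTensor_preserves_injective_linearMap ι hι).comp (LinearEquiv.injective _))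
  have hΦadd : ∀ a b, Φ (a + b) = Φ a + Φ b := fun a b => by simp only [Φ, map_add]
  have hΦ0 : Φ 0 = 0 := by simp only [Φ, map_zero]
  have hmul : ∀ a b, Φ (a ⊗ₜ[L] b) = j a ⊗ₜ[K] j b := by
    intro a b
    induction a using TensorProduct.induction_on with
    | zero => rw [TensorProduct.zero_tmul, map_zero, TensorProduct.zero_tmul, hΦ0]
    | add a₁ a₂ h₁ h₂ => rw [TensorProduct.add_tmul, hΦadd, h₁, h₂, map_add, TensorProduct.add_tmul]
    | tmul c p =>
      induction b using TensorProduct.induction_on with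
      | zero => rw [TensorProduct.tmul_zero, map_zero, TensorProduct.tmul_zero, hΦ0]
      | add b₁ b₂ h₁ h₂ => rw [TensorProduct.tmul_add, hΦadd, h₁, h₂, map_add, TensorProduct.tmul_add]
      | tmul d q =>
        have e : (c ⊗ₜ[k] p) ⊗ₜ[L] (d ⊗ₜ[k] q) =
            AlgebraTensorModule.distribBaseChange k L A A ((c * d) ⊗ₜ[k] (p ⊗ₜ[k] q)) := by
          rw [AlgebraTensorModule.distribBaseChange_tmul]
          rw [show (c * d) ⊗ₜ[k] p = d • (c ⊗ₜ[k] p) by rw [TensorProduct.smul_tmul', smul_eq_mul, mul_comm],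
            show d ⊗ₜ[k] q = d • ((1 : L) ⊗ₜ[k] q) by rw [TensorProduct.smul_tmul', smul_eq_mul, mul_one],
            TensorProduct.smul_tmul]
        have e' : (ι c ⊗ₜ[k] p) ⊗ₜ[K] (ι d ⊗ₜ[k] q) =
            AlgebraTensorModule.distribBaseChange k K A A ((ι c * ι d) ⊗ₜ[k] (p ⊗ₜ[k] q)) := by
          rw [AlgebraTensorModule.distribBaseChange_tmul]
          rw [show (ι c * ι d) ⊗ₜ[k] p = ι d • (ι c ⊗ₜ[k] p) by rw [TensorProduct.smul_tmul', smul_eq_mul, mul_comm],
            show ι d ⊗ₜ[k] q = ι d • ((1 : K) ⊗ₜ[k] q) by rw [TensorProduct.smul_tmul', smul_eq_mul, mul_one],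
            TensorProduct.smul_tmul]
        show Φ ((c ⊗ₜ[k] p) ⊗ₜ[L] (d ⊗ₜ[k] q)) = (ι c ⊗ₜ[k] p) ⊗ₜ[K] (ι d ⊗ₜ[k] q)
        simp only [Φ, e, e', LinearEquiv.symm_apply_apply, LinearMap.rTensor_tmul]
        rw [show ι (c * d) = ι c * ι d from map_mul (IsScalarTower.toAlgHom k L K) c d]
  have hcom : ∀ a, Φ (CoalgebraStruct.comul (R := L) a) = CoalgebraStruct.comul (R := K) (j a) := by
    intro a
    induction a using TensorProduct.induction_on with
    | zero => rw [map_zero, map_zero, map_zero, hΦ0]
    | add a₁ a₂ h₁ h₂ => rw [map_add, hΦadd, h₁, h₂, map_add, map_add]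
    | tmul c p =>
      show Φ _ = CoalgebraStruct.comul (R := K) (ι c ⊗ₜ[k] p)
      simp only [Φ, comul_tmul_eq_distrib, LinearEquiv.symm_apply_apply, LinearMap.rTensor_tmul]
  have hcou : ∀ a, algebraMap L K (CoalgebraStruct.counit (R := L) a) = CoalgebraStruct.counit (R := K) (j a) := by
    intro a
    induction a using TensorProduct.induction_on with
    | zero => simp
    | add a₁ a₂ h₁ h₂ => simp only [map_add, h₁, h₂]
    | tmul c p =>
      show _ = CoalgebraStruct.counit (R := K) (ι c ⊗ₜ[k] p)
      simp only [TensorProduct.counit_tmul, CommSemiring.counit_apply, Algebra.smul_def, map_mul]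
      rw [← IsScalarTower.algebraMap_apply k L K]
      rfl
  refine ⟨(algebraMap L K).injective ?_, hΦ ?_⟩
  · rw [hcou, hx.counit_eq_one, map_one]
  · rw [hcom, hmul]
    exact hx.comul_eq_tmul_self

/-- If every character over the algebraic closure has a rational power, the group is diagonalisable. -/
theorem isDiagonalizable_of_pow_rational [IsDomain (K ⊗[k] A)] [Coalgebra.IsCocomm k A]
    (hD : IsDiagonalizable K (K ⊗[k] A))
    (hpow : ∀ g : K ⊗[k] A, IsGroupLikeElem K g → ∃ (d : ℕ) (a : A), 0 < d ∧ g ^ d = (1 : K) ⊗ₜ[k] a) :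
    IsDiagonalizable k A := by
  classical
  let L := perfectClosure k K
  let j := Algebra.TensorProduct.map (IsScalarTower.toAlgHom k L K) (AlgHom.id k A)
  let b := Module.Basis.ofVectorSpace k A
  let bK := Algebra.TensorProduct.basis K b
  have hfix : ∀ g : K ⊗[k] A, IsGroupLikeElem K g → ∀ σ : K ≃ₐ[k] K,
      Algebra.TensorProduct.map (σ : K →ₐ[k] K) (AlgHom.id k A) g = g := by
    intro g hg σ
    obtain ⟨d, a, hd, hga⟩ := hpow g hg
    let s := Algebra.TensorProduct.map (σ : K →ₐ[k] K) (AlgHom.id k A)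
    have hcou : ∀ z, CoalgebraStruct.counit (R := K) (s z) = σ (CoalgebraStruct.counit (R := K) z) := by
      intro z
      induction z using TensorProduct.induction_on with
      | zero => simp
      | add z₁ z₂ h₁ h₂ => simp only [map_add, h₁, h₂]
      | tmul c p =>
        simp only [s, Algebra.TensorProduct.map_tmul, AlgHom.id_apply, TensorProduct.counit_tmul,
          CommSemiring.counit_apply, Algebra.smul_def, map_mul, AlgEquiv.commutes, AlgEquiv.coe_toAlgHom]
    have hu : IsUnit g := hg.isUnit
    obtain ⟨v, hv⟩ := hu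
    have h1 : (s g * ↑v⁻¹) ^ d = 1 := by
      rw [mul_pow, ← map_pow, hga]
      have : s ((1 : K) ⊗ₜ[k] a) = (1 : K) ⊗ₜ[k] a := by simp [s]
      rw [this, ← hga, ← hv, ← mul_pow, Units.mul_inv, one_pow]
    have h2 : CoalgebraStruct.counit (R := K) (s g * ↑v⁻¹) = (1 : K) := by
      rw [Bialgebra.counit_mul, hcou, hg.counit_eq_one, map_one, one_mul]
      have h3 : CoalgebraStruct.counit (R := K) ((v : K ⊗[k] A) * ↑v⁻¹) = (1 : K) := by
        rw [Units.mul_inv, Bialgebra.counit_one]
      rwa [Bialgebra.counit_mul, hv, hg.counit_eq_one, one_mul] at h3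
    have h4 := eq_one_of_pow_eq_one hd h1 h2
    have h5 : s g * ↑v⁻¹ * (v : K ⊗[k] A) = (v : K ⊗[k] A) := by rw [h4, one_mul]
    rw [Units.inv_mul_cancel_right, hv] at h5
    exact h5
  have hdesc : ∀ g : K ⊗[k] A, IsGroupLikeElem K g → ∃ x : L ⊗[k] A, IsGroupLikeElem L x ∧ j x = g := by
    intro g hg
    have hc : ∀ i, bK.repr g i ∈ L := fun i => by
      refine H10Coh.StabBC.mem_perfectClosure_of_fixed fun σ => ?_
      have hs : ∀ z : K ⊗[k] A,
          bK.repr (Algebra.TensorProduct.map (σ : K →ₐ[k] K) (AlgHom.id k A) z) i = σ (bK.repr z i) := by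
        intro z
        induction z using TensorProduct.induction_on with
        | zero => simp
        | add z₁ z₂ h₁ h₂ => simp only [map_add, Finsupp.add_apply, h₁, h₂]
        | tmul c p =>
          simp [bK, Algebra.TensorProduct.basis_repr_tmul, Finsupp.mapRange_apply]
      have := hs g
      rw [hfix g hg σ] at this
      exact this.symm
    refine ⟨∑ i ∈ (bK.repr g).support, (⟨bK.repr g i, hc i⟩ : L) ⊗ₜ[k] b i, ?_, ?_⟩
    swap
    · rw [map_sum]
      conv_rhs => rw [← bK.linearCombination_repr g, Finsupp.linearCombination_apply, Finsupp.sum]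
      refine Finset.sum_congr rfl fun i _ => ?_
      simp [j, bK, TensorProduct.smul_tmul', IsScalarTower.toAlgHom_apply]
    refine isGroupLike_of_map (K := K) ?_
    convert hg
    rw [map_sum]
    conv_rhs => rw [← bK.linearCombination_repr g, Finsupp.linearCombination_apply, Finsupp.sum]
    refine Finset.sum_congr rfl fun i _ => ?_
    simp [bK, TensorProduct.smul_tmul', IsScalarTower.toAlgHom_apply]
  refine span_groupLike_of_purelyInseparable (K := L) (eq_top_iff.2 fun x _ => ?_)
  let S := Submodule.span L {x : L ⊗[k] A | IsGroupLikeElem L x}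
  by_contra hx
  obtain ⟨f, hfx, hfS⟩ := Submodule.exists_dual_map_eq_bot_of_notMem (p := S) hx inferInstance
  let F : K ⊗[k] A →ₗ[K] K := bK.constr K fun i => algebraMap L K (f ((1 : L) ⊗ₜ[k] b i))
  have hF : ∀ y, F (j y) = algebraMap L K (f y) := by
    intro y
    induction y using TensorProduct.induction_on with
    | zero => simp
    | add y₁ y₂ h₁ h₂ => simp only [map_add, h₁, h₂]
    | tmul c p =>
      have hp : (c ⊗ₜ[k] p : L ⊗[k] A) = c • ((1 : L) ⊗ₜ[k] p) := by rw [TensorProduct.smul_tmul', smul_eq_mul, mul_one]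
      have hjp : j (c ⊗ₜ[k] p) = algebraMap L K c • ((1 : K) ⊗ₜ[k] p) := by
        simp [j, TensorProduct.smul_tmul', IsScalarTower.toAlgHom_apply]
      rw [hjp, hp, map_smul, map_smul, smul_eq_mul, smul_eq_mul, map_mul]
      congr 1
      have h : (F.restrictScalars k ∘ₗ TensorProduct.mk k K A 1) =
          ((IsScalarTower.toAlgHom k L K).toLinearMap ∘ₗ f.restrictScalars k ∘ₗ TensorProduct.mk k L A 1) := by
        refine b.ext fun i => ?_
        simp only [LinearMap.comp_apply, TensorProduct.mk_apply, LinearMap.coe_restrictScalars]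
        rw [show (1 : K) ⊗ₜ[k] b i = bK i by simp [bK]]
        simp [F, IsScalarTower.toAlgHom_apply]
      exact LinearMap.congr_fun h p
  have hF0 : F = 0 := by
    refine LinearMap.ext_on hD fun g hg => ?_
    obtain ⟨y, hy, hyg⟩ := hdesc g hg
    have hfy : f y = 0 := by
      have := Submodule.mem_map_of_mem (f := f) (Submodule.subset_span hy : y ∈ S)
      rwa [hfS, Submodule.mem_bot] at this
    rw [← hyg, hF, hfy, map_zero, LinearMap.zero_apply]
  exact hfx ((algebraMap L K).injective (by rw [← hF, hF0, LinearMap.zero_apply, map_zero]))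

end

end Groth.Agent.H19Chev.SplitIsogeny
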