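import Groth.Agent.H19Chev.StructureBasic
import Groth.Agent.H19Chev.RationalCurve
import Groth.Agent.H19Grp.IdentityComponent
import Groth.Agent.H19Grp.GroupCI
import Groth.Agent.H19Grp.QuotientDesc
import Mathlib.AlgebraicGeometry.Morphisms.FlatMono

/-!
# The structure theorem of Chevalley over an algebraically closed field
-/

set_option autoImplicit false
set_option linter.style.haveILetI false
set_option backward.isDefEq.respectTransparency false
set_option maxHeartbeats 1000000
set_option synthInstance.maxHeartbeats 100000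
universe u

open CategoryTheory CategoryTheory.Limits MonoidalCategory CartesianMonoidalCategory MonObj AlgebraicGeometry
open Groth.Agent Groth.Agent.H25AbCube Groth.Agent.H19Quot

noncomputable section

namespace Groth.Agent.H19Chev

variable {k : Type u} [Field k]

local notation "Pts" X => 𝟙_ (Over (Spec (CommRingCat.of k))) ⟶ X

theorem isReduced_smooth {X : Over (Spec (CommRingCat.of k))} [Smooth X.hom] : IsReduced X.left := by
  haveI := H19Grp.geometricallyReduced_of_smooth X.hom
  haveI : IsNoetherianRing (CommRingCat.of k) := inferInstanceAs (IsNoetherianRing k)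
  haveI : IsLocallyNoetherian X.left := LocallyOfFiniteType.isLocallyNoetherian X.hom
  haveI : ∀ x, _root_.IsReduced (X.left.presheaf.stalk x) := fun x => by
    haveI := (H29Ref.isNormalScheme_of_regular (H19Grp.isRegularLocalRing_stalk_of_smooth X.hom) x).1
    infer_instance
  exact isReduced_of_isReduced_stalk _

/-- Flat surjective images of smooth connected groups over a perfect field are smooth and connected. -/
theorem smooth_connected_image [PerfectField k] {G Q : Over (Spec (CommRingCat.of k))} [GrpObj Q] [Smooth G.hom]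
    [ConnectedSpace G.left] [LocallyOfFiniteType Q.hom] (q : G ⟶ Q) [Flat q.left] [Surjective q.left] :
    Smooth Q.hom ∧ ConnectedSpace Q.left := by
  haveI : IsReduced G.left := isReduced_smooth
  haveI : IsReduced Q.left := H19Grp.isReduced_of_flat_surjective q.left
  exact ⟨H19Grp.smooth_of_isReduced_perfect Q, q.left.surjective.connectedSpace q.left.continuous⟩

variable [IsAlgClosed k]

/-- The structure theorem for commutative groups. -/
theorem exists_affine_comm (G : Over (Spec (CommRingCat.of k))) [GrpObj G] [IsCommMonObj G] [Smooth G.hom]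
    [QuasiCompact G.hom] [ConnectedSpace G.left] :
    ∃ (L : Over (Spec (CommRingCat.of k))) (_ : GrpObj L) (l : L ⟶ G) (Q : Over (Spec (CommRingCat.of k)))
      (_ : GrpObj Q) (q : G ⟶ Q), IsMonHom l ∧ IsClosedImmersion l.left ∧ IsAffine L.left ∧ Smooth L.hom ∧
        ConnectedSpace L.left ∧ IsMonHom q ∧ Flat q.left ∧ Surjective q.left ∧ LocallyOfFinitePresentation q.left ∧
        AlgGrp.IsKernel l q ∧ IsProper Q.hom ∧ Smooth Q.hom ∧ ConnectedSpace Q.left := by
  haveI : JacobsonSpace G.left := LocallyOfFiniteType.jacobsonSpace G.hom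
  haveI : IsSeparated G.hom := H19Grp.AffineQuotient.isSeparated_of_grp G
  let P : Set G.left → Prop := fun Z => ∃ (L : Over (Spec (CommRingCat.of k))) (_ : GrpObj L) (l : L ⟶ G),
    IsMonHom l ∧ IsClosedImmersion l.left ∧ IsAffine L.left ∧ Smooth L.hom ∧ ConnectedSpace L.left ∧
      Set.range l.left = Z
  have hP0 : ∃ Z, P Z := by
    let U := 𝟙_ (Over (Spec (CommRingCat.of k)))
    haveI : IsClosedImmersion η[G].left := H19Grp.AffineQuotient.isClosedImmersion_unit G
    exact ⟨_, U, inferInstance, η[G], inferInstance, inferInstance, inferInstanceAs (IsAffine (Spec (CommRingCat.of k))),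
      inferInstanceAs (Smooth (𝟙 _)), inferInstanceAs (ConnectedSpace (Spec (CommRingCat.of k))), rfl⟩
  obtain ⟨Z, hZ, hmax⟩ : ∃ Z, P Z ∧ ∀ Z', P Z' → Z ⊆ Z' → Z' = Z := by
    haveI : Nonempty G.left := ⟨Stab.pnt (1 : Pts G)⟩
    obtain ⟨z₀, -, hdim⟩ := H22Alg.FibreCount.exists_dim_eq G.hom
    obtain ⟨d, hd⟩ := H22Alg.FibreCount.cdim_natCast G.hom z₀
    let S : Set ℕ := {l | ∃ C : TopologicalSpace.IrreducibleCloseds G.left, P C ∧ Order.height C = l}
    have hh : ∀ C : TopologicalSpace.IrreducibleCloseds G.left, ∃ l : ℕ, l ≤ d ∧ Order.height C = l := fun C => by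
      have h := (Order.height_le_krullDim C).trans_eq ((show Order.krullDim (TopologicalSpace.IrreducibleCloseds
        G.left) = topologicalKrullDim G.left from rfl).trans (hdim.trans hd))
      obtain ⟨l, hl⟩ : ∃ l : ℕ, Order.height C = l := by
        refine ⟨(Order.height C).toNat, (ENat.coe_toNat fun htop => ?_).symm⟩
        rw [htop] at h
        exact (ENat.coe_lt_top d).not_ge (WithBot.coe_le_coe.1 h)
      rw [hl] at h
      exact ⟨l, by exact_mod_cast h, hl⟩
    have hic : ∀ Z, P Z → ∃ C : TopologicalSpace.IrreducibleCloseds G.left, (C : Set G.left) = Z := by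
      rintro _ ⟨L, gL, l, hl, hlc, hLa, hLs, hLc, rfl⟩
      haveI := hlc; haveI := hLs; haveI := hLc
      haveI : QuasiCompact L.hom := by rw [← Over.w l]; infer_instance
      haveI := geometricallyIntegral_grp L
      haveI : IsIntegral L.left := GeometricallyIntegral.isIntegral_of_subsingleton L.hom
      exact ⟨⟨_, Set.image_univ ▸ (IrreducibleSpace.isIrreducible_univ L.left).image l.left l.left.continuous.continuousOn,
        l.left.isClosedEmbedding.isClosed_range⟩, rfl⟩
    obtain ⟨Z₀, hZ₀⟩ := hP0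
    obtain ⟨C₀, hC₀⟩ := hic Z₀ hZ₀
    have hS : S.Nonempty := by
      obtain ⟨l, -, hl⟩ := hh C₀
      exact ⟨l, C₀, hC₀ ▸ hZ₀, hl⟩
    have hSb : BddAbove S := ⟨d, by
      rintro l ⟨C, -, hC⟩
      obtain ⟨l', hl', hl''⟩ := hh C
      rw [hC] at hl''
      exact (show l = l' by exact_mod_cast hl'') ▸ hl'⟩
    obtain ⟨C, hC, hCl⟩ := Nat.sSup_mem hS hSb
    refine ⟨C, hC, fun Z' hZ' hle => ?_⟩
    obtain ⟨C', rfl⟩ := hic Z' hZ'
    by_contra hne
    obtain ⟨l', hl', hl''⟩ := hh C'
    have hlt := Order.height_strictMono (lt_of_le_of_ne (show C ≤ C' from hle) fun e => hne (e ▸ rfl))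
      (by rw [hCl]; exact ENat.coe_lt_top _)
    rw [hCl, hl''] at hlt
    exact absurd (le_csSup hSb ⟨C', hZ', hl''⟩) (not_le.2 (by exact_mod_cast hlt))
  obtain ⟨L, gL, l, hl, hlc, hLa, hLs, hLc, rfl⟩ := id hZ
  haveI := hl; haveI := hlc; haveI := hLa; haveI := hLs; haveI := hLc
  obtain ⟨Q, gQ, q, hq, hQc, hQft, hqf, hqs, hqp, hker⟩ := AbelianCat.exists_cokernel l ⟨inferInstance, inferInstance⟩
  haveI := hq; haveI := hQc; haveI := hQft.lft; haveI := hQft.qc; haveI := hqf; haveI := hqs; haveI := hqp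
  obtain ⟨hQs, hQn⟩ := smooth_connected_image q
  refine ⟨L, gL, l, Q, gQ, q, hl, hlc, hLa, hLs, hLc, hq, hqf, hqs, hqp, hker, ?_, hQs, hQn⟩
  by_contra hproper
  obtain ⟨V, π, hV, hπ⟩ := exists_rational_curve (G := Q) hproper
  haveI : JacobsonSpace (cell V).left := LocallyOfFiniteType.jacobsonSpace (cell V).hom
  haveI : Nonempty (cell V).left := ⟨(Classical.arbitrary V : (V : Scheme.{u}))⟩
  obtain ⟨v, -, hv⟩ := nonempty_inter_closedPoints (X := (cell V).left) (Z := Set.univ) Set.univ_nonempty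
    isClosed_univ.isLocallyClosed
  obtain ⟨v₀, rfl⟩ := Stab.exists_pnt hv
  let π₁ : cell V ⟶ Q := π * (toUnit (cell V) ≫ (v₀ ≫ π)⁻¹)
  have hπ₁0 : v₀ ≫ π₁ = 1 := by rw [MonObj.comp_mul, pts_comp_toUnit, mul_inv_cancel]
  obtain ⟨B, gB, i, hi, hic, hBint, hBs, hBa, π', hπ'⟩ := exists_affine_subgroup V π₁ v₀ hπ₁0
  haveI := hi; haveI := hic; haveI := hBs; haveI := hBa
  haveI : ConnectedSpace B.left := inferInstance
  obtain ⟨E, gE, jE, q', hjE, hq', hjEc, sq⟩ := H19Quot.exists_preimageGroup q i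
  haveI := hjE; haveI := hq'; haveI := hjEc
  haveI : Mono i := Over.mono_of_mono_left _
  haveI : Mono jE := Over.mono_of_mono_left _
  obtain ⟨iE, hiE, hiEj, hkE⟩ := exists_kernel_preimage sq hker
  haveI := hiE
  haveI : Flat q'.left := MorphismProperty.of_isPullback (sq.map (Over.forget _)).flip hqf
  haveI : Surjective q'.left := MorphismProperty.of_isPullback (sq.map (Over.forget _)).flip hqs
  haveI : LocallyOfFinitePresentation q'.left := MorphismProperty.of_isPullback (sq.map (Over.forget _)).flip hqp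
  obtain ⟨hEs, hEc⟩ := smooth_connected_extension iE q' hkE
  have hEa := isAffine_extension iE q' hkE
  have hrange : Set.range jE.left = Set.range l.left := hmax _ ⟨E, gE, jE, hjE, hjEc, hEa, hEs, hEc, rfl⟩ (by
    rintro _ ⟨x, rfl⟩
    exact ⟨iE.left x, by rw [← hiEj, Over.comp_left, Scheme.Hom.comp_apply]⟩)
  -- the subgroup is trivial
  have hB : ∀ b : Pts B, b ≫ i = 1 := fun b => by
    obtain ⟨g, hg⟩ := exists_pt_lift q (b ≫ i)
    obtain ⟨e, -, he⟩ := sq.exists_lift b g hg.symm
    haveI : QuasiCompact L.hom := inferInstance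
    haveI : LocallyOfFiniteType L.hom := by rw [← Over.w l]; infer_instance
    obtain ⟨x, hx⟩ := hrange.le ⟨Stab.pnt e, rfl⟩
    have hxc : IsClosed ({x} : Set L.left) := by
      rw [show ({x} : Set L.left) = l.left ⁻¹' {Stab.pnt g} from Set.ext fun y =>
        ⟨fun hy => by rw [Set.mem_singleton_iff.1 hy]; exact hx.trans (congrArg Stab.pnt he),
          fun hy => l.left.isClosedEmbedding.injective ((show l.left y = _ from hy).trans
            (hx.trans (congrArg Stab.pnt he)).symm)⟩]
      exact (Stab.pnt_isClosed g).preimage l.left.continuous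
    obtain ⟨a, rfl⟩ := Stab.exists_pnt hxc
    have : a ≫ l = g := Stab.pnt_injective (hx.trans (congrArg Stab.pnt he))
    rw [← hg, ← this, Category.assoc, H19Grp.kernel_comp_eq_one hker, MonObj.comp_one]
  refine hπ (v₀ ≫ π) ?_
  haveI : IsSeparated Q.hom := H19Grp.AffineQuotient.isSeparated_of_grp Q
  haveI : Nonempty V := hV
  haveI := geometricallyIntegral_cell V
  haveI : IsIntegral (cell V).left := GeometricallyIntegral.isIntegral_of_subsingleton (cell V).hom
  refine ext_of_points _ _ fun s => ?_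
  have h1 : s ≫ π₁ = 1 := by rw [← hπ', ← Category.assoc]; exact hB _
  rw [MonObj.comp_mul, pts_comp_toUnit, mul_inv_eq_one] at h1
  rw [pts_comp_toUnit]
  exact h1

variable {G : Over (Spec (CommRingCat.of k))} [GrpObj G]

/-- Finitely many translates of the identity component cover a group of finite type. -/
theorem finite_classes {N : Over (Spec (CommRingCat.of k))} [GrpObj N] [LocallyOfFiniteType N.hom] [CompactSpace N.left]
    {L : Over (Spec (CommRingCat.of k))} (j : L ⟶ N) [IsOpenImmersion j.left] [LocallyOfFiniteType L.hom]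
    (h1 : Stab.pnt (1 : Pts N) ∈ Set.range j.left) :
    ∃ s : Finset (Pts N), ∀ x : Pts N, ∃ g ∈ s, ∃ a : Pts L, a ≫ j = x * g⁻¹ := by
  classical
  haveI : JacobsonSpace N.left := LocallyOfFiniteType.jacobsonSpace N.hom
  let U : (Pts N) → Set N.left := fun g => (𝟙 N * (toUnit N ≫ g⁻¹)).left ⁻¹' Set.range j.left
  have hpt : ∀ x g : Pts N, x ≫ (𝟙 N * (toUnit N ≫ g⁻¹)) = x * g⁻¹ := fun x g => by
    rw [MonObj.comp_mul, Category.comp_id, pts_comp_toUnit]
  have hopen : ∀ g, IsOpen (U g) := fun g =>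
    j.left.isOpenEmbedding.isOpen_range.preimage (𝟙 N * (toUnit N ≫ g⁻¹)).left.continuous
  obtain ⟨s, hs⟩ := isCompact_univ.elim_finite_subcover U hopen fun y _ => by
    obtain ⟨z, hz, hzc⟩ := (isClosed_closure (s := ({y} : Set N.left))).exists_closed_singleton
      ⟨y, subset_closure rfl⟩
    obtain ⟨g, rfl⟩ := Stab.exists_pnt hzc
    refine Set.mem_iUnion.2 ⟨g, (specializes_iff_mem_closure.2 hz).mem_open (hopen g) ?_⟩
    show (𝟙 N * (toUnit N ≫ g⁻¹)).left (g.left _) ∈ Set.range j.left
    rw [← Scheme.Hom.comp_apply, ← Over.comp_left, hpt, mul_inv_cancel]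
    exact h1
  refine ⟨s, fun x => ?_⟩
  obtain ⟨g, hg, hxg⟩ : ∃ g ∈ s, Stab.pnt x ∈ U g := by
    simpa using hs (Set.mem_univ (Stab.pnt x))
  have hmem : Stab.pnt (x * g⁻¹) ∈ Set.range j.left := by
    rw [← hpt]
    exact hxg
  obtain ⟨y, hy⟩ := hmem
  have hyc : IsClosed ({y} : Set L.left) := by
    rw [show ({y} : Set L.left) = j.left ⁻¹' {Stab.pnt (x * g⁻¹)} from Set.ext fun z =>
      ⟨fun hz => by rw [Set.mem_singleton_iff.1 hz]; exact hy,
        fun hz => j.left.isOpenEmbedding.injective ((show j.left z = _ from hz).trans hy.symm)⟩]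
    exact (Stab.pnt_isClosed _).preimage j.left.continuous
  obtain ⟨a, rfl⟩ := Stab.exists_pnt hyc
  exact ⟨g, hg, a, Stab.pnt_injective hy⟩

/-- The structure theorem of Chevalley over an algebraically closed field. -/
theorem exists_chevalley (G : Over (Spec (CommRingCat.of k))) [GrpObj G] [Smooth G.hom] [QuasiCompact G.hom]
    [ConnectedSpace G.left] :
    ∃ (L : Over (Spec (CommRingCat.of k))) (_ : GrpObj L) (l : L ⟶ G) (Q : Over (Spec (CommRingCat.of k)))
      (_ : GrpObj Q) (q : G ⟶ Q), IsMonHom l ∧ IsClosedImmersion l.left ∧ IsAffine L.left ∧ Smooth L.hom ∧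
        ConnectedSpace L.left ∧ AlgGrp.IsNormalHom l ∧ IsMonHom q ∧ Surjective q.left ∧ Flat q.left ∧
        LocallyOfFinitePresentation q.left ∧ AlgGrp.IsKernel l q ∧ IsProper Q.hom ∧ Smooth Q.hom ∧
        ConnectedSpace Q.left := by
  haveI : IsSeparated G.hom := H19Grp.AffineQuotient.isSeparated_of_grp G
  -- the anti-affine part
  let M := H19Grp.AffinizationKernel.N G
  let m := H19Grp.AffinizationKernel.incl G
  obtain ⟨gM, hm⟩ := H19Grp.AffinizationKernel.exists_grpObj G
  obtain ⟨hMiso, hMs, hMc⟩ := H19Grp.AffinizationKernel.smooth_and_connected G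
  haveI := hm; haveI := hMiso; haveI := hMs; haveI := hMc
  haveI : QuasiCompact M.hom := by rw [← Over.w m]; infer_instance
  haveI : IsCommMonObj M := H19Grp.AntiAffineGroup.isCommMonObj M
  obtain ⟨L₀, gL₀, l₀, QM, gQM, qM, hl₀, hl₀c, hL₀a, hL₀s, hL₀n, hqM, hqMf, hqMs, hqMp, hkM, hQMp, hQMs, hQMn⟩ :=
    exists_affine_comm M
  haveI := hl₀; haveI := hl₀c; haveI := hL₀a; haveI := hL₀s; haveI := hL₀n
  haveI := hqM; haveI := hqMf; haveI := hqMs; haveI := hqMp
  let j₀ : L₀ ⟶ G := l₀ ≫ m
  haveI : IsClosedImmersion j₀.left := by rw [Over.comp_left]; infer_instance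
  have hN₀ : AlgGrp.IsNormalHom j₀ := fun T g x => ⟨x, by
    rw [show x ≫ j₀ = (x ≫ l₀) ≫ m from (Category.assoc _ _ _).symm,
      ← H19Grp.AntiAffineGroup.central m (x ≫ l₀) g, mul_inv_cancel_right]⟩
  obtain ⟨G', gG', q₁, hq₁, hG'lft, hG'qc, hq₁f, hq₁s, hq₁p, hk₁⟩ := H19Quot.exists_quotientGroup j₀ hN₀
  haveI := hq₁; haveI := hG'lft; haveI := hG'qc; haveI := hq₁f; haveI := hq₁s; haveI := hq₁p
  obtain ⟨hG's, hG'c⟩ := smooth_connected_image q₁
  haveI := hG's; haveI := hG'c
  haveI : IsSeparated G'.hom := H19Grp.AffineQuotient.isSeparated_of_grp G'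
  -- its image
  obtain ⟨C, gC, p, iC, hp, hiC, hpi, hpf, hps, hpp, hiCc⟩ :=
    AbelianCat.exists_image (m ≫ q₁) ⟨inferInstance, inferInstance⟩ ⟨inferInstance, inferInstance⟩
  haveI := hp; haveI := hiC; haveI := hpf; haveI := hps; haveI := hpp; haveI := hiCc
  haveI : Mono iC := Over.mono_of_mono_left _
  haveI : LocallyOfFiniteType C.hom := by rw [← Over.w iC]; infer_instance
  haveI : QuasiCompact C.hom := by rw [← Over.w iC]; infer_instance
  haveI : IsSeparated C.hom := H19Grp.AffineQuotient.isSeparated_of_grp C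
  obtain ⟨hCs, hCc⟩ := smooth_connected_image p
  haveI := hCs; haveI := hCc
  haveI : IsProper C.hom := by
    have hp0 : l₀ ≫ p = 1 := by
      rw [← cancel_mono iC, Category.assoc, hpi, MonObj.one_comp, ← Category.assoc]
      exact H19Grp.kernel_comp_eq_one hk₁
    obtain ⟨ψ, hψ, -⟩ := H19Grp.QuotientDesc.existsUnique_desc qM p fun T a b hab => by
      obtain ⟨x, hx⟩ := H19Grp.kernel_lift hkM (a * b⁻¹) (by
        rw [MonObj.mul_comp, GrpObj.inv_comp, hab, mul_inv_cancel])
      have h1 : (a * b⁻¹) ≫ p = 1 := by rw [← hx, Category.assoc, hp0, MonObj.comp_one]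
      rwa [MonObj.mul_comp, GrpObj.inv_comp, mul_inv_eq_one] at h1
    haveI : Surjective ψ.left := by
      haveI : Surjective (qM.left ≫ ψ.left) := by rw [← Over.comp_left, hψ]; infer_instance
      exact Surjective.of_comp qM.left ψ.left
    haveI : UniversallyClosed (ψ.left ≫ C.hom) := by rw [Over.w ψ]; infer_instance
    haveI : UniversallyClosed C.hom := UniversallyClosed.of_comp_surjective ψ.left C.hom
    exact {}
  haveI : IsCommMonObj C := by
    haveI := geometricallyIntegral_av C
    exact isCommMonObj_of_av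
  -- the quotient by it is affine
  have hNC : AlgGrp.IsNormalHom iC := fun T g x => ⟨x, by rw [← central_av iC x g, mul_inv_cancel_right]⟩
  obtain ⟨H, gH, q₂, hq₂, hHlft, hHqc, hq₂f, hq₂s, hq₂p, hk₂⟩ := H19Quot.exists_quotientGroup iC hNC
  haveI := hq₂; haveI := hHlft; haveI := hHqc; haveI := hq₂f; haveI := hq₂s; haveI := hq₂p
  haveI : IsAffine H.left := by
    haveI : Flat (q₁ ≫ q₂).left := by rw [Over.comp_left]; infer_instance
    haveI : Surjective (q₁ ≫ q₂).left := by rw [Over.comp_left]; infer_instance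
    refine H19Quot.isAffine_of_kill_incl (q₁ ≫ q₂) ?_
    rw [← Category.assoc, show H19Grp.AffinizationKernel.incl G ≫ q₁ = p ≫ iC from hpi.symm, Category.assoc,
      H19Grp.kernel_comp_eq_one hk₂, MonObj.comp_one]
  -- the projection
  obtain ⟨φ₀, n, hn, hφ₀⟩ := exists_projection iC
  let φ : G' ⟶ C := φ₀ * (toUnit G' ≫ (η[G'] ≫ φ₀)⁻¹)
  have hφ1 : η[G'] ≫ φ = η[C] := by
    rw [MonObj.comp_mul, pts_comp_toUnit, mul_inv_cancel, Hom.one_def, toUnit_unique (toUnit _) (𝟙 _),
      Category.id_comp]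
  haveI : IsMonHom φ := isMonHom_to_av φ hφ1
  have hφC : ∀ a : Pts C, (a ≫ iC) ≫ φ = a ^ n := fun a => by
    have h := hφ₀ (𝟙_ _) (1 : Pts G') a
    rw [_root_.one_mul] at h
    rw [MonObj.comp_mul, pts_comp_toUnit, h,
      show (1 : Pts G') = η[G'] by rw [Hom.one_def, toUnit_unique (toUnit _) (𝟙 _), Category.id_comp],
      mul_comm (η[G'] ≫ φ₀), mul_inv_cancel_right]
  -- its reduced kernel
  obtain ⟨N₀, gN₀, n₀, hn₀, hn₀c, hk₀⟩ := H19Grp.AffineQuotient.exists_kernel φ
  haveI := hn₀; haveI := hn₀c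
  haveI : LocallyOfFiniteType N₀.hom := by rw [← Over.w n₀]; infer_instance
  obtain ⟨gN, hnr⟩ := H19Grp.GroupCI.exists_grpObj_reduced N₀
  let N : Over (Spec (CommRingCat.of k)) := Over.mk (N₀.left.nilradical.subschemeι ≫ N₀.hom)
  let nr : N ⟶ N₀ := Over.homMk N₀.left.nilradical.subschemeι rfl
  haveI : IsMonHom nr := hnr
  haveI : IsClosedImmersion nr.left := inferInstanceAs (IsClosedImmersion N₀.left.nilradical.subschemeι)
  haveI : IsReduced N.left := inferInstanceAs (IsReduced N₀.left.nilradical.subscheme)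
  haveI : Surjective nr.left := ⟨fun x => by
    have : Set.range N₀.left.nilradical.subschemeι = Set.univ := by
      rw [Scheme.IdealSheafData.range_subschemeι, Scheme.support_nilradical]
      rfl
    exact this.ge trivial⟩
  let jN : N ⟶ G' := nr ≫ n₀
  haveI : IsClosedImmersion jN.left := by rw [Over.comp_left]; infer_instance
  haveI : LocallyOfFiniteType N.hom := by rw [← Over.w jN]; infer_instance
  haveI : QuasiCompact N.hom := by rw [← Over.w jN]; infer_instance
  haveI : Smooth N.hom := H19Grp.smooth_of_isReduced_perfect N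
  haveI : Mono nr := Over.mono_of_mono_left _
  haveI : Mono jN := Over.mono_of_mono_left _
  have hjN : jN ≫ φ = 1 := by
    rw [Category.assoc, H19Grp.kernel_comp_eq_one hk₀, MonObj.comp_one]
  have hNlift : ∀ {T : Over (Spec (CommRingCat.of k))} [IsReduced T.left] (x : T ⟶ G'), x ≫ φ = 1 →
      ∃ y : T ⟶ N, y ≫ jN = x := fun {T} _ x hx => by
    obtain ⟨y₀, hy₀⟩ := H19Grp.kernel_lift hk₀ x hx
    obtain ⟨y, hy⟩ := H17.exists_lift_of_range_subset y₀.left nr.left (fun z _ => nr.left.surjective z)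
    exact ⟨Over.homMk y (by rw [← Over.w y₀, ← hy, Category.assoc, Over.w nr]),
      (Category.assoc _ _ _).symm.trans ((congrArg (· ≫ n₀) (Over.OverMorphism.ext hy)).trans hy₀)⟩
  haveI : IsAffine N.left := by
    haveI : IsMonHom (jN ≫ q₂) := inferInstance
    have hfin : IsFinite (jN ≫ q₂).left := by
      refine isFinite_of_finite_ker (jN ≫ q₂) ?_
      have hpow : {a : Pts C | a ^ n = 1}.Finite := by
        haveI := geometricallyIntegral_av C
        haveI := isFinite_pow (A := C) hn
        refine ((((𝟙 C) ^ n : C ⟶ C).left.finite_preimage_singleton (Stab.pnt (1 : Pts C))).preimage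
          (f := fun a : Pts C => Stab.pnt a) fun a _ b _ hab => Stab.pnt_injective hab).subset fun a ha => ?_
        show ((𝟙 C) ^ n : C ⟶ C).left (a.left _) = _
        rw [← Scheme.Hom.comp_apply, ← Over.comp_left, MonObj.comp_pow, Category.comp_id, show a ^ n = 1 from ha]
      refine Set.Finite.of_finite_image (f := fun x : Pts N => x ≫ jN) ((hpow.image fun a => a ≫ iC).subset ?_)
        fun a _ b _ hab => (cancel_mono jN).1 hab
      rintro _ ⟨x, hx, rfl⟩
      have hx' : x ≫ jN ≫ q₂ = 1 := hx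
      obtain ⟨a, ha⟩ := H19Grp.kernel_lift hk₂ (x ≫ jN) (by rw [Category.assoc]; exact hx')
      refine ⟨a, ?_, ha⟩
      show a ^ n = 1
      rw [← hφC, ha, Category.assoc, hjN, MonObj.comp_one]
    haveI := hfin
    exact isAffine_of_isAffineHom (jN ≫ q₂).left
  -- the identity component
  obtain ⟨gL', hι'⟩ := H19Grp.exists_grpObj_idComp N
  let L' := H19Grp.idComp N
  let ι' : L' ⟶ N := H19Grp.idCompι N
  haveI : IsMonHom ι' := hι'
  haveI : IsOpenImmersion ι'.left := by
    haveI : Flat ι'.left := H19Grp.flat_clopenIdeal_subschemeι _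
    haveI : IsNoetherianRing (CommRingCat.of k) := inferInstanceAs (IsNoetherianRing k)
    haveI : IsLocallyNoetherian N.left := LocallyOfFiniteType.isLocallyNoetherian N.hom
    haveI : LocallyOfFinitePresentation ι'.left := inferInstance
    exact IsOpenImmersion.of_flat_of_mono ι'.left
  haveI : Smooth L'.hom := by rw [← Over.w ι']; infer_instance
  haveI : IsClosedImmersion ι'.left := inferInstance
  haveI : IsAffine L'.left := isAffine_of_isAffineHom ι'.left
  have hcomp := H19Grp.range_idCompι N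
  haveI : ConnectedSpace L'.left := by
    have hc : _root_.IsConnected (Set.range ι'.left) := hcomp ▸ isConnected_connectedComponent
    haveI : ConnectedSpace (Set.range ι'.left) := isConnected_iff_connectedSpace.1 hc
    exact ι'.left.isClosedEmbedding.isEmbedding.toHomeomorph.symm.surjective.connectedSpace
      ι'.left.isClosedEmbedding.isEmbedding.toHomeomorph.symm.continuous
  let j' : L' ⟶ G' := ι' ≫ jN
  haveI : IsClosedImmersion j'.left := by rw [Over.comp_left]; infer_instance
  have h1comp : Stab.pnt (1 : Pts N) ∈ Set.range ι'.left := by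
    refine ⟨Stab.pnt (1 : Pts L'), ?_⟩
    show ι'.left ((1 : Pts L').left _) = _
    rw [← Scheme.Hom.comp_apply, ← Over.comp_left, MonObj.one_comp]
  have hN' : AlgGrp.IsNormalHom j' := by
    intro T g x
    haveI := geometricallyIntegral_grp G'
    haveI : QuasiCompact L'.hom := inferInstance
    haveI := geometricallyIntegral_grp L'
    haveI : IsNoetherianRing (CommRingCat.of k) := inferInstanceAs (IsNoetherianRing k)
    haveI : IsLocallyNoetherian L'.left := LocallyOfFiniteType.isLocallyNoetherian L'.hom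
    haveI : IsLocallyNoetherian G'.left := LocallyOfFiniteType.isLocallyNoetherian G'.hom
    haveI : IsIntegral G'.left := GeometricallyIntegral.isIntegral_of_subsingleton G'.hom
    haveI : IsIntegral L'.left := GeometricallyIntegral.isIntegral_of_subsingleton L'.hom
    haveI : IsIntegral (G' ⊗ L').left := inferInstanceAs (IsIntegral (pullback G'.hom L'.hom))
    let c : G' ⊗ L' ⟶ G' := fst G' L' * (snd G' L' ≫ j') * (fst G' L')⁻¹
    obtain ⟨y, hy⟩ := hNlift c (by
      rw [MonObj.mul_comp, MonObj.mul_comp, GrpObj.inv_comp, Category.assoc, Category.assoc, hjN,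
        MonObj.comp_one, MonObj.comp_one, _root_.mul_one, mul_inv_cancel])
    have hy1 : lift (1 : Pts G') (1 : Pts L') ≫ y = 1 := by
      rw [← cancel_mono jN, Category.assoc, hy, MonObj.comp_mul, MonObj.comp_mul, GrpObj.comp_inv, lift_fst,
        lift_snd_assoc, MonObj.one_comp, MonObj.one_comp, inv_one, _root_.mul_one, _root_.mul_one]
    obtain ⟨z, hz⟩ := H19Grp.idComp_lift N y (by
      have hconn : _root_.IsPreconnected (Set.range y.left) :=
        Set.image_univ ▸ isPreconnected_univ.image y.left y.left.continuous.continuousOn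
      obtain ⟨e, he⟩ := h1comp
      have h3 : Stab.pnt (1 : Pts N) ∈ Set.range y.left :=
        ⟨Stab.pnt (lift (1 : Pts G') (1 : Pts L')), congrArg Stab.pnt hy1⟩
      have h4 : Stab.pnt (1 : Pts N) ∈ connectedComponent (α := N.left) _ := hcomp.le ⟨e, he⟩
      exact (hconn.subset_connectedComponent h3).trans_eq (connectedComponent_eq h4).symm)
    refine ⟨lift g x ≫ z, ?_⟩
    rw [Category.assoc, ← Category.assoc z, hz, hy, MonObj.comp_mul, MonObj.comp_mul, GrpObj.comp_inv, lift_fst,
      lift_snd_assoc]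
  obtain ⟨Q, gQ, q₃, hq₃, hQlft, hQqc, hq₃f, hq₃s, hq₃p, hk₃⟩ := H19Quot.exists_quotientGroup j' hN'
  haveI := hq₃; haveI := hQlft; haveI := hQqc; haveI := hq₃f; haveI := hq₃s; haveI := hq₃p
  obtain ⟨hQs, hQc⟩ := smooth_connected_image q₃
  -- the quotient is proper
  haveI : IsProper Q.hom := by
    have hj0 : j' ≫ φ = 1 := by rw [Category.assoc, hjN, MonObj.comp_one]
    obtain ⟨χ, hχ, -⟩ := H19Grp.QuotientDesc.existsUnique_desc q₃ φ fun T a b hab => by
      obtain ⟨x, hx⟩ := H19Grp.kernel_lift hk₃ (a * b⁻¹) (by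
        rw [MonObj.mul_comp, GrpObj.inv_comp, hab, mul_inv_cancel])
      have h1 : (a * b⁻¹) ≫ φ = 1 := by rw [← hx, Category.assoc, hj0, MonObj.comp_one]
      rwa [MonObj.mul_comp, GrpObj.inv_comp, mul_inv_eq_one] at h1
    haveI : Epi q₃.left := Flat.epi_of_flat_of_surjective q₃.left
    haveI : Epi q₃ := Over.epi_of_epi_left _
    haveI : Epi (q₃ ⊗ₘ q₃) := H19Grp.epi_tensorHom_of_fpqc q₃ q₃
    haveI : IsMonHom χ := ⟨by rw [← IsMonHom.one_hom (f := q₃), Category.assoc, hχ, IsMonHom.one_hom], by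
      rw [← cancel_epi (q₃ ⊗ₘ q₃), ← IsMonHom.mul_hom_assoc, hχ, tensorHom_comp_tensorHom_assoc, hχ,
        IsMonHom.mul_hom]⟩
    haveI : CompactSpace N.left := QuasiCompact.compactSpace_of_compactSpace N.hom
    obtain ⟨s, hs⟩ := finite_classes ι' h1comp
    have hfin : IsFinite χ.left := by
      refine isFinite_of_finite_ker χ (((s.finite_toSet).image fun x => x ≫ jN ≫ q₃).subset fun b hb => ?_)
      obtain ⟨g, hg⟩ := exists_pt_lift q₃ b
      haveI : IsReduced (𝟙_ (Over (Spec (CommRingCat.of k)))).left :=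
        inferInstanceAs (IsReduced (Spec (CommRingCat.of k)))
      obtain ⟨x, hx⟩ := hNlift g (by rw [← hχ, ← Category.assoc, hg]; exact hb)
      obtain ⟨c, hc, a, ha⟩ := hs x
      refine ⟨c, hc, ?_⟩
      have h5 : (x * c⁻¹) ≫ jN ≫ q₃ = 1 := by
        rw [← ha, Category.assoc, ← Category.assoc ι', H19Grp.kernel_comp_eq_one hk₃, MonObj.comp_one]
      rw [MonObj.mul_comp, GrpObj.inv_comp, mul_inv_eq_one] at h5
      rw [← hg, ← hx, Category.assoc]
      exact h5.symm
    haveI := hfin
    rw [← Over.w χ]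
    infer_instance
  -- pull back
  obtain ⟨L, gL, l, q', hl, hq', hlc, sq⟩ := H19Quot.exists_preimageGroup q₁ j'
  haveI := hl; haveI := hq'; haveI := hlc
  haveI : Mono j' := Over.mono_of_mono_left _
  haveI : Mono l := Over.mono_of_mono_left _
  obtain ⟨iE, hiE, hiEl, hkL⟩ := exists_kernel_preimage sq hk₁
  haveI := hiE
  haveI : Flat q'.left := MorphismProperty.of_isPullback (sq.map (Over.forget _)).flip hq₁f
  haveI : Surjective q'.left := MorphismProperty.of_isPullback (sq.map (Over.forget _)).flip hq₁s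
  haveI : LocallyOfFinitePresentation q'.left := MorphismProperty.of_isPullback (sq.map (Over.forget _)).flip hq₁p
  obtain ⟨hLs, hLc⟩ := smooth_connected_extension iE q' hkL
  refine ⟨L, gL, l, Q, gQ, q₁ ≫ q₃, hl, hlc, isAffine_extension iE q' hkL, hLs, hLc,
    H19Quot.isNormalHom_preimage sq hN', inferInstance, ?_, ?_, ?_, ?_, inferInstance, hQs, hQc⟩
  · rw [Over.comp_left]; infer_instance
  · rw [Over.comp_left]; infer_instance
  · rw [Over.comp_left]; infer_instance
  · refine H19Grp.isKernel_of ?_ (fun T a b h => (cancel_mono l).1 h) fun T x hx => ?_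
    · rw [← Category.assoc, ← sq.w, Category.assoc, H19Grp.kernel_comp_eq_one hk₃, MonObj.comp_one]
    · obtain ⟨y, hy⟩ := H19Grp.kernel_lift hk₃ (x ≫ q₁) (by rw [Category.assoc]; exact hx)
      obtain ⟨z, -, hz⟩ := sq.exists_lift y x hy
      exact ⟨z, hz⟩

end Groth.Agent.H19Chev
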