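import Groth.Agent.H19Chev.FrobDescent
import Groth.Agent.H19Chev.Structure

/-!
# The structure theorem of Chevalley over an arbitrary field
-/

set_option autoImplicit false
set_option linter.style.haveILetI false
set_option backward.isDefEq.respectTransparency false
set_option maxHeartbeats 1000000
set_option synthInstance.maxHeartbeats 400000
universe u

open CategoryTheory CategoryTheory.Limits MonoidalCategory CartesianMonoidalCategory MonObj AlgebraicGeometry
open Groth.Agent Groth.Agent.H25AbCube Groth.Agent.H19Quot

noncomputable section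

namespace Groth.Agent.H19Chev

attribute [local instance] Functor.grpObjObj

variable {k : Type u} [Field k]

theorem map_one_bc (K : Type u) [Field K] [Algebra k K] {T G : Over (Spec (CommRingCat.of k))} [GrpObj G] :
    (GeomTate.bc k K).map (1 : T ⟶ G) = 1 :=
  map_one (Functor.homMonoidHom (GeomTate.bc k K))

/-- A smooth connected group has a connected affine normal subgroup whose quotient is an abelian
variety; it can be chosen smooth over a perfect field. -/
theorem exists_chevalley_field (G : Over (Spec (CommRingCat.of k))) [GrpObj G] [Smooth G.hom] [QuasiCompact G.hom]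
    [ConnectedSpace G.left] :
    ∃ (N : Over (Spec (CommRingCat.of k))) (_ : GrpObj N) (i : N ⟶ G) (Q : Over (Spec (CommRingCat.of k)))
      (_ : GrpObj Q) (q : G ⟶ Q), IsMonHom i ∧ IsClosedImmersion i.left ∧ IsAffine N.left ∧
        ConnectedSpace N.left ∧ AlgGrp.IsNormalHom i ∧ IsMonHom q ∧ Surjective q.left ∧ Flat q.left ∧
        LocallyOfFinitePresentation q.left ∧ AlgGrp.IsKernel i q ∧ IsProper Q.hom ∧ Smooth Q.hom ∧
        ConnectedSpace Q.left ∧ (PerfectField k → Smooth N.hom) := by
  let K := AlgebraicClosure k
  let F := GeomTate.bc k K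
  haveI := GeomTate.flat_σ k K
  haveI := GeomTate.surjective_σ k K
  haveI : IsSeparated G.hom := H19Grp.AffineQuotient.isSeparated_of_grp G
  haveI := geometricallyIntegral_grp G
  haveI : Smooth (F.obj G).hom := inferInstanceAs (Smooth (pullback.snd G.hom (GeomTate.σ k K)))
  haveI : QuasiCompact (F.obj G).hom := inferInstanceAs (QuasiCompact (pullback.snd G.hom (GeomTate.σ k K)))
  haveI : GeometricallyIntegral (F.obj G).hom :=
    inferInstanceAs (GeometricallyIntegral (pullback.snd G.hom (GeomTate.σ k K)))
  haveI : IsNoetherianRing (CommRingCat.of K) := inferInstanceAs (IsNoetherianRing K)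
  haveI : IsLocallyNoetherian (F.obj G).left := LocallyOfFiniteType.isLocallyNoetherian (F.obj G).hom
  haveI : AlgebraicGeometry.IsIntegral (F.obj G).left :=
    GeometricallyIntegral.isIntegral_of_subsingleton (F.obj G).hom
  haveI : ConnectedSpace (F.obj G).left := inferInstance
  obtain ⟨L, gL, l, Q', gQ', q', hl, hlc, hLa, hLs, hLn, hnorm, hq', hq's, hq'f, hq'p, hk', hQ'p, hQ's, hQ'n⟩ :=
    exists_chevalley (F.obj G)
  haveI := hl; haveI := hlc; haveI := hLa; haveI := hLs; haveI := hLn
  haveI := hq'; haveI := hq's; haveI := hq'f; haveI := hq'p; haveI := hQ'p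
  obtain ⟨N₀, gN₀, i₀, hi₀, hi₀c, hN₀a, hN₀n, y₀, hy₀, hy₀s⟩ := FrobDescent.exists_descended l hnorm q' hk'
  haveI := hi₀; haveI := hi₀c; haveI := hN₀a; haveI := hy₀s
  haveI : LocallyOfFiniteType N₀.hom := by rw [← Over.w i₀]; infer_instance
  haveI : QuasiCompact N₀.hom := by rw [← Over.w i₀]; infer_instance
  -- reduce it over a perfect field
  obtain ⟨N, gN, i, hi, hic, hNa, hNn, hNs, y, hy, hys⟩ : ∃ (N : Over (Spec (CommRingCat.of k))) (_ : GrpObj N)
      (i : N ⟶ G), IsMonHom i ∧ IsClosedImmersion i.left ∧ IsAffine N.left ∧ AlgGrp.IsNormalHom i ∧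
        (PerfectField k → Smooth N.hom) ∧ ∃ y : L ⟶ F.obj N, y ≫ F.map i = l ∧ Surjective y.left := by
    by_cases hperf : PerfectField k
    · obtain ⟨gN, hnr⟩ := H19Grp.GroupCI.exists_grpObj_reduced N₀
      let N : Over (Spec (CommRingCat.of k)) := Over.mk (N₀.left.nilradical.subschemeι ≫ N₀.hom)
      let nr : N ⟶ N₀ := Over.homMk N₀.left.nilradical.subschemeι rfl
      haveI : IsMonHom nr := hnr
      haveI : IsClosedImmersion nr.left := inferInstanceAs (IsClosedImmersion N₀.left.nilradical.subschemeι)
      haveI : IsReduced N.left := inferInstanceAs (IsReduced N₀.left.nilradical.subscheme)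
      haveI : Surjective nr.left := ⟨fun x => by
        have : Set.range N₀.left.nilradical.subschemeι = Set.univ := by
          rw [Scheme.IdealSheafData.range_subschemeι, Scheme.support_nilradical]
          rfl
        exact this.ge trivial⟩
      let i : N ⟶ G := nr ≫ i₀
      haveI : IsClosedImmersion i.left := by rw [Over.comp_left]; infer_instance
      haveI : LocallyOfFiniteType N.hom := by rw [← Over.w i]; infer_instance
      haveI : QuasiCompact N.hom := by rw [← Over.w i]; infer_instance
      haveI : Smooth N.hom := H19Grp.smooth_of_isReduced_perfect N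
      haveI : Mono i₀ := Over.mono_of_mono_left _
      have hlift : ∀ (T : Over (Spec (CommRingCat.of k))) [IsReduced T.left] (x : T ⟶ N₀),
          ∃ z : T ⟶ N, z ≫ nr = x := fun T _ x => by
        obtain ⟨z, hz⟩ := H17.exists_lift_of_range_subset x.left nr.left (fun w _ => nr.left.surjective w)
        exact ⟨Over.homMk z (by rw [← Over.w x, ← hz, Category.assoc, Over.w nr]), Over.OverMorphism.ext hz⟩
      refine ⟨N, gN, i, inferInstance, inferInstance, isAffine_of_isAffineHom nr.left, fun T g x => ?_,
        fun _ => inferInstance, ?_⟩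
      · haveI : Smooth (G ⊗ N).hom := by show Smooth (pullback.fst G.hom N.hom ≫ G.hom); infer_instance
        haveI : IsReduced (G ⊗ N).left := isReduced_smooth
        obtain ⟨w, hw⟩ := hN₀n _ (fst G N) (snd G N ≫ nr)
        obtain ⟨z, hz⟩ := hlift _ w
        refine ⟨lift g x ≫ z, ?_⟩
        rw [Category.assoc, ← Category.assoc z, hz, ← hw, MonObj.comp_mul, MonObj.comp_mul, GrpObj.comp_inv,
          lift_fst]
        simp only [i, Category.assoc, lift_snd_assoc]
      · haveI : IsReduced L.left := isReduced_smooth
        haveI : IsClosedImmersion (F.map nr).left := MorphismProperty.overPullbackMap _ _ inferInstance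
        haveI : Surjective (F.map nr).left := MorphismProperty.overPullbackMap _ _ inferInstance
        obtain ⟨z, hz⟩ := H17.exists_lift_of_range_subset y₀.left (F.map nr).left
          (fun w _ => (F.map nr).left.surjective w)
        refine ⟨Over.homMk z (by rw [← Over.w y₀, ← hz, Category.assoc, Over.w (F.map nr)]), ?_, ?_⟩
        · rw [Functor.map_comp, ← Category.assoc]
          exact (congrArg (· ≫ F.map i₀) (Over.OverMorphism.ext hz)).trans hy₀
        · refine ⟨fun w => ?_⟩
          obtain ⟨v, hv⟩ := y₀.left.surjective ((F.map nr).left w)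
          refine ⟨v, (F.map nr).left.isClosedEmbedding.injective ?_⟩
          show (F.map nr).left (z v) = _
          rw [← Scheme.Hom.comp_apply, hz, hv]
    · exact ⟨N₀, gN₀, i₀, hi₀, hi₀c, hN₀a, hN₀n, fun h => absurd h hperf, y₀, hy₀, hy₀s⟩
  haveI := hi; haveI := hic; haveI := hNa; haveI := hys
  haveI : ConnectedSpace N.left := by
    haveI : Surjective (pullback.fst N.hom (GeomTate.σ k K)) :=
      MorphismProperty.pullback_fst (P := @Surjective) _ _ inferInstance
    haveI : ConnectedSpace (pullback N.hom (GeomTate.σ k K) : Scheme) :=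
      y.left.surjective.connectedSpace y.left.continuous
    exact (pullback.fst N.hom (GeomTate.σ k K)).surjective.connectedSpace
      (pullback.fst N.hom (GeomTate.σ k K)).continuous
  obtain ⟨Q, gQ, q, hq, hQlft, hQqc, hqf, hqs, hqp, hk⟩ := H19Quot.exists_quotientGroup i hNn
  haveI := hq; haveI := hQlft; haveI := hQqc; haveI := hqf; haveI := hqs; haveI := hqp
  haveI : Flat (F.map q).left := MorphismProperty.overPullbackMap _ _ inferInstance
  haveI : Surjective (F.map q).left := MorphismProperty.overPullbackMap _ _ inferInstance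
  haveI : IsMonHom (F.map q) := inferInstance
  haveI : LocallyOfFiniteType (F.obj Q).hom :=
    inferInstanceAs (LocallyOfFiniteType (pullback.snd Q.hom (GeomTate.σ k K)))
  obtain ⟨hQbs, -⟩ := smooth_connected_image (F.map q)
  haveI : IsSeparated Q.hom := H19Grp.AffineQuotient.isSeparated_of_grp Q
  have hfpqc : H18Descent.fpqc (GeomTate.σ k K) := ⟨⟨inferInstance, inferInstance⟩, inferInstance⟩
  have hQs : Smooth Q.hom := by
    haveI : MorphismProperty.DescendsAlong @Smooth H18Descent.fpqc.{u} :=
      inferInstanceAs (MorphismProperty.DescendsAlong @Smooth (@Surjective ⊓ @Flat ⊓ @QuasiCompact))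
    exact MorphismProperty.of_pullback_snd_of_descendsAlong (P := @Smooth) (Q := H18Descent.fpqc)
      (g := GeomTate.σ k K) hfpqc hQbs
  have hQp : IsProper Q.hom := by
    have hl0 : l ≫ F.map q = 1 := by
      rw [← hy, Category.assoc, ← Functor.map_comp, H19Grp.kernel_comp_eq_one hk, map_one_bc, MonObj.comp_one]
    obtain ⟨χ, hχ, -⟩ := H19Grp.QuotientDesc.existsUnique_desc q' (F.map q) fun T a b hab => by
      obtain ⟨x, hx⟩ := H19Grp.kernel_lift hk' (a * b⁻¹) (by
        rw [MonObj.mul_comp, GrpObj.inv_comp, hab, mul_inv_cancel])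
      have h1 : (a * b⁻¹) ≫ F.map q = 1 := by rw [← hx, Category.assoc, hl0, MonObj.comp_one]
      rwa [MonObj.mul_comp, GrpObj.inv_comp, mul_inv_eq_one] at h1
    haveI : Surjective χ.left := by
      haveI : Surjective (q'.left ≫ χ.left) := by rw [← Over.comp_left, hχ]; infer_instance
      exact Surjective.of_comp q'.left χ.left
    have hp : IsProper (pullback.snd Q.hom (GeomTate.σ k K)) := by
      haveI : UniversallyClosed (χ.left ≫ (F.obj Q).hom) := by rw [Over.w χ]; infer_instance
      haveI : UniversallyClosed (pullback.snd Q.hom (GeomTate.σ k K)) :=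
        UniversallyClosed.of_comp_surjective χ.left (F.obj Q).hom
      exact {}
    exact MorphismProperty.of_pullback_snd_of_descendsAlong (P := @IsProper) (Q := H18Descent.fpqc)
      (g := GeomTate.σ k K) hfpqc hp
  exact ⟨N, gN, i, Q, gQ, q, hi, hic, hNa, inferInstance, hNn, hq, hqs, hqf, hqp, hk, hQp, hQs,
    q.left.surjective.connectedSpace q.left.continuous, hNs⟩

end Groth.Agent.H19Chev
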