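import Groth.Agent.H19Chev.StructureBasic
import Groth.Agent.H25AbCube.GeomTate

/-!
# Twisting subgroups of a base change by automorphisms of the big field
-/

set_option autoImplicit false
set_option linter.style.haveILetI false
set_option backward.isDefEq.respectTransparency false
set_option maxHeartbeats 1000000
set_option synthInstance.maxHeartbeats 100000
universe u

open CategoryTheory CategoryTheory.Limits MonoidalCategory CartesianMonoidalCategory MonObj AlgebraicGeometry
open Groth.Agent Groth.Agent.H25AbCube

noncomputable section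

namespace Groth.Agent.H19Chev.Twist

attribute [local instance] Functor.grpObjObj

variable {k K : Type u} [Field k] [Field K] [Algebra k K] (s : K ≃ₐ[k] K)

/-- The morphism of the spectrum given by an automorphism. -/
abbrev sMap : Spec (CommRingCat.of K) ⟶ Spec (CommRingCat.of K) :=
  Spec.map s.toRingEquiv.toCommRingCatIso.hom

theorem sMap_σ : sMap s ≫ GeomTate.σ k K = GeomTate.σ k K := by
  rw [GeomTate.σ, sMap, ← Spec.map_comp]
  congr 1
  ext x
  exact s.commutes x

/-- The automorphism of a base change given by an automorphism of the big field. -/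
def τ (G : Over (Spec (CommRingCat.of k))) : ((GeomTate.bc k K).obj G).left ⟶ ((GeomTate.bc k K).obj G).left :=
  pullback.lift (pullback.fst G.hom (GeomTate.σ k K)) (pullback.snd G.hom (GeomTate.σ k K) ≫ sMap s)
    (by rw [Category.assoc, sMap_σ, pullback.condition])

theorem τ_fst (G : Over (Spec (CommRingCat.of k))) :
    τ s G ≫ pullback.fst G.hom (GeomTate.σ k K) = pullback.fst G.hom (GeomTate.σ k K) :=
  pullback.lift_fst _ _ _

theorem τ_snd (G : Over (Spec (CommRingCat.of k))) :
    τ s G ≫ pullback.snd G.hom (GeomTate.σ k K) = pullback.snd G.hom (GeomTate.σ k K) ≫ sMap s :=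
  pullback.lift_snd _ _ _

theorem τ_comp_symm (G : Over (Spec (CommRingCat.of k))) : τ s G ≫ τ s.symm G = 𝟙 _ := by
  apply pullback.hom_ext
  · rw [Category.assoc, τ_fst, τ_fst, Category.id_comp]
  · rw [Category.assoc, τ_snd, ← Category.assoc, τ_snd, Category.assoc, Category.id_comp, sMap, sMap,
      ← Spec.map_comp]
    conv_rhs => rw [← Category.comp_id (pullback.snd _ _), ← Spec.map_id]
    congr 2
    ext x
    exact s.apply_symm_apply x

instance isIso_τ (G : Over (Spec (CommRingCat.of k))) : IsIso (τ s G) :=
  ⟨τ s.symm G, τ_comp_symm s G, by simpa using τ_comp_symm s.symm G⟩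

/-- The twist of a base change is the base change. -/
def Φ (G : Over (Spec (CommRingCat.of k))) :
    (Over.pullback (sMap s)).obj ((GeomTate.bc k K).obj G) ⟶ (GeomTate.bc k K).obj G :=
  Over.homMk (pullback.lift (pullback.fst (pullback.snd G.hom (GeomTate.σ k K)) (sMap s) ≫
      pullback.fst G.hom (GeomTate.σ k K)) (pullback.snd (pullback.snd G.hom (GeomTate.σ k K)) (sMap s)) (by
      rw [Category.assoc, pullback.condition, ← Category.assoc, pullback.condition, Category.assoc, sMap_σ]))
    (pullback.lift_snd _ _ _)

theorem Φ_τ (G : Over (Spec (CommRingCat.of k))) :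
    (Φ s G).left ≫ τ s G = pullback.fst (pullback.snd G.hom (GeomTate.σ k K)) (sMap s) := by
  apply pullback.hom_ext
  · rw [Category.assoc, τ_fst]; exact pullback.lift_fst _ _ _
  · rw [Category.assoc, τ_snd, ← Category.assoc]
    exact (congrArg (· ≫ sMap s) (pullback.lift_snd _ _ _)).trans pullback.condition.symm

theorem Φ_naturality {G H : Over (Spec (CommRingCat.of k))} (f : G ⟶ H) :
    (Over.pullback (sMap s)).map ((GeomTate.bc k K).map f) ≫ Φ s H = Φ s G ≫ (GeomTate.bc k K).map f := by
  apply Over.OverMorphism.ext
  apply pullback.hom_ext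
  · simp only [Over.comp_left, Φ, Over.homMk_left, Over.pullback_map_left, Category.assoc, pullback.lift_fst,
      pullback.lift_fst_assoc]
    erw [pullback.lift_fst_assoc, Category.assoc, pullback.lift_fst]
    rfl
  · simp only [Over.comp_left, Φ, Over.homMk_left, Over.pullback_map_left, Category.assoc, pullback.lift_snd]
    erw [pullback.lift_snd]
    rfl

theorem isMonHom_Φ (G : Over (Spec (CommRingCat.of k))) [GrpObj G] : IsMonHom (Φ s G) := by
  let P := Over.pullback (sMap s)
  let F := GeomTate.bc k K
  refine ⟨?_, ?_⟩
  · rw [Functor.obj.η_def, Functor.obj.η_def, Functor.map_comp, Category.assoc, Category.assoc, Φ_naturality,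
      ← Category.assoc (P.map _), ← Category.assoc]
    congr 1
    rw [← cancel_mono (Functor.OplaxMonoidal.η F)]
    exact toUnit_unique _ _
  · rw [Functor.obj.μ_def, Functor.obj.μ_def, Functor.map_comp, Category.assoc, Category.assoc, Φ_naturality,
      ← Category.assoc (P.map _), ← Category.assoc, ← Category.assoc (_ ⊗ₘ _)]
    congr 1
    rw [← cancel_mono (Functor.OplaxMonoidal.δ F G G), Category.assoc, Category.assoc, Category.assoc,
      Functor.Monoidal.μ_δ, Category.comp_id]
    apply CartesianMonoidalCategory.hom_ext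
    · rw [tensorHom_fst, Category.assoc, Category.assoc, Category.assoc, Functor.OplaxMonoidal.δ_fst, ← Φ_naturality,
        ← Category.assoc (P.map _), ← Functor.map_comp, Functor.Monoidal.μ_fst, ← Category.assoc]
      congr 1
      exact Functor.Monoidal.μ_fst P _ _
    · rw [tensorHom_snd, Category.assoc, Category.assoc, Category.assoc, Functor.OplaxMonoidal.δ_snd, ← Φ_naturality,
        ← Category.assoc (P.map _), ← Functor.map_comp, Functor.Monoidal.μ_snd, ← Category.assoc]
      congr 1
      exact Functor.Monoidal.μ_snd P _ _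

/-- A subgroup through which all affine smooth connected subgroups factor contains its conjugates by
automorphisms of the field. -/
theorem exists_twist_of_forall {G : Over (Spec (CommRingCat.of k))} [GrpObj G]
    {L : Over (Spec (CommRingCat.of K))} [GrpObj L] (l : L ⟶ (GeomTate.bc k K).obj G) [IsMonHom l]
    [IsAffine L.left] [Smooth L.hom] [ConnectedSpace L.left]
    (hall : ∀ (L' : Over (Spec (CommRingCat.of K))) [GrpObj L'] [IsAffine L'.left] [Smooth L'.hom]
      [ConnectedSpace L'.left] (m : L' ⟶ (GeomTate.bc k K).obj G) [IsMonHom m], ∃ g : L' ⟶ L, g ≫ l = m) :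
    ∃ f : L.left ⟶ L.left, f ≫ l.left ≫ τ s G = l.left := by
  let s' : K ≃ₐ[k] K := s
  let L' := (Over.pullback (sMap s')).obj L
  haveI : IsIso (sMap s') := inferInstance
  haveI : IsIso (pullback.fst L.hom (sMap s')) := inferInstance
  haveI : Smooth L'.hom := inferInstanceAs (Smooth (pullback.snd L.hom (sMap s')))
  haveI : IsAffine L'.left := .of_isIso (pullback.fst L.hom (sMap s'))
  haveI : ConnectedSpace L'.left :=
    (pullback.fst L.hom (sMap s')).homeomorph.symm.surjective.connectedSpace
      (pullback.fst L.hom (sMap s')).homeomorph.symm.continuous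
  haveI := isMonHom_Φ s G
  let m : L' ⟶ (GeomTate.bc k K).obj G := (Over.pullback (sMap s)).map l ≫ Φ s G
  haveI : IsMonHom m := inferInstance
  obtain ⟨g, hg⟩ := hall L' m
  -- both sides over the twisted scheme
  have h1 : m.left ≫ τ s G = pullback.fst L.hom (sMap s) ≫ l.left := by
    rw [Over.comp_left, Category.assoc, Φ_τ]
    exact pullback.lift_fst _ _ _
  have h2 : g.left ≫ l.left = m.left := by rw [← Over.comp_left, hg]
  refine ⟨inv (pullback.fst L.hom (sMap s)) ≫ g.left, ?_⟩
  rw [Category.assoc, ← Category.assoc g.left, h2, h1, IsIso.inv_hom_id_assoc]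

/-- The kernel of a homomorphism from a connected group onto a proper one contains every conjugate of
an affine smooth connected subgroup. -/
theorem exists_twist [IsAlgClosed K] {G : Over (Spec (CommRingCat.of k))} [GrpObj G]
    {L Q : Over (Spec (CommRingCat.of K))} [GrpObj L] [GrpObj Q] (l : L ⟶ (GeomTate.bc k K).obj G) [IsMonHom l]
    [IsAffine L.left] [Smooth L.hom] [ConnectedSpace L.left] (q : (GeomTate.bc k K).obj G ⟶ Q) [IsMonHom q]
    [IsProper Q.hom] (hk : AlgGrp.IsKernel l q) :
    ∃ f : L.left ⟶ L.left, f ≫ l.left ≫ τ s G = l.left :=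
  exists_twist_of_forall s l fun _ _ _ _ _ m _ => H19Grp.kernel_lift hk m (eq_one_of_affine_to_proper (m ≫ q))

end Groth.Agent.H19Chev.Twist
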