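import Groth.Agent.H19Chev.LargestMult
import Groth.Agent.H19Mult.LocalCriterion
import Mathlib.Algebra.CharP.Frobenius

/-!
# A complement of the largest subgroup of multiplicative type up to a finite intersection
-/

set_option autoImplicit false
set_option maxHeartbeats 1000000
set_option synthInstance.maxHeartbeats 100000
set_option linter.style.haveILetI false
set_option linter.unusedSectionVars false

universe u v

open TensorProduct HopfRep WithConv
open scoped Groth.Agent.H20Comod

namespace Groth.Agent.H19Chev.UniKilled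

open Groth.Agent Groth.Agent.H20Comod Groth.Agent.H19Chev.CoradSplit Groth.Agent.H19Chev.LargestMult

noncomputable section

section Frobenius

variable {K : Type u} [Field K] {B : Type u} [CommRing B] [HopfAlgebra K B]

/-- A high power of `id - 1` kills a step of the coconnected filtration. -/
theorem pow_id_sub_one_apply : ∀ {m n : ℕ}, n < m → ∀ {b : B}, b ∈ coFil K B n →
    ((toConv (LinearMap.id : B →ₗ[K] B) - 1) ^ m).ofConv b = 0 := by
  intro m
  induction m with
  | zero => intro n h; exact absurd h (Nat.not_lt_zero n)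
  | succ m ih =>
    intro n hn b hb
    let D : WithConv (B →ₗ[K] B) := toConv (LinearMap.id : B →ₗ[K] B) - 1
    have hD0 : ∀ x ∈ coFil K B 0, D.ofConv x = 0 := by
      intro x hx
      obtain ⟨c, rfl⟩ := Submodule.mem_span_singleton.1 (coFil_zero.le hx)
      rw [map_smul]
      show c • ((LinearMap.id : B →ₗ[K] B) 1 - (1 : WithConv (B →ₗ[K] B)).ofConv 1) = 0
      rw [LinearMap.id_apply, LinearMap.convOne_apply, Bialgebra.counit_one, map_one, sub_self, smul_zero]
    rw [pow_succ']
    show LinearMap.mul' K B (TensorProduct.map D.ofConv (D ^ m).ofConv (CoalgebraStruct.comul (R := K) b)) = 0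
    have hle := comul_coFil_le n (Submodule.mem_map_of_mem (f := CoalgebraStruct.comul (R := K) (A := B)) hb)
    refine (iSup₂_le fun i hi => ?_ :
      _ ≤ LinearMap.ker (LinearMap.mul' K B ∘ₗ TensorProduct.map D.ofConv (D ^ m).ofConv)) hle
    rintro _ ⟨t, rfl⟩
    induction t using TensorProduct.induction_on with
    | zero => simp
    | add u v hu hv => rw [map_add]; exact add_mem hu hv
    | tmul x y =>
      show LinearMap.mul' K B (TensorProduct.map D.ofConv (D ^ m).ofConv ((x : B) ⊗ₜ[K] (y : B))) = 0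
      rw [TensorProduct.map_tmul, LinearMap.mul'_apply]
      rcases Nat.eq_zero_or_pos i with rfl | hi0
      · rw [hD0 _ x.2, MulZeroClass.zero_mul]
      · have hi' := Finset.mem_range.1 hi
        rw [ih (by omega : n - i < m) y.2, MulZeroClass.mul_zero]

/-- In characteristic `p` the power `p ^ N` kills coconnected elements of small degree. -/
theorem powConv_apply_coFil {p : ℕ} [hp : Fact p.Prime] [CharP K p] {n N : ℕ} (hn : n < p ^ N) {b : B}
    (hb : b ∈ coFil K B n) :
    SGA3b.powConv K B (p ^ N) b = algebraMap K B (CoalgebraStruct.counit (R := K) b) := by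
  let D : WithConv (B →ₗ[K] B) := toConv (LinearMap.id : B →ₗ[K] B) - 1
  haveI : Nontrivial B := ⟨⟨1, 0, fun h => one_ne_zero (α := K) (by
    have := congrArg (CoalgebraStruct.counit (R := K)) h
    rwa [Bialgebra.counit_one, map_zero] at this)⟩⟩
  haveI : Nontrivial (WithConv (B →ₗ[K] B)) := ⟨⟨1, 0, fun h => one_ne_zero (α := B) (by
    have := congrArg (fun f : WithConv (B →ₗ[K] B) => f.ofConv 1) h
    simpa [LinearMap.convOne_apply] using this)⟩⟩
  haveI : CharP (WithConv (B →ₗ[K] B)) p := by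
    refine (CharP.charP_iff_prime_eq_zero hp.out).2 ?_
    rw [← nsmul_one p]
    refine WithConv.ofConv_injective (LinearMap.ext fun x => ?_)
    show p • ((1 : WithConv (B →ₗ[K] B)).ofConv x) = 0
    rw [← Nat.cast_smul_eq_nsmul K, CharP.cast_eq_zero, zero_smul]
  have h1 : toConv (LinearMap.id : B →ₗ[K] B) ^ (p ^ N) = D ^ (p ^ N) + 1 := by
    conv_rhs => rw [← one_pow (p ^ N) (M := WithConv (B →ₗ[K] B))]
    rw [← add_pow_char_pow_of_commute _ _ (Commute.one_right D), sub_add_cancel]
  have h2 : (SGA3b.powConv K B (p ^ N)).toLinearMap = (toConv (LinearMap.id : B →ₗ[K] B) ^ (p ^ N)).ofConv :=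
    congrArg WithConv.ofConv (AlgHom.toLinearMap_convPow (toConv (AlgHom.id K B)) (p ^ N))
  show (SGA3b.powConv K B (p ^ N)).toLinearMap b = _
  rw [h2, h1]
  show (D ^ (p ^ N)).ofConv b + (1 : WithConv (B →ₗ[K] B)).ofConv b = _
  rw [pow_id_sub_one_apply hn hb, zero_add, LinearMap.convOne_apply]

end Frobenius

section Points

variable {k : Type u} [Field k] {A : Type u} [CommRing A] [HopfAlgebra k A]

local notation "K" => AlgebraicClosure k
local notation "ι" => (Algebra.TensorProduct.includeRight : A →ₐ[k] AlgebraicClosure k ⊗[k] A)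

/-- The embedding into the geometric coordinate ring is the product of its two Jordan parts. -/
theorem conv_split_include [Coalgebra.IsCocomm k A] (π υ : K ⊗[k] A →ₐc[K] K ⊗[k] A)
    (h : toConv (π : K ⊗[k] A →ₐ[K] K ⊗[k] A) * toConv (υ : K ⊗[k] A →ₐ[K] K ⊗[k] A) =
      toConv (AlgHom.id K (K ⊗[k] A))) :
    toConv (((π : K ⊗[k] A →ₐ[K] K ⊗[k] A).restrictScalars k).comp ι) *
      toConv (((υ : K ⊗[k] A →ₐ[K] K ⊗[k] A).restrictScalars k).comp ι) = toConv ι := by
  refine WithConv.ofConv_injective (AlgHom.ext fun a => ?_)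
  have h1 := congrArg (fun f : WithConv (K ⊗[k] A →ₐ[K] K ⊗[k] A) => f.ofConv ((1 : K) ⊗ₜ[k] a)) h
  refine Eq.trans ?_ h1
  show LinearMap.mul' k _ (TensorProduct.map _ _ (CoalgebraStruct.comul (R := k) a)) =
    LinearMap.mul' K _ (TensorProduct.map (π : K ⊗[k] A →ₐ[K] K ⊗[k] A).toLinearMap
      (υ : K ⊗[k] A →ₐ[K] K ⊗[k] A).toLinearMap (CoalgebraStruct.comul (R := K) ((1 : K) ⊗ₜ[k] a)))
  rw [comul_one_tmul]
  generalize CoalgebraStruct.comul (R := k) a = z
  induction z using TensorProduct.induction_on with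
  | zero => simp
  | tmul x y => simp
  | add x y hx hy => simp only [map_add, hx, hy]

/-- Geometric points split along two Hopf ideals whose Jordan parts they kill. -/
theorem exists_split_point [Coalgebra.IsCocomm k A] (π υ : K ⊗[k] A →ₐc[K] K ⊗[k] A)
    (h : toConv (π : K ⊗[k] A →ₐ[K] K ⊗[k] A) * toConv (υ : K ⊗[k] A →ₐ[K] K ⊗[k] A) =
      toConv (AlgHom.id K (K ⊗[k] A)))
    (J I : Ideal A) (hJ : ∀ a ∈ J, π ((1 : K) ⊗ₜ[k] a) = 0) (hI : ∀ a ∈ I, υ ((1 : K) ⊗ₜ[k] a) = 0)
    (Ω : Type u) [Field Ω] [IsAlgClosed Ω] [Algebra k Ω] (x : A →ₐ[k] Ω) :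
    ∃ m h' : A →ₐ[k] Ω, (∀ a ∈ J, m a = 0) ∧ (∀ a ∈ I, h' a = 0) ∧ toConv m * toConv h' = toConv x := by
  let emb : K →ₐ[k] Ω := IsAlgClosed.lift
  let xK : K ⊗[k] A →ₐ[k] Ω := Algebra.TensorProduct.lift emb x fun _ _ => Commute.all _ _
  refine ⟨xK.comp (((π : K ⊗[k] A →ₐ[K] K ⊗[k] A).restrictScalars k).comp ι),
    xK.comp (((υ : K ⊗[k] A →ₐ[K] K ⊗[k] A).restrictScalars k).comp ι), fun a ha => ?_, fun a ha => ?_, ?_⟩
  · show xK (π ((1 : K) ⊗ₜ[k] a)) = 0
    rw [hJ a ha, map_zero]
  · show xK (υ ((1 : K) ⊗ₜ[k] a)) = 0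
    rw [hI a ha, map_zero]
  · have h2 := congrArg (fun f : WithConv (A →ₐ[k] K ⊗[k] A) => toConv (xK.comp f.ofConv))
      (conv_split_include π υ h)
    simp only [AlgHom.comp_convMul_distrib, ofConv_toConv, toConv_ofConv] at h2
    rw [h2]
    congr 1
    refine AlgHom.ext fun a => ?_
    show xK ((1 : K) ⊗ₜ[k] a) = x a
    rw [Algebra.TensorProduct.lift_tmul, map_one, _root_.one_mul]

theorem proj_multIdeal [Coalgebra.IsCocomm k A] (π : K ⊗[k] A →ₐc[K] K ⊗[k] A)
    (hπu : ∀ b ∈ uni K (K ⊗[k] A), π b = algebraMap K _ (CoalgebraStruct.counit (R := K) b))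
    {a : A} (ha : a ∈ multIdeal k A) : π ((1 : K) ⊗ₜ[k] a) = 0 := by
  refine Submodule.span_induction (p := fun z _ => π ((1 : K) ⊗ₜ[k] z) = 0) ?_ (by simp)
    (fun a b _ _ ha hb => by rw [TensorProduct.tmul_add, map_add, ha, hb, add_zero]) ?_ ha
  · rintro _ ⟨b, ⟨n, hn⟩, rfl⟩
    have hc : (1 : K) ⊗ₜ[k] algebraMap k A (CoalgebraStruct.counit (R := k) b) =
        algebraMap K (K ⊗[k] A) (algebraMap k K (CoalgebraStruct.counit (R := k) b)) := by
      rw [Algebra.algebraMap_eq_smul_one (A := A), TensorProduct.tmul_smul, TensorProduct.smul_tmul',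
        Algebra.TensorProduct.algebraMap_apply, ← Algebra.algebraMap_eq_smul_one]
      rfl
    rw [TensorProduct.tmul_sub, map_sub, hπu _ ⟨n, JordanSplit.one_tmul_mem_coFil K hn⟩, TensorProduct.counit_tmul,
      CommSemiring.counit_apply, hc, AlgHomClass.commutes, ← Algebra.algebraMap_eq_smul_one]
    exact sub_self _
  · intro c z _ hz
    rw [smul_eq_mul, show (1 : K) ⊗ₜ[k] (c * z) = ((1 : K) ⊗ₜ[k] c) * ((1 : K) ⊗ₜ[k] z) by
      rw [Algebra.TensorProduct.tmul_mul_tmul, _root_.one_mul], map_mul π, hz, MulZeroClass.mul_zero]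

/-- A Hopf ideal meeting the largest subgroup of multiplicative type in a finite scheme through which, together with
that subgroup, all geometric points factor. -/
theorem exists_complement [Coalgebra.IsCocomm k A] [Algebra.FiniteType k A]
    {C : Type u} [CommRing C] [HopfAlgebra k C] (ψ : A →ₐc[k] C) (hψ : Function.Surjective ψ)
    (hC : SGA3b.IsMultType k C) (hker : RingHom.ker (ψ : A →ₐ[k] C) = multIdeal k A) :
    ∃ (I : Ideal A) (_ : I.IsHopfIdeal k), Module.Finite k (A ⧸ (I ⊔ multIdeal k A)) ∧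
      ∀ (Ω : Type u) [Field Ω] [IsAlgClosed Ω] [Algebra k Ω] (x : A →ₐ[k] Ω),
        ∃ m h : A →ₐ[k] Ω, (∀ a ∈ multIdeal k A, m a = 0) ∧ (∀ a ∈ I, h a = 0) ∧ toConv m * toConv h = toConv x := by
  classical
  obtain ⟨πK, υK, hsplK, hπuK, hυuK, hυmemK, hυπK, hπgK⟩ := JordanSplit.exists_split (k := K) (A := K ⊗[k] A)
  rcases CharP.exists k with ⟨p, hp⟩
  haveI := hp
  rcases CharP.char_is_prime_or_zero k p with hpp | hp0
  · haveI := Fact.mk hpp
    haveI : CharP K p := charP_of_injective_algebraMap (algebraMap k K).injective p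
    obtain ⟨s, hs⟩ := (inferInstance : Algebra.FiniteType k A).out
    choose deg hdeg using fun a : A => hυmemK ((1 : K) ⊗ₜ[k] a)
    obtain ⟨N, hN⟩ : ∃ N, ∀ a ∈ s, deg a < p ^ N := ⟨s.sup deg + 1, fun a ha =>
      lt_of_le_of_lt (Finset.le_sup ha) (lt_of_lt_of_le (Nat.lt_succ_self _) (Nat.lt_pow_self hpp.one_lt).le)⟩
    let q := p ^ N
    haveI hI := H19Mult.isHopfIdeal_torsion (R := k) (A := A) q
    refine ⟨SGA3b.torsionIdeal k A q, hI, ?_, fun Ω _ _ _ x => exists_split_point πK υK hsplK _ _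
      (fun a ha => proj_multIdeal πK hπuK ha) ?_ Ω x⟩
    · haveI := H21Hom.isCocomm_of_surjective ψ hψ
      haveI := H19Mult.isHopfIdeal_torsion (R := k) (A := C) q
      haveI hCf : Algebra.FiniteType k C := Algebra.FiniteType.of_surjective (ψ : A →ₐ[k] C) hψ
      haveI := H19Mult.finite_torsion hCf hC q (pow_pos hpp.pos N) _ rfl
      let L := SGA3b.torsionIdeal k A q ⊔ multIdeal k A
      let g₀ : C →ₐ[k] A ⧸ L :=
        (Ideal.Quotient.liftₐ _ (Ideal.Quotient.mkₐ k L) fun z hz => Ideal.Quotient.eq_zero_iff_mem.2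
          (Ideal.mem_sup_right (hker.le hz))).comp
          (Ideal.quotientKerAlgEquivOfSurjective (f := (ψ : A →ₐ[k] C)) hψ).symm.toAlgHom
      have hg₀ : ∀ a, g₀ (ψ a) = Ideal.Quotient.mk L a := fun a => by
        have hs : (Ideal.quotientKerAlgEquivOfSurjective (f := (ψ : A →ₐ[k] C)) hψ).symm (ψ a) = Ideal.Quotient.mk _ a :=
          (AlgEquiv.symm_apply_eq _).2 rfl
        exact (congrArg (Ideal.Quotient.liftₐ _ (Ideal.Quotient.mkₐ k L) fun z hz => Ideal.Quotient.eq_zero_iff_mem.2
          (Ideal.mem_sup_right (hker.le hz))) hs).trans rfl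
      have hle : SGA3b.torsionIdeal k C q ≤ RingHom.ker g₀ := by
        refine Ideal.map_le_iff_le_comap.2 fun c hc => ?_
        obtain ⟨a, rfl⟩ := hψ c
        show g₀ (SGA3b.powConv k C q (ψ a)) = 0
        rw [← H19Mult.SubgroupLocal.powConv_comp, hg₀, Ideal.Quotient.eq_zero_iff_mem]
        refine Ideal.mem_sup_left (Ideal.mem_map_of_mem _ (RingHom.mem_ker.2 ?_))
        have h3 := RingHom.mem_ker.1 hc
        show CoalgebraStruct.counit (R := k) a = 0
        rw [← CoalgHomClass.counit_comp_apply ψ a]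
        exact h3
      refine Module.Finite.of_surjective (M := C ⧸ SGA3b.torsionIdeal k C q)
        (Ideal.Quotient.liftₐ _ g₀ fun z hz => RingHom.mem_ker.1 (hle hz)).toLinearMap fun y => ?_
      obtain ⟨a, rfl⟩ := Ideal.Quotient.mk_surjective y
      exact ⟨Ideal.Quotient.mk _ (ψ a), hg₀ a⟩
    · have hgen : (((υK : K ⊗[k] A →ₐ[K] K ⊗[k] A).restrictScalars k).comp ι).comp (SGA3b.powConv k A q) =
          (Algebra.ofId k (K ⊗[k] A)).comp (Bialgebra.counitAlgHom k A) := by
        refine AlgHom.ext_of_adjoin_eq_top hs fun a ha => ?_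
        show υK ((1 : K) ⊗ₜ[k] SGA3b.powConv k A q a) = algebraMap k _ (CoalgebraStruct.counit (R := k) a)
        rw [← H19Mult.LocalCriterion.powConv_baseChange K q a, H19Mult.SubgroupLocal.powConv_comp,
          powConv_apply_coFil (hN a ha) (hdeg a), CoalgHomClass.counit_comp_apply υK, TensorProduct.counit_tmul,
          CommSemiring.counit_apply, IsScalarTower.algebraMap_apply k K (K ⊗[k] A),
          ← Algebra.algebraMap_eq_smul_one]
      let F : A →ₐ[k] K ⊗[k] A := ((υK : K ⊗[k] A →ₐ[K] K ⊗[k] A).restrictScalars k).comp ι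
      have hle : SGA3b.torsionIdeal k A q ≤ RingHom.ker F := by
        refine Ideal.map_le_iff_le_comap.2 fun b hb => ?_
        show F (SGA3b.powConv k A q b) = 0
        refine (AlgHom.congr_fun hgen b).trans ?_
        show algebraMap k (K ⊗[k] A) (Bialgebra.counitAlgHom k A b) = 0
        rw [RingHom.mem_ker.1 hb, map_zero]
      intro a ha
      exact RingHom.mem_ker.1 (hle ha)
  · haveI : CharZero k := by subst hp0; exact CharP.charP_to_charZero k
    haveI : PerfectField k := PerfectField.ofCharZero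
    obtain ⟨π, υ, hspl, hπu, hυu, hυmem, hυπ, -⟩ := JordanSplit.exists_split (k := k) (A := A)
    haveI hI := H19Mult.KernelLocal.isHopfIdeal_map_aug π
    refine ⟨Ideal.map π (RingHom.ker (Bialgebra.counitAlgHom k A)), hI, ?_, fun Ω _ _ _ x => ?_⟩
    · let L := Ideal.map π (RingHom.ker (Bialgebra.counitAlgHom k A)) ⊔ multIdeal k A
      refine Module.Finite.of_surjective (Algebra.linearMap k (A ⧸ L)) fun y => ?_
      obtain ⟨a, rfl⟩ := Ideal.Quotient.mk_surjective y
      refine ⟨CoalgebraStruct.counit (R := k) a, ?_⟩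
      let qL := Ideal.Quotient.mkₐ k L
      have h1 : qL.comp (π : A →ₐ[k] A) = (1 : WithConv (A →ₐ[k] A ⧸ L)).ofConv := AlgHom.ext fun z => by
        show Ideal.Quotient.mk L (π z) = algebraMap k (A ⧸ L) (CoalgebraStruct.counit (R := k) z)
        rw [← Ideal.Quotient.mk_algebraMap, Ideal.Quotient.eq,
          show algebraMap k A (CoalgebraStruct.counit (R := k) z) = π (algebraMap k A (CoalgebraStruct.counit (R := k) z))
            from (AlgHomClass.commutes π _).symm, ← map_sub π]
        refine Ideal.mem_sup_left (Ideal.mem_map_of_mem π ?_)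
        rw [RingHom.mem_ker, map_sub, AlgHom.commutes]
        exact sub_self _
      have h2 : qL.comp (υ : A →ₐ[k] A) = (1 : WithConv (A →ₐ[k] A ⧸ L)).ofConv := AlgHom.ext fun z => by
        show Ideal.Quotient.mk L (υ z) = algebraMap k (A ⧸ L) (CoalgebraStruct.counit (R := k) z)
        rw [← Ideal.Quotient.mk_algebraMap, Ideal.Quotient.eq, ← CoalgHomClass.counit_comp_apply υ z]
        exact Ideal.mem_sup_right (Ideal.subset_span ⟨υ z, hυmem z, rfl⟩)
      have h3 := congrArg (fun f : WithConv (A →ₐ[k] A) => qL.comp f.ofConv) hspl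
      simp only [AlgHom.comp_convMul_distrib, ofConv_toConv, AlgHom.comp_id] at h3
      rw [h1, h2, toConv_ofConv, _root_.mul_one] at h3
      exact AlgHom.congr_fun h3 a
    · refine ⟨x.comp (π : A →ₐ[k] A), x.comp (υ : A →ₐ[k] A), fun a ha => ?_, fun a ha => ?_, ?_⟩
      · show x (π a) = 0
        have : a ∈ RingHom.ker (π : A →ₐ[k] A) := by
          refine Ideal.span_le.2 ?_ ha
          rintro _ ⟨b, hb, rfl⟩
          show π (b - _) = 0
          rw [map_sub, AlgHomClass.commutes, hπu b hb, sub_self]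
        rw [show π a = 0 from this, map_zero]
      · show x (υ a) = 0
        have : a ∈ RingHom.ker (υ : A →ₐ[k] A) := by
          refine Ideal.map_le_iff_le_comap.2 ?_ ha
          intro b hb
          show υ (π b) = 0
          rw [hυπ b, show CoalgebraStruct.counit (R := k) b = 0 from (RingHom.mem_ker (f := Bialgebra.counitAlgHom k A)).1 hb,
            map_zero]
        rw [show υ a = 0 from this, map_zero]
      · have h2 := congrArg (fun f : WithConv (A →ₐ[k] A) => toConv (x.comp f.ofConv)) hspl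
        simp only [AlgHom.comp_convMul_distrib, ofConv_toConv, toConv_ofConv, AlgHom.comp_id] at h2
        exact h2

end Points

end

end Groth.Agent.H19Chev.UniKilled
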