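import Groth.Agent.H19Chev.CellPic
import Groth.Agent.H19Chev.NormKill
import Groth.Agent.H19Grp.AffineCriteria
import Groth.Agent.H19Grp.RegularSmooth
import Groth.Agent.H8Props.DivisorSection
import Groth.Agent.H11Div.UFDComplement
import Groth.Agent.H11Ample.QuasiAffine
import Groth.Agent.H25AbCube.CurveDeg
import Groth.Agent.H25AbCube.Generated
import Groth.Agent.H28Alg.RegularUFD
import Groth.Agent.H29Ref.Hartogs
import Groth.Agent.H25Grp.Isogeny
import Groth.Agent.H28NT.GoodReduction
import Groth.Agent.H17.GenFinite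

/-!
# Unirational groups are affine
-/

set_option autoImplicit false
set_option linter.style.haveILetI false
set_option backward.isDefEq.respectTransparency false
set_option maxHeartbeats 1000000
set_option synthInstance.maxHeartbeats 100000
universe u

open CategoryTheory CategoryTheory.Limits MonoidalCategory CartesianMonoidalCategory MonObj GrpObj AlgebraicGeometry
open Groth.Agent Groth.Agent.H25AbCube Groth.Agent.H11Ample

noncomputable section

namespace Groth.Agent.H19Chev

variable {k : Type u} [Field k] {G : Over (Spec (CommRingCat.of k))} [GrpObj G]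

local notation "Pts" X => 𝟙_ (Over (Spec (CommRingCat.of k))) ⟶ X

/-- A product of classes trivial over a translation-generated set of translations. -/
theorem exists_isAffine_of_torsion [IsAlgClosed k] [Smooth G.hom] [QuasiCompact G.hom] [ConnectedSpace G.left]
    (h : ∀ L : PC G.left, ∀ x y : Pts G, ∃ d : ℕ, 0 < d ∧
      d • (ev L (𝟙 G * (toUnit G ≫ x)) + ev L ((toUnit G ≫ y) * (𝟙 G)⁻¹)) = 0) : IsAffine G.left := by
  haveI : IsNoetherianRing (CommRingCat.of k) := inferInstanceAs (IsNoetherianRing k)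
  haveI : IsSeparated G.hom := H19Grp.AffineQuotient.isSeparated_of_grp G
  haveI : IsLocallyNoetherian G.left := LocallyOfFiniteType.isLocallyNoetherian G.hom
  haveI : CompactSpace G.left := QuasiCompact.compactSpace_of_compactSpace G.hom
  haveI : QuasiSeparatedSpace G.left := quasiSeparatedSpace_of_quasiSeparated G.hom
  haveI : JacobsonSpace G.left := LocallyOfFiniteType.jacobsonSpace G.hom
  haveI : G.left.IsSeparated := ⟨by rw [terminal.hom_ext (terminal.from G.left) (G.hom ≫ terminal.from _)]; infer_instance⟩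
  have hreg := H19Grp.isRegularLocalRing_stalk_of_smooth G.hom
  have hdom : ∀ x : G.left, IsDomain (G.left.presheaf.stalk x) := fun x =>
    (H29Ref.isNormalScheme_of_regular hreg x).1
  haveI : GeometricallyConnected G.hom :=
    H28NT.geometricallyConnected_of_section G.hom η[G].left (Over.w η[G])
  haveI : IrreducibleSpace G.left := H25Grp.irreducibleSpace_group
  obtain ⟨U, hU, hηU, -⟩ := exists_isAffineOpen_mem_and_subset (Set.mem_univ (genericPoint G.left)) (U := (⊤ : G.left.Opens))
  haveI : IsAffine (U : Scheme.{u}) := hU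
  haveI : IsAffineHom U.ι := by
    haveI : IsAffineHom (U.ι ≫ terminal.from G.left) := inferInstance
    exact IsAffineHom.of_comp U.ι (terminal.from G.left)
  have hdense : Dense (U : Set G.left) := U.isOpen.dense ⟨_, hηU⟩
  obtain ⟨L, s, hL, hs⟩ := H8Props.DivisorSection.exists_invertible_section
    (H11Div.isEffCartierIdeal_vanishingIdeal_compl U hdense fun x _ => ⟨hdom x, by
      haveI := hdom x
      haveI := hreg x
      exact H28Alg.ufd_of_regular _⟩)
  have hsU : gen L s = U := hs.trans (by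
    ext z
    exact not_not)
  haveI : G.left.IsQuasiAffine := by
    refine Scheme.IsQuasiAffine.of_forall_exists_mem_basicOpen G.left fun z₀ => ?_
    obtain ⟨z, hz, hzc⟩ : ∃ z ∈ closure ({z₀} : Set G.left), IsClosed ({z} : Set G.left) :=
      isClosed_closure.exists_closed_singleton ⟨z₀, subset_closure rfl⟩
    obtain ⟨g, rfl⟩ := Stab.exists_pnt hzc
    obtain ⟨c, hcU, hcc⟩ := nonempty_inter_closedPoints (X := G.left) ⟨_, hηU⟩ U.isOpen.isLocallyClosed
    obtain ⟨u₀, rfl⟩ := Stab.exists_pnt hcc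
    let τ₁ : G ⟶ G := 𝟙 G * (toUnit G ≫ (g⁻¹ * u₀))
    let τ₂ : G ⟶ G := (toUnit G ≫ (u₀ * g)) * (𝟙 G)⁻¹
    have hpt : ∀ x : Pts G, g ≫ toUnit G ≫ x = x := fun x => by
      rw [← Category.assoc, comp_toUnit, toUnit_unique (toUnit (𝟙_ _)) (𝟙 _), Category.id_comp]
    have h₁ : g ≫ τ₁ = u₀ := by
      rw [MonObj.comp_mul, Category.comp_id, hpt, mul_inv_cancel_left]
    have h₂ : g ≫ τ₂ = u₀ := by
      rw [MonObj.comp_mul, hpt, GrpObj.comp_inv, Category.comp_id, mul_inv_cancel_right]
    obtain ⟨d, hd, hd0⟩ := h (pc L hL) (g⁻¹ * u₀) (u₀ * g)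
    let s₁ := (1 : Γ(G.left, ⊤)) • pullTop τ₁.left s
    let s₂ := (1 : Γ(G.left, ⊤)) • pullTop τ₂.left s
    have hp₁ := isInvertible_pullback τ₁.left hL
    have hp₂ := isInvertible_pullback τ₂.left hL
    have hM := isInvertible_tensor hp₁ hp₂
    let M := CohB1.tensorMod ((Scheme.Modules.pullback τ₁.left).obj L) ((Scheme.Modules.pullback τ₂.left).obj L)
    let W : G.left.Opens := τ₁.left ⁻¹ᵁ U ⊓ τ₂.left ⁻¹ᵁ U
    have hW : gen (CohB1.tensorPow M d) (spow (tm s₁ s₂) d) = W := by
      rw [gen_spow hM _ d hd, gen_tm hp₁ hp₂, gen_smul_pullSect τ₁.left hL s isUnit_one,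
        gen_smul_pullSect τ₂.left hL s isUnit_one, hsU]
    obtain ⟨hpw, hpwe⟩ := exists_pc_pow hM d
    obtain ⟨θ⟩ : Nonempty (CohB1.tensorPow M d ≅ Coh.structureModule G.left) := by
      refine (pc_eq_iff hpw H11Ample.isInvertible_structureModule).1 ?_
      rw [hpwe, pc_one, pc_tensor hp₁ hp₂ hM, pullP_pc τ₁.left L hL, pullP_pc τ₂.left L hL]
      exact hd0
    let f : Γ(G.left, ⊤) := θ.hom.app ⊤ (spow (tm s₁ s₂) d)
    have hf : G.left.basicOpen f = W := by
      rw [← hW, ← gen_iso θ.hom]
      have h1 := gen_inf_eq_basicOpen (H11Ample.isGen_one (⊤ : G.left.Opens))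
        (show Γ(Coh.structureModule G.left, ⊤) from f) f (by rw [H10Coh.mres_self, H11Ample.smul_one_eq])
      rw [inf_top_eq] at h1
      exact h1.symm
    have hconst : ∀ (φ : G ⟶ G) (x : Pts G), φ ≫ toUnit G ≫ x = toUnit G ≫ x := fun φ x => by
      rw [← Category.assoc, comp_toUnit]
    haveI : IsIso τ₁ := by
      refine ⟨𝟙 G * (toUnit G ≫ (g⁻¹ * u₀)⁻¹), ?_, ?_⟩
      · rw [MonObj.comp_mul, Category.comp_id, hconst, _root_.mul_assoc, ← MonObj.comp_mul, mul_inv_cancel,
          MonObj.comp_one, _root_.mul_one]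
      · rw [MonObj.comp_mul, Category.comp_id, hconst, _root_.mul_assoc, ← MonObj.comp_mul, inv_mul_cancel,
          MonObj.comp_one, _root_.mul_one]
    haveI : IsIso τ₂ := by
      refine ⟨(𝟙 G)⁻¹ * (toUnit G ≫ (u₀ * g)), ?_, ?_⟩
      · rw [MonObj.comp_mul, GrpObj.comp_inv, Category.comp_id, hconst, _root_.mul_inv_rev, _root_.inv_inv,
          _root_.mul_assoc, inv_mul_cancel, _root_.mul_one]
      · rw [MonObj.comp_mul, GrpObj.comp_inv, Category.comp_id, hconst, _root_.mul_inv_rev, _root_.inv_inv,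
          ← _root_.mul_assoc, mul_inv_cancel, _root_.one_mul]
    haveI : IsIso τ₁.left := Functor.map_isIso (Over.forget _) τ₁
    haveI : IsIso τ₂.left := Functor.map_isIso (Over.forget _) τ₂
    have hWaff : IsAffineOpen W :=
      (hU.preimage_of_isIso τ₁.left).inf (hU.preimage_of_isIso τ₂.left)
    refine ⟨f, hf ▸ hWaff, ?_⟩
    have hgW : g.left (IsLocalRing.closedPoint k) ∈ W := by
      constructor
      · show τ₁.left (g.left _) ∈ U
        rw [← Scheme.Hom.comp_apply, ← Over.comp_left, h₁]; exact hcU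
      · show τ₂.left (g.left _) ∈ U
        rw [← Scheme.Hom.comp_apply, ← Over.comp_left, h₂]; exact hcU
    rw [hf]
    exact (specializes_iff_mem_closure.mpr hz).mem_open W.isOpen hgW
  haveI : Mono G.left.toSpecΓ := inferInstance
  haveI : Mono (H19Grp.Affinization.rho G) :=
    (Over.forget _).mono_of_mono_map (inferInstanceAs (Mono G.left.toSpecΓ))
  exact H19Grp.AffineCriteria.isAffine_of_mono_rho G

/-- A group dominated by an open of affine space is affine. -/
theorem isAffine_of_dominant_cell [IsAlgClosed k] [Smooth G.hom] [QuasiCompact G.hom] [ConnectedSpace G.left]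
    {m : ℕ} (V : (aff k m).left.Opens) (π : cell V ⟶ G) (hπ : DenseRange π.left) : IsAffine G.left := by
  haveI : IsNoetherianRing (CommRingCat.of k) := inferInstanceAs (IsNoetherianRing k)
  haveI : IsSeparated G.hom := H19Grp.AffineQuotient.isSeparated_of_grp G
  haveI : IsLocallyNoetherian G.left := LocallyOfFiniteType.isLocallyNoetherian G.hom
  haveI : CompactSpace G.left := QuasiCompact.compactSpace_of_compactSpace G.hom
  haveI : QuasiSeparatedSpace G.left := quasiSeparatedSpace_of_quasiSeparated G.hom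
  haveI : GeometricallyConnected G.hom :=
    H28NT.geometricallyConnected_of_section G.hom η[G].left (Over.w η[G])
  haveI : IrreducibleSpace G.left := H25Grp.irreducibleSpace_group
  have hnorm : ∀ (S : Over (Spec (CommRingCat.of k))), Smooth S.hom → Pi1.IsNormalScheme S.left := fun S h => by
    haveI := h
    haveI : IsLocallyNoetherian S.left := LocallyOfFiniteType.isLocallyNoetherian S.hom
    exact H29Ref.isNormalScheme_of_regular (H19Grp.isRegularLocalRing_stalk_of_smooth S.hom)
  have hG : Pi1.IsNormalScheme G.left := hnorm G inferInstance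
  haveI : IsReduced G.left := by
    haveI : ∀ x, _root_.IsReduced (G.left.presheaf.stalk x) := fun x => by
      haveI := (hG x).1
      infer_instance
    exact isReduced_of_isReduced_stalk _
  haveI : IsIntegral G.left := isIntegral_of_irreducibleSpace_of_isReduced _
  haveI : GeometricallyIntegral G.hom := geometricallyIntegral_of_isIntegral' G
  haveI : Nonempty V := ⟨(hπ.nonempty (h := inferInstance)).some⟩
  haveI := geometricallyIntegral_cell V
  haveI : IsIntegral (cell V).left := GeometricallyIntegral.isIntegral_of_subsingleton (cell V).hom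
  haveI : CompactSpace (cell V).left := QuasiCompact.compactSpace_of_compactSpace (cell V).hom
  haveI : JacobsonSpace (cell V).left := LocallyOfFiniteType.jacobsonSpace (cell V).hom
  -- normalise
  obtain ⟨v₀, hv₀⟩ : ∃ v₀ : Pts (cell V), True := by
    obtain ⟨v, -, hvc⟩ := (isClosed_univ (X := (cell V).left)).exists_closed_singleton Set.univ_nonempty
    exact ⟨(Stab.exists_pnt hvc).choose, trivial⟩
  let c := (v₀ ≫ π)⁻¹
  let π₁ : cell V ⟶ G := π * (toUnit (cell V) ≫ c)
  have hπ₁0 : v₀ ≫ π₁ = 1 := by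
    rw [MonObj.comp_mul, ← Category.assoc, comp_toUnit, toUnit_unique (toUnit (𝟙_ _)) (𝟙 _), Category.id_comp,
      mul_inv_cancel]
  have hπ₁ : DenseRange π₁.left := by
    let τ : G ⟶ G := 𝟙 G * (toUnit G ≫ c)
    have hτ : IsIso τ := ⟨𝟙 G * (toUnit G ≫ c⁻¹), by
      constructor <;> rw [MonObj.comp_mul, Category.comp_id, ← Category.assoc, comp_toUnit, _root_.mul_assoc,
        ← MonObj.comp_mul] <;> simp⟩
    haveI := hτ
    haveI : IsIso τ.left := Functor.map_isIso (Over.forget _) τ
    have he : π₁ = π ≫ τ := by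
      rw [MonObj.comp_mul, Category.comp_id, ← Category.assoc, comp_toUnit]
    rw [he, Over.comp_left]
    exact τ.left.homeomorph.surjective.denseRange.comp hπ τ.left.continuous
  haveI : LocallyOfFiniteType π₁.left := by
    haveI : LocallyOfFiniteType (π₁.left ≫ G.hom) := by rw [Over.w π₁]; infer_instance
    exact locallyOfFiniteType_of_comp π₁.left G.hom
  haveI : QuasiCompact π₁.left := by
    haveI : QuasiCompact (π₁.left ≫ G.hom) := by rw [Over.w π₁]; infer_instance
    exact QuasiCompact.of_comp π₁.left G.hom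
  -- a generically finite subvariety
  have hgen : π₁.left (genericPoint (cell V).left) = genericPoint G.left := by
    have h : Set.range π₁.left ⊆ closure {π₁.left (genericPoint (cell V).left)} := by
      rintro _ ⟨x, rfl⟩
      exact specializes_iff_mem_closure.1
        (((genericPoint_spec (cell V).left).specializes trivial).map π₁.left.continuous)
    have h' : π₁.left (genericPoint (cell V).left) ⤳ genericPoint G.left := by
      rw [specializes_iff_mem_closure]
      exact closure_minimal h isClosed_closure (hπ₁.closure_range ▸ trivial)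
    exact (h'.antisymm ((genericPoint_spec G.left).specializes trivial)).eq
  let g := genericPoint G.left
  obtain ⟨z', hz'⟩ : ∃ z' : π₁.left.fiber g, IsClosed ({z'} : Set (π₁.left.fiber g)) := by
    haveI : QuasiCompact (π₁.left.fiberToSpecResidueField g) :=
      MorphismProperty.pullback_snd (P := @QuasiCompact) _ _ inferInstance
    haveI : CompactSpace (π₁.left.fiber g) :=
      QuasiCompact.compactSpace_of_compactSpace (π₁.left.fiberToSpecResidueField g)
    haveI : Nonempty (π₁.left.fiber g) := by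
      obtain ⟨z, -⟩ := (π₁.left.range_fiberι g).ge (show genericPoint (cell V).left ∈ π₁.left ⁻¹' {g} from hgen)
      exact ⟨z⟩
    obtain ⟨z, -, hz⟩ := (isClosed_univ (X := (π₁.left.fiber g))).exists_closed_singleton Set.univ_nonempty
    exact ⟨z, hz⟩
  let z := π₁.left.fiberι g z'
  have hπz : π₁.left z = g := (π₁.left.range_fiberι g).le ⟨z', rfl⟩
  obtain ⟨N, n, hn, hNint, hNgi, hnr⟩ := Stab.exists_closed_sub (closure {z}) isClosed_closure
    isIrreducible_singleton.closure
  haveI := hn
  haveI := hNint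
  haveI : LocallyOfFiniteType N.hom := by rw [← Over.w n]; infer_instance
  let f : N.left ⟶ G.left := n.left ≫ π₁.left
  have hfib : ∀ x : N.left, f x = g → n.left x = z := fun x hx => by
    have hx' : π₁.left (n.left x) = g := hx
    obtain ⟨x', hx''⟩ := (π₁.left.range_fiberι g).ge (show n.left x ∈ π₁.left ⁻¹' {g} from hx')
    have hcl : z ⤳ n.left x := specializes_iff_mem_closure.2 (hnr.le ⟨x, rfl⟩)
    rw [← hx''] at hcl ⊢
    have h2 : x' ∈ ({z'} : Set _) := hz'.closure_eq ▸ specializes_iff_mem_closure.1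
      ((π₁.left.fiberι g).isEmbedding.isInducing.specializes_iff.1 hcl)
    rw [Set.mem_singleton_iff.1 h2]
  obtain ⟨x₀, hx₀⟩ := hnr.ge (subset_closure rfl : z ∈ closure {z})
  have hfx₀ : f x₀ = g := by
    show π₁.left (n.left x₀) = g
    rw [hx₀, hπz]
  have hfib' : f.base ⁻¹' {g} = {x₀} := Set.ext fun x =>
    ⟨fun hx => n.left.isClosedEmbedding.injective ((hfib x hx).trans hx₀.symm),
      fun hx => (show x = x₀ from hx) ▸ hfx₀⟩
  obtain ⟨V₀, hV₀, hgV₀, -⟩ := exists_isAffineOpen_mem_and_subset (Set.mem_univ g) (U := (⊤ : G.left.Opens))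
  obtain ⟨U, hU, hxU, hUV⟩ := exists_isAffineOpen_mem_and_subset (x := x₀) (U := f ⁻¹ᵁ V₀)
    (by show f x₀ ∈ V₀; rw [hfx₀]; exact hgV₀)
  obtain ⟨s, hs, hsfin⟩ := H17.GenFinite.exists_isFinite_nhd f
    (show g ∈ genericPoints G.left by rw [genericPoints_eq_singleton]; rfl) hV₀ hgV₀
    (f.isCompact_preimage hV₀.isCompact) (hfib' ▸ Set.finite_singleton x₀) (fun _ => U)
    (fun x hx => ⟨hU, by rw [hfib'] at hx; exact (show x = x₀ from hx) ▸ hxU, hUV⟩)
    (hfib' ▸ Set.pairwiseDisjoint_singleton x₀ _)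
  let G₀ := G.left.basicOpen s
  haveI := hsfin
  let W : Over (Spec (CommRingCat.of k)) := Over.mk ((f ⁻¹ᵁ G₀).ι ≫ N.hom)
  let Gz : Over (Spec (CommRingCat.of k)) := Over.mk (G₀.ι ≫ G.hom)
  let jG : Gz ⟶ G := Over.homMk G₀.ι rfl
  let iW : W ⟶ N := Over.homMk (f ⁻¹ᵁ G₀).ι rfl
  let q₀ : W ⟶ Gz := Over.homMk (f ∣_ G₀) (by
    show (f ∣_ G₀) ≫ G₀.ι ≫ G.hom = (f ⁻¹ᵁ G₀).ι ≫ N.hom
    rw [← Category.assoc, morphismRestrict_ι, Category.assoc, Category.assoc, Over.w π₁, Over.w n])
  have hsq : q₀ ≫ jG = iW ≫ n ≫ π₁ := Over.OverMorphism.ext (morphismRestrict_ι f G₀)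
  haveI : IsFinite q₀.left := hsfin
  haveI : Nonempty W.left := ⟨(⟨x₀, by show f x₀ ∈ G₀; rw [hfx₀]; exact hs⟩ : (f ⁻¹ᵁ G₀))⟩
  haveI : IsIntegral W.left := isIntegral_of_isOpenImmersion (f ⁻¹ᵁ G₀).ι
  haveI : LocallyOfFiniteType W.hom := inferInstanceAs (LocallyOfFiniteType ((f ⁻¹ᵁ G₀).ι ≫ N.hom))
  haveI : GeometricallyIntegral W.hom := geometricallyIntegral_of_isIntegral' W
  haveI : Smooth Gz.hom := inferInstanceAs (Smooth (G₀.ι ≫ G.hom))
  haveI : Nonempty Gz.left := ⟨(⟨g, hs⟩ : G₀)⟩
  haveI : IsIntegral Gz.left := isIntegral_of_isOpenImmersion G₀.ι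
  haveI : IrreducibleSpace (G₀ : Scheme.{u}) := inferInstanceAs (IrreducibleSpace Gz.left)
  haveI : Surjective q₀.left := by
    refine ⟨Set.range_eq_univ.1 ?_⟩
    have hmem : genericPoint Gz.left ∈ Set.range q₀.left := by
      refine ⟨(⟨x₀, by show f x₀ ∈ G₀; rw [hfx₀]; exact hs⟩ : (f ⁻¹ᵁ G₀)), G₀.ι.isOpenEmbedding.injective ?_⟩
      refine Eq.trans ?_ (genericPoint_eq_of_isOpenImmersion G₀.ι).symm
      refine Eq.trans ?_ hfx₀
      refine (Scheme.Hom.comp_apply (f ∣_ G₀) G₀.ι _).symm.trans ?_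
      rw [morphismRestrict_ι, Scheme.Hom.comp_apply, Scheme.Opens.ι_apply]
    refine Set.eq_univ_of_univ_subset ?_
    rw [← (genericPoint_spec Gz.left).def]
    exact closure_minimal (Set.singleton_subset_iff.2 hmem) q₀.left.isClosedMap.isClosed_range
  -- products
  have hLFT : ∀ (A : Over (Spec (CommRingCat.of k))), LocallyOfFiniteType A.hom →
      LocallyOfFiniteType (A ⊗ G).hom := fun A hA => by
    rw [Over.tensorObj_hom]
    haveI : LocallyOfFiniteType (pullback.fst A.hom G.hom) :=
      MorphismProperty.pullback_fst (P := @LocallyOfFiniteType) _ _ inferInstance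
    infer_instance
  have hint : ∀ (A : Over (Spec (CommRingCat.of k))), LocallyOfFiniteType A.hom → GeometricallyIntegral A.hom →
      IsIntegral (A ⊗ G).left := fun A hA hA' => by
    haveI : IsLocallyNoetherian A.left := LocallyOfFiniteType.isLocallyNoetherian A.hom
    haveI : IsIntegral A.left := GeometricallyIntegral.isIntegral_of_subsingleton A.hom
    exact inferInstanceAs (IsIntegral (pullback A.hom G.hom))
  have hsm : ∀ (A : Over (Spec (CommRingCat.of k))), Smooth A.hom → Smooth (A ⊗ G).hom := fun A hA => by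
    rw [Over.tensorObj_hom]
    haveI : Smooth (pullback.fst A.hom G.hom) := MorphismProperty.pullback_fst (P := @Smooth) _ _ inferInstance
    infer_instance
  haveI : IsIntegral (W ⊗ G).left := hint W inferInstance inferInstance
  haveI : IsIntegral (Gz ⊗ G).left := hint Gz inferInstance (geometricallyIntegral_of_isIntegral' Gz)
  haveI : IsIntegral (G ⊗ G).left := hint G inferInstance inferInstance
  haveI : IsFinite (q₀ ▷ G).left := by
    rw [Over.whiskerRight_left]
    exact MorphismProperty.pullbackMap (P := @IsFinite) (inferInstanceAs (IsFinite q₀.left))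
      (inferInstanceAs (IsFinite (𝟙 _))) (Over.w q₀).symm (Category.id_comp _).symm
  haveI : Surjective (q₀ ▷ G).left := by
    rw [Over.whiskerRight_left]
    exact MorphismProperty.pullbackMap (P := @Surjective) (inferInstanceAs (Surjective q₀.left))
      (inferInstanceAs (Surjective (𝟙 _))) (Over.w q₀).symm (Category.id_comp _).symm
  haveI : IsOpenImmersion (jG ▷ G).left := by
    rw [Over.whiskerRight_left]
    exact MorphismProperty.pullbackMap (P := @IsOpenImmersion) (inferInstanceAs (IsOpenImmersion G₀.ι))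
      (inferInstanceAs (IsOpenImmersion (𝟙 _))) (Over.w jG).symm (Category.id_comp _).symm
  refine exists_isAffine_of_torsion fun L x y => ?_
  let Θ : PC (G ⊗ G).left := ev L μ[G] - ev L (fst G G) - ev L (snd G G)
  have hΘ : ∀ {T : Over (Spec (CommRingCat.of k))} (a b : T ⟶ G),
      ev Θ (lift a b) = ev L (a * b) - ev L a - ev L b := fun a b => by
    simp only [Θ, ev, map_sub, pullP_pullP, ← Over.comp_left, lift_fst, lift_snd]
    rfl
  -- trivial after pulling back to the cell
  have h0 : ev Θ (π₁ ▷ G) = 0 := by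
    refine cell_eq_zero V G hG v₀ _ ?_
    rw [ev_comp, lift_whiskerRight, hΘ, Category.assoc, hπ₁0, MonObj.comp_one, _root_.one_mul]
    rw [show (1 : G ⟶ G) = toUnit G ≫ (1 : Pts G) from (MonObj.comp_one _).symm, ev_toUnit, sub_zero, sub_self]
  have h1 : pullP (q₀ ▷ G).left (ev Θ (jG ▷ G)) = 0 := by
    show ev (ev Θ (jG ▷ G)) (q₀ ▷ G) = 0
    rw [ev_comp, ← comp_whiskerRight, hsq, ← Category.assoc iW n π₁, comp_whiskerRight, ← ev_comp, h0]
    exact map_zero _
  obtain ⟨d, hd, hd0⟩ := exists_nsmul_eq_zero_of_finite (q₀ ▷ G).left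
    (fun w => (hnorm _ (hsm Gz inferInstance) w).2) _ h1
  -- the class comes from the first factor
  let φ : (G ⊗ G).left ⟶ G.left := pullback.fst G.hom G.hom
  haveI : Flat φ := MorphismProperty.pullback_fst (P := @Flat) _ _ inferInstance
  haveI : LocallyOfFiniteType φ := MorphismProperty.pullback_fst (P := @LocallyOfFiniteType) _ _ inferInstance
  haveI : LocallyOfFinitePresentation φ := inferInstance
  haveI : GeometricallyIntegral φ := MorphismProperty.pullback_fst (P := @GeometricallyIntegral) _ _ inferInstance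
  haveI : LocallyOfFiniteType (G ⊗ G).hom := hLFT G inferInstance
  haveI : IsLocallyNoetherian (G ⊗ G).left := LocallyOfFiniteType.isLocallyNoetherian (G ⊗ G).hom
  have hfibφ : ∀ y : G.left, IsIntegral (φ.fiber y) := fun y => inferInstance
  have hsurj := H11GenFibre.surjective_of_fibres φ hfibφ
  have hopen : ∀ O : Set G.left, IsOpen (φ ⁻¹' O) → IsOpen O := fun O hO => by
    rw [← Set.image_preimage_eq O hsurj]
    exact φ.isOpenMap _ hO
  obtain ⟨M, hM, hMe⟩ := exists_rep (d • Θ)
  let j := (jG ▷ G).left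
  obtain ⟨θ'⟩ : Nonempty ((Scheme.Modules.pullback j).obj M ≅ Coh.structureModule (Gz ⊗ G).left) := by
    rw [← pc_eq_iff (H11Ample.isInvertible_pullback j hM) H11Ample.isInvertible_structureModule,
      pullP_pc j M hM, pc_one, hMe, map_nsmul]
    exact hd0
  obtain ⟨v, hv⟩ := H11GenFibre.exists_good_on_range j θ'
    (fun w => ConcreteCategory.bijective_of_isIso (j.stalkMap w)) hM (genericPoint (Gz ⊗ G).left)
    (genericPoint_eq_of_isOpenImmersion j) fun w => (genericPoint_spec (Gz ⊗ G).left).specializes trivial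
  obtain ⟨N', hN', ⟨eN⟩⟩ := H11GenFibre.exists_invertible φ hsurj v hG hfibφ hopen hM fun w hw => by
    have hw' : w ∈ Set.range j := by
      show w ∈ Set.range (jG ▷ G).left
      rw [Over.whiskerRight_left]
      refine (Scheme.Pullback.range_map _ _ _ _ _ _ _ _ _).ge ⟨?_, ?_⟩
      · show φ w ∈ Set.range G₀.ι
        rw [Scheme.Opens.range_ι, hw]
        exact hs
      · simp
    obtain ⟨w', rfl⟩ := hw'
    exact hv w'
  have hMN : d • Θ = pullP φ (pc N' hN') := by
    rw [← hMe, ← pullP_pc φ N' hN' (H11Ample.isInvertible_pullback φ hN')]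
    exact (pc_eq_iff _ _).2 ⟨eN⟩
  have hzero : d • Θ = 0 := by
    have h2 := congrArg (pullP (lift (𝟙 G) (toUnit G ≫ (1 : Pts G))).left) hMN
    rw [map_nsmul, pullP_pullP, show (lift (𝟙 G) (toUnit G ≫ (1 : Pts G))).left ≫ φ = 𝟙 G.left from
      congrArg CommaMorphism.left (lift_fst (𝟙 G) _), pullP_id] at h2
    rw [show pullP (lift (𝟙 G) (toUnit G ≫ (1 : Pts G))).left Θ = ev Θ (lift (𝟙 G) (toUnit G ≫ (1 : Pts G))) from rfl,
      hΘ, ev_toUnit, MonObj.comp_one, _root_.mul_one, sub_zero, sub_self, smul_zero] at h2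
    rw [hMN, ← h2, map_zero]
  have key : ∀ (a b : G ⟶ G), d • (ev L (a * b) - ev L a - ev L b) = 0 := fun a b => by
    rw [← hΘ, ev, ← map_nsmul, hzero, map_zero]
  refine ⟨d, hd, ?_⟩
  have e1 := key (𝟙 G) (toUnit G ≫ x)
  have e2 := key (toUnit G ≫ y) (𝟙 G)⁻¹
  have e3 := key (𝟙 G) (𝟙 G)⁻¹
  rw [mul_inv_cancel, show (1 : G ⟶ G) = toUnit G ≫ (1 : Pts G) from (MonObj.comp_one _).symm] at e3
  simp only [ev_toUnit, smul_sub, smul_zero, sub_zero] at e1 e2 e3
  rw [smul_add, sub_eq_zero.1 e1, sub_eq_zero.1 e2]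
  rw [zero_sub, neg_sub_left, neg_eq_zero] at e3
  rw [← e3, add_comm]

end Groth.Agent.H19Chev
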