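import Groth.Agent.H19Grp.UnitsProd
import Groth.Agent.H21Hom.SpecGrp
import Groth.Agent.H20Comod.Primitive

set_option autoImplicit false
set_option maxHeartbeats 1000000
set_option synthInstance.maxHeartbeats 100000
set_option linter.style.haveILetI false
set_option backward.isDefEq.respectTransparency false

universe u

open CategoryTheory CategoryTheory.Limits MonoidalCategory CartesianMonoidalCategory MonObj GrpObj AlgebraicGeometry
open Groth.Agent.H19Grp.UnitsProd

namespace Groth.Agent.H19Chev.UnitsAxes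

/-- a map from a product of connected reduced varieties to a diagonalisable group, trivial on the axes, is trivial -/
theorem eq_one {K : Type u} [Field K] [IsAlgClosed K] {X Y : Over (Spec (CommRingCat.of K))}
    [LocallyOfFiniteType X.hom] [QuasiCompact X.hom] [ConnectedSpace X.left] [IsReduced X.left]
    [LocallyOfFiniteType Y.hom] [QuasiCompact Y.hom] [ConnectedSpace Y.left] [IsReduced Y.left]
    (x : 𝟙_ (Over (Spec (CommRingCat.of K))) ⟶ X) (y : 𝟙_ (Over (Spec (CommRingCat.of K))) ⟶ Y)
    {A : Type u} [CommRing A] [HopfAlgebra K A] (hA : HopfRep.IsDiagonalizable K A)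
    (ψ : X ⊗ Y ⟶ H21Hom.specGrp K A)
    (hX : lift (𝟙 X) (toUnit X ≫ y) ≫ ψ = 1) (hY : lift (toUnit Y ≫ x) (𝟙 Y) ≫ ψ = 1) : ψ = 1 := by
  let G := H21Hom.specGrp K A
  haveI : IsAffine G.left := inferInstanceAs (IsAffine (Spec _))
  let cl : A →+* Γ(G.left, ⊤) := (Scheme.ΓSpecIso (CommRingCat.of A)).inv.hom
  have hη : (η[G] : 𝟙_ _ ⟶ G).left = Spec.map (CommRingCat.ofHom (Bialgebra.counitAlgHom K A).toRingHom) := rfl
  have hone : ∀ (W : Over (Spec (CommRingCat.of K))) (a : A),
      pb (1 : W ⟶ G) (cl a) = W.hom.appTop.hom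
        ((Scheme.ΓSpecIso (CommRingCat.of K)).inv.hom (Coalgebra.counit (R := K) a)) := by
    intro W a
    have hw : (toUnit W).left = W.hom := by
      have h := Over.w (toUnit W)
      change (toUnit W).left ≫ 𝟙 _ = W.hom at h
      rwa [Category.comp_id] at h
    have h1 : ((1 : W ⟶ G)).left = W.hom ≫ Spec.map (CommRingCat.ofHom (Bialgebra.counitAlgHom K A).toRingHom) := by
      rw [Hom.one_def, Over.comp_left, hw, hη]
    show ((1 : W ⟶ G)).left.appTop.hom (cl a) = _
    rw [h1, Scheme.Hom.comp_appTop]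
    show W.hom.appTop.hom ((Spec.map (CommRingCat.ofHom (Bialgebra.counitAlgHom K A).toRingHom)).appTop.hom
      ((Scheme.ΓSpecIso (CommRingCat.of A)).inv.hom a)) = _
    congr 1
    exact (ConcreteCategory.congr_hom (Scheme.ΓSpecIso_inv_naturality
      (CommRingCat.ofHom (Bialgebra.counitAlgHom K A).toRingHom)) a).symm
  refine Over.OverMorphism.ext (ext_of_isAffine ?_)
  refine (cancel_epi (Scheme.ΓSpecIso (CommRingCat.of A)).inv).1 (CommRingCat.hom_ext (RingHom.ext fun a => ?_))
  show pb ψ (cl a) = pb (1 : X ⊗ Y ⟶ G) (cl a)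
  have ha : a ∈ Submodule.span K {g : A | IsGroupLikeElem K g} := hA.ge trivial
  have hc : ∀ c : K, pb ψ (cl (algebraMap K A c)) = pb (1 : X ⊗ Y ⟶ G) (cl (algebraMap K A c)) := by
    intro c
    have e : cl (algebraMap K A c) = G.hom.appTop.hom ((Scheme.ΓSpecIso (CommRingCat.of K)).inv.hom c) :=
      ConcreteCategory.congr_hom (Scheme.ΓSpecIso_inv_naturality (CommRingCat.ofHom (algebraMap K A))) c
    have h2 : ∀ m : X ⊗ Y ⟶ G, pb m (cl (algebraMap K A c)) =
        (X ⊗ Y).hom.appTop.hom ((Scheme.ΓSpecIso (CommRingCat.of K)).inv.hom c) := fun m => by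
      rw [e]
      show (G.hom.appTop ≫ m.left.appTop).hom _ = _
      rw [← Scheme.Hom.comp_appTop, Over.w m]
    rw [h2, h2]
  induction ha using Submodule.span_induction with
  | mem g hg =>
    rw [hone, hg.counit_eq_one, map_one, map_one]
    refine H19Grp.UnitsProd.eq_one x y (pb ψ (cl g)) ((hg.isUnit.map cl).map (pb ψ)) ?_ ?_
    · rw [← pb_comp, hX, hone, hg.counit_eq_one, map_one, map_one]
    · rw [← pb_comp, hY, hone, hg.counit_eq_one, map_one, map_one]
  | zero => simp only [map_zero]
  | add a b _ _ ha hb => simp only [map_add, ha, hb]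
  | smul c a _ ha => rw [Algebra.smul_def, map_mul, map_mul, map_mul, ha, hc]

end Groth.Agent.H19Chev.UnitsAxes
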